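import Cfsg.Agent.Mrg.Omega.NSix.JNot
import Cfsg.Agent.Mrg.Omega.NSix.TLg
import Cfsg.Agent.Mrg.Omega.NSix.Engine.ThmT
import Cfsg.Agent.Mrg.Omega.S5.SymBig
import Cfsg.Agent.Mrg.Omega.NSix.Zero
import Cfsg.Agent.Mrg.Omega.NO3S.SN.Plug
import Cfsg.Agent.Mrg.Omega.NSix.MatchApp
import Cfsg.Agent.Mrg.Omega.NO3b.FPB.Cen
import Cfsg.Agent.Mrg.Omega.S5.Def
import Cfsg.Agent.Mrg.Omega.Assembly
import Cfsg.Agent.Mrg.Omega.NSix.HTwo.Vec
import Cfsg.Agent.Mrg.Omega.NSix.CaseJ.Blk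
import Cfsg.Agent.Mrg.Omega.NSix.CaseJ.Exact
import Cfsg.Agent.Mrg.Omega.OM.BlkGen
import Cfsg.Agent.Mrg.Omega.MutE.Perm
import Cfsg.Agent.Mrg.Omega.NSix.HT.Key
import Cfsg.Agent.Mrg.Omega.FFBr.Final
import Cfsg.Agent.Mrg.Omega.S5.NatBig
import Mathlib
import Cfsg.Agent.Mrg.Omega.NTwo.Zero
import Cfsg.Agent.Mrg.Omega.TTn.BOne
import Cfsg.Agent.Mrg.Omega.IId.Big.RedOf

-- merged: Cfsg.Agent.Mrg.Omega.NSix.HT.LemN
section

/-!
# OMEGA N6, (H2) without (ML) and without SN (helper605 #18920): (1) and (2)  (helper250)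

Over `LemTwo.In S V P ε i j` (helper537). `N = C_G(r_ij)`, `L = N_G(V)`, `X₀ = XX ε i j = ⟨U_ik⟩`,
`Q⁰ = Q0 ε i j = O₂(N) ∩ C_G(V)`; the functional `λ : O₂(N) → ⟨r_ij⟩` (`q` acts on `V` as `(i j)^λ(q)`) has kernel `Q⁰`.

* `mem_norm` : LEMMA N: `x ∈ N`, `X₀ ≤ L^x` implies `x ∈ L`;
* `syl_D`, `norm_syl` : for `r_ij ∈ D ≤ V` and `T` Sylow in `C_L(D)`: `T` is Sylow in `C_G(D)`, its normaliser in
  `C_G(D)` is in `L`; more generally `mem_of_le`;
* `fusion` : for `x ∈ N` there is `c ∈ C_G(V ∩ V^x)` with `V^x = V^c`;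
* `two` : (2): if `V` and `V^x` commute, `x ∈ N`, then `[Q⁰, U_ik]` centralises `V^x`;
* `L_fix` : `L ∩ N` fixes `λ`.
-/

set_option autoImplicit false
set_option linter.unusedSectionVars false

namespace Cfsg.Agent.Omega.NSix.HT

open Subgroup Cfsg
open Cfsg.Agent.ZN (o2 zc zl)
open Cfsg.Agent.ZN.ChoiceSit (Syl)
open Cfsg.Agent.MinSimple.VModule (o2_le o2_isPGroup le_normalizer_o2 le_o2)
open Cfsg.Agent.Omega.S5.Def Cfsg.Agent.Omega.S5.Syl
open Cfsg.Agent.Omega.NSix.Base Cfsg.Agent.Omega.NSix.Basic Cfsg.Agent.Omega.NSix.Engine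
open Cfsg.Agent.Omega.NSix.CosetAct (V0 mem_V0)
open Cfsg.Agent.Omega.NSix.HTwo.LemTwo
open Cfsg.Agent.Omega.NSix.HT.Five (Q0)
open Cfsg.Agent.Omega.TTn.Di (cm cj)
open Cfsg.Agent.Omega.TTn Cfsg.Agent.Omega

universe u

section

variable {G : Type u} [Group G] [Finite G] {m : ℕ} {S : Sylow 2 G} {V P : Subgroup G}
  {ε : (Fin (2 ^ m + 1) → ZMod 2) → G} {i j : Fin (2 ^ m + 1)}

theorem mem_Q0 {q : G} : q ∈ Q0 ε i j ↔ q ∈ o2 (NN ε i j) ∧ q ∈ KK ε := Iff.rfl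

/-- `O₂(N)` is normalised by `N` -/
theorem o2_norm {g q : G} (hg : g ∈ NN ε i j) (hq : q ∈ o2 (NN ε i j)) : g * q * g⁻¹ ∈ o2 (NN ε i j) :=
  (mem_normalizer_iff.1 (le_normalizer_o2 (NN ε i j) hg) q).1 hq

variable (h : In S V P ε i j)
include h

/-- `L` acts on `C_G(V)` -/
theorem KK_norm {g x : G} (hg : g ∈ normalizer (V : Set G)) (hx : x ∈ KK ε) : g * x * g⁻¹ ∈ KK ε := by
  obtain ⟨σ, hσ⟩ := h.evL.perm g hg
  exact Fr.KK_conj hσ hx

/-- `L ∩ N` fixes `λ` -/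
theorem Q0_norm {g q : G} (hgN : g ∈ NN ε i j) (hg : g ∈ normalizer (V : Set G)) (hq : q ∈ Q0 ε i j) :
    g * q * g⁻¹ ∈ Q0 ε i j := ⟨o2_norm hgN hq.1, KK_norm h hg hq.2⟩

theorem L_fix {g : G} (hgN : g ∈ NN ε i j) (hg : g ∈ normalizer (V : Set G)) :
    g ∈ normalizer (Q0 ε i j : Set G) :=
  DiCoreAbs.mem_norm_of fun _ hq => Q0_norm h hgN hg hq

/-- **LEMMA N** -/
theorem mem_norm {g : G} (hg : g ∈ NN ε i j) (hX : ∀ x ∈ XX ε i j, g⁻¹ * x * g ∈ normalizer (V : Set G)) :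
    g ∈ normalizer (V : Set G) := by
  refine h.cut ⟨hg, lem2 h.hyp h.evL h.ij h.one h.cut hg fun x hx => h.L_norm ⟨hX x hx, ?_⟩⟩
  have h1 : g⁻¹ * x * g ∈ NN ε i j := mul_mem (mul_mem (inv_mem hg) (KK_le_NN i j (XX_le_KK h.hyp hx))) hg
  exact h1

/-- LEMMA N for subgroups: `X₀ ≤ A`, `A^g ≤ L` -/
theorem mem_of_le {A : Subgroup G} (hXA : XX ε i j ≤ A) {g : G} (hg : g ∈ NN ε i j)
    (hA : ∀ x ∈ A, g⁻¹ * x * g ∈ normalizer (V : Set G)) : g ∈ normalizer (V : Set G) :=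
  mem_norm h hg fun x hx => hA x (hXA hx)

/-- `X₀ ≤ O₂(C_G(V)) ≤ T` -/
theorem XX_le_syl {D T : Subgroup G} (hD : D ≤ V) (hT : Syl T (centralizer (D : Set G) ⊓ normalizer (V : Set G))) :
    XX ε i j ≤ T := by
  refine le_trans ?_ (ZN.ChoiceSit.o2_le_syl hT)
  refine (XX_le_o2 h.hyp).trans (le_o2 ?_ (o2_isPGroup _) ?_)
  · refine (o2_le _).trans fun x hx => ⟨?_, ?_⟩
    · rw [KK_eq h.hyp] at hx
      exact centralizer_le hD hx
    · rw [KK_eq h.hyp] at hx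
      exact (Subgroup.centralizer_le_normalizer (V : Set G)) hx
  · intro g hg
    refine DiCoreAbs.mem_norm_of fun x hx => Zero.o2_conj (fun x hx => KK_norm h hg.2 hx) (fun x hx => ?_) hx
    have h1 := KK_norm h (inv_mem hg.2) hx
    rwa [inv_inv] at h1

theorem centralizer_le_NN {D : Subgroup G} (hr : rr ε i j ∈ D) : centralizer (D : Set G) ≤ NN ε i j :=
  fun _ hx => mem_NN.2 ((mem_centralizer_iff.1 hx _ hr).symm)

/-- `N_{C_G(D)}(T) ≤ L` -/
theorem norm_syl {D T : Subgroup G} (hD : D ≤ V) (hr : rr ε i j ∈ D)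
    (hT : Syl T (centralizer (D : Set G) ⊓ normalizer (V : Set G))) :
    centralizer (D : Set G) ⊓ normalizer (T : Set G) ≤ normalizer (V : Set G) := by
  rintro g ⟨hg, hgT⟩
  refine mem_of_le h (XX_le_syl h hD hT) (centralizer_le_NN h hr hg) fun x hx => ?_
  have h1 := (mem_normalizer_iff.1 (inv_mem hgT) x).1 hx
  rw [inv_inv] at h1
  exact (hT.1 h1).2

/-- **`T` is a Sylow 2-subgroup of `C_G(D)`** -/
theorem syl_D {D T : Subgroup G} (hD : D ≤ V) (hr : rr ε i j ∈ D)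
    (hT : Syl T (centralizer (D : Set G) ⊓ normalizer (V : Set G))) : Syl T (centralizer (D : Set G)) := by
  refine ⟨hT.1.trans inf_le_left, hT.2.1, fun R hRN hR hTR => ?_⟩
  refine (ZN.ChoiceNse.eq_of_normalizer_inf_le hR hTR ?_).symm
  have h1 := hT.2.2 (normalizer (T : Set G) ⊓ R) (fun g hg => ⟨hRN hg.2, norm_syl h hD hr hT ⟨hRN hg.2, hg.1⟩⟩)
    (hR.to_le inf_le_right) (le_inf le_normalizer hTR)
  exact h1.le

/-- **(FUSION)** -/
theorem fusion {x : G} (hx : x ∈ NN ε i j) :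
    ∃ c ∈ centralizer ((V ⊓ V.map (MulAut.conj x).toMonoidHom : Subgroup G) : Set G),
      c⁻¹ * x ∈ normalizer (V : Set G) := by
  set D : Subgroup G := V ⊓ V.map (MulAut.conj x).toMonoidHom with hDd
  set D' : Subgroup G := D.map (MulAut.conj x⁻¹).toMonoidHom with hD'd
  have hr : rr ε i j ∈ D := by
    refine ⟨rr_mem h.hyp.ev i j, rr ε i j, rr_mem h.hyp.ev i j, ?_⟩
    exact mem_NN'.1 hx
  have hr' : rr ε i j ∈ D' := by
    refine ⟨rr ε i j, hr, ?_⟩
    exact mem_NN'.1 (inv_mem hx)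
  have hD' : D' ≤ V := by
    rintro _ ⟨_, ⟨-, v, hv, rfl⟩, rfl⟩
    change x⁻¹ * (x * v * x⁻¹) * x⁻¹⁻¹ ∈ V
    have h1 : x⁻¹ * (x * v * x⁻¹) * x⁻¹⁻¹ = v := by group
    rw [h1]; exact hv
  obtain ⟨T, hT, -⟩ := ZN.ChoiceSit.exists_syl (T := ⊥)
    (X := centralizer (D : Set G) ⊓ normalizer (V : Set G)) IsPGroup.of_bot bot_le
  obtain ⟨T', hT', -⟩ := ZN.ChoiceSit.exists_syl (T := ⊥)
    (X := centralizer (D' : Set G) ⊓ normalizer (V : Set G)) IsPGroup.of_bot bot_le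
  have e1 := syl_D h inf_le_left hr hT
  have e2 := syl_D h hD' hr' hT'
  have hcen : ∀ c, c ∈ centralizer (D' : Set G) ↔ x * c * x⁻¹ ∈ centralizer (D : Set G) := by
    intro c
    rw [mem_centralizer_iff, mem_centralizer_iff]
    constructor
    · intro hc d hd
      have h1 := hc (x⁻¹ * d * x) ⟨d, hd, by change x⁻¹ * d * x⁻¹⁻¹ = _; rw [inv_inv]⟩
      calc d * (x * c * x⁻¹) = x * (x⁻¹ * d * x * c) * x⁻¹ := by group
        _ = x * (c * (x⁻¹ * d * x)) * x⁻¹ := by rw [h1]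
        _ = _ := by group
    · rintro hc _ ⟨d, hd, rfl⟩
      change x⁻¹ * d * x⁻¹⁻¹ * c = c * (x⁻¹ * d * x⁻¹⁻¹)
      have h1 := hc d hd
      calc x⁻¹ * d * x⁻¹⁻¹ * c = x⁻¹ * (d * (x * c * x⁻¹)) * x := by group
        _ = x⁻¹ * ((x * c * x⁻¹) * d) * x := by rw [h1]
        _ = _ := by group
  have e3 : Syl (T'.map (MulAut.conj x).toMonoidHom) (centralizer (D : Set G)) := by
    refine ⟨?_, e2.2.1.map _, fun R hR hR2 hTR => ?_⟩
    · rintro _ ⟨t, ht, rfl⟩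
      exact (hcen t).1 (e2.1 ht)
    · have h1 := e2.2.2 (R.map (MulAut.conj x⁻¹).toMonoidHom) (by
        rintro _ ⟨t, ht, rfl⟩
        refine (hcen _).2 ?_
        have h2 : x * (MulAut.conj x⁻¹).toMonoidHom t * x⁻¹ = t := by
          change x * (x⁻¹ * t * x⁻¹⁻¹) * x⁻¹ = t
          group
        rw [h2]
        exact hR ht) (hR2.map _) (by
        intro t ht
        refine ⟨x * t * x⁻¹, hTR ⟨t, ht, rfl⟩, ?_⟩
        change x⁻¹ * (x * t * x⁻¹) * x⁻¹⁻¹ = t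
        group)
      rw [← h1]
      ext r
      constructor
      · intro hr
        refine ⟨x⁻¹ * r * x⁻¹⁻¹, ⟨r, hr, rfl⟩, ?_⟩
        change x * (x⁻¹ * r * x⁻¹⁻¹) * x⁻¹ = r
        group
      · rintro ⟨_, ⟨r', hr', rfl⟩, rfl⟩
        change x * (x⁻¹ * r' * x⁻¹⁻¹) * x⁻¹ ∈ R
        have h2 : x * (x⁻¹ * r' * x⁻¹⁻¹) * x⁻¹ = r' := by group
        rw [h2]; exact hr'
  obtain ⟨c, hc, hcT⟩ := ZN.ChoiceSit.syl_conj e3 e1
  refine ⟨c⁻¹, inv_mem hc, ?_⟩
  rw [inv_inv]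
  refine mem_of_le h (XX_le_syl h inf_le_left hT) (mul_mem (centralizer_le_NN h hr hc) hx) fun y hy => ?_
  rw [← hcT] at hy
  obtain ⟨_, ⟨t, ht, rfl⟩, rfl⟩ := hy
  have h1 : (c * x)⁻¹ * (MulAut.conj c).toMonoidHom ((MulAut.conj x).toMonoidHom t) * (c * x) = t := by
    change (c * x)⁻¹ * (c * (x * t * x⁻¹) * c⁻¹) * (c * x) = t
    group
  rw [h1]
  exact (hT'.1 ht).2

/-- **(2)** -/
theorem two {x : G} (hx : x ∈ NN ε i j) (hV : ∀ v ∈ V, ∀ v' ∈ V, v * (x * v' * x⁻¹) = x * v' * x⁻¹ * v)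
    {k : Fin (2 ^ m + 1)} (hki : k ≠ i) (hkj : k ≠ j) {a q : G} (ha : a ∈ UU ε i k) (hq : q ∈ Q0 ε i j) :
    ∀ v ∈ V, a⁻¹ * (q * a * q⁻¹) * (x * v * x⁻¹) = x * v * x⁻¹ * (a⁻¹ * (q * a * q⁻¹)) := by
  intro v hv
  obtain ⟨w, F⟩ := h.hyp.exists_fr
  obtain ⟨-, h2⟩ := F.uq h.ij hki hkj ha hq.1 hq.2
  unfold TTn.Di.cj at h2
  -- `U_ij` centralises `V^x`
  have h3 : ∀ y ∈ UU ε i j, y * (x * v * x⁻¹) = x * v * x⁻¹ * y := by
    intro y hy
    have h4 := UU_normal (inv_mem hx) hy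
    rw [inv_inv] at h4
    have h5 := mem_KK'.1 (h.hyp.UK h.ij h4)
    obtain ⟨f, rfl⟩ := h.hyp.ev.surj v hv
    calc y * (x * ε f * x⁻¹) = x * (x⁻¹ * y * x * ε f) * x⁻¹ := by group
      _ = x * (ε f * (x⁻¹ * y * x)) * x⁻¹ := by rw [h5]
      _ = _ := by group
  have h6 := hV (zz ε j) (zz_mem h.hyp.ev j) v hv
  rcases h2 with h2 | h2
  · exact h3 _ h2
  · have h7 := h3 _ h2
    have h8 : a⁻¹ * (q * a * q⁻¹) = a⁻¹ * (q * a * q⁻¹) * zz ε j * (zz ε j)⁻¹ := by group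
    have h9 : (zz ε j)⁻¹ * (x * v * x⁻¹) = x * v * x⁻¹ * (zz ε j)⁻¹ := by
      rw [zz_inv h.hyp.ev]; exact h6
    rw [h8, mul_assoc _ (zz ε j)⁻¹, h9, ← mul_assoc, h7, mul_assoc]

end

end Cfsg.Agent.Omega.NSix.HT

end

-- merged: Cfsg.Agent.Mrg.Omega.NSix.HT.Four
section

/-!
# OMEGA N6, (H2) without (ML) and THEOREM SN: #18920 (helper605) (4)

* `tl` : (TL'): `u ∈ U_ij`, `[u, U_ik] ≤ ⟨c⟩`, `c ∈ V_ij` ⟹ `[u, U_ik] = 1`;
* `kill` : `T ≥ XX`, `|T : K| ≤ 2`, `XX ≰ K`, `u ∈ U_ij`, `[u, K] ≤ ⟨ξ⟩`, `ξ ∈ C_V(T)` ⟹ `u ∈ V`;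
* `four` : `C_G(r_ij, z_k)` fixes `λ` (normalises `Q0 ε i j`), from (1), (3) as hypotheses `syl`, `fus`, `key`.
-/

set_option autoImplicit false
set_option linter.unusedSectionVars false

namespace Cfsg.Agent.Omega.NSix.HT.Four

open Subgroup Cfsg
open Cfsg.Agent.ZN (o2 zc zl)
open Cfsg.Agent.ZN.ChoiceSit (Syl)
open Cfsg.Agent.MinSimple.VModule (o2_le o2_isPGroup le_normalizer_o2 le_o2 mem_zc)
open Cfsg.Agent.Omega.S5.Def Cfsg.Agent.Omega.S5.Syl
open Cfsg.Agent.Omega.NSix.Base Cfsg.Agent.Omega.NSix.Basic Cfsg.Agent.Omega.NSix.Engine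
open Cfsg.Agent.Omega.NSix.Engine.Fr (Cen)
open Cfsg.Agent.Omega.NSix.CosetAct (V0 mem_V0)
open Cfsg.Agent.Omega.NSix.HTwo.LemTwo (In XX mem_XX KK_le_NN KK_eq exists_half pair_of XX_le_KK V0_le)
open Cfsg.Agent.Omega.NSix.HTwo (cS mem_cS cS_le comm_of_cS)
open Cfsg.Agent.Omega.NSix.HT.Five (Q0 fix_of_acts)
open Cfsg.Agent.Omega.NSix.TLEnd (Sy Nc)
open Cfsg.Agent.MinSimple.MinParabolic (IsMinPar)
open Cfsg.Agent.Omega.TTn.Di (cm cj cj_mul cj_inv cj_cj cj_one cj_eq_of_comm comm_of_cj cj_eq_cm cm_eq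
  cm_one_iff cm_eq')
open Cfsg.Agent.Omega.TTn

universe u

variable {G : Type u} [Group G] [Finite G]

section tl

variable {n : ℕ} {V P : Subgroup G} {ε : (Fin n → ZMod 2) → G} {i j k : Fin n} {S : Sylow 2 G} {m : ℕ}

omit [Finite G] in
theorem cj_cm (g a b : G) : cj g (cm a b) = cm (cj g a) (cj g b) := by
  unfold cj cm; group

/-- **(TL')** -/
theorem tl (s : Sy S V P ε m) (hnc : Nc ε) (hij : i ≠ j) (hki : k ≠ i) (hkj : k ≠ j) {u : G}
    (hu : u ∈ UU ε i j) {v : Fin n → ZMod 2} (hv : v i = v j)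
    (hc : ∀ y ∈ UU ε i k, cm u y = 1 ∨ cm u y = ε v) : Cen (UU ε) u i k := by
  by_contra hne
  have hne' : ∃ y0 ∈ UU ε i k, ¬ u * y0 = y0 * u := by
    by_contra hcon
    push Not at hcon
    exact hne hcon
  obtain ⟨y0, hy0, hne0⟩ := hne'
  have h := s.hyp
  obtain ⟨w, F⟩ := h.exists_fr
  have hy0v : cm u y0 = ε v := (hc y0 hy0).resolve_left fun h1 => hne0 (cm_one_iff.1 h1)
  have hv1 : ε v ≠ 1 := fun h1 => hne0 (cm_one_iff.1 (hy0v.trans h1))
  have huK := F.UK hij hu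
  -- `v i = v k`
  have hvk : v i = v k := by
    rw [← F.eU hki.symm, ← hy0v]
    exact F.cm_right hki.symm huK hy0
  have hjk : j ≠ k := hkj.symm
  -- `w = w j k` fixes `ε v`
  have hwv : cj (w j k) (ε v) = ε v := by
    have h1 := F.wA hjk v
    have h2 : v ∘ (Equiv.swap j k).symm = v := by
      funext a
      rw [Function.comp_apply, Equiv.symm_swap]
      rcases eq_or_ne a j with rfl | haj
      · rw [Equiv.swap_apply_left, ← hvk, hv]
      rcases eq_or_ne a k with rfl | hak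
      · rw [Equiv.swap_apply_right, ← hvk, hv]
      · rw [Equiv.swap_apply_of_ne_of_ne haj hak]
    rw [h2] at h1
    exact h1
  set a := cj (w j k) u with ha
  have haU : a ∈ UU ε i k := by
    rw [F.Usym]
    exact F.w1 hjk hij hki.symm (F.Usym i j ▸ hu)
  have haK : a ∈ KK ε := F.UK hki.symm haU
  have key : ∀ y ∈ UU ε i j, cm a y = 1 ∨ cm a y = ε v := by
    intro y hy
    have hy' : cj (w j k) y ∈ UU ε i k := by
      rw [F.Usym]
      exact F.w1 hjk hij hki.symm (F.Usym i j ▸ hy)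
    have h1 : cm a y = cj (w j k) (cm u (cj (w j k) y)) := by
      rw [cj_cm, F.cj_w_w hjk (F.UK hij hy)]
    rw [h1]
    rcases hc _ hy' with h2 | h2
    · left; rw [h2, cj_one]
    · right; rw [h2, hwv]
  have hcen := s.no_tv hnc hij (KK_le_NN i j haK) (v := v) hv hv1 ?_ (fun y hy => ?_) (fun y _ => Fr.Ke haK y)
  · -- contradiction
    have h1 : cj (w j k) y0 ∈ UU ε i j := by
      rw [F.Usym]
      exact F.w2 hjk hij hki.symm (F.Usym i k ▸ hy0)
    have h2 := hcen _ h1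
    have h3 : cm a (cj (w j k) y0) = 1 := cm_one_iff.2 h2
    rw [ha, ← cj_cm, hy0v, hwv] at h3
    exact hv1 h3
  · -- `ε v ≠ r_ij`
    intro h0
    rw [F.rr_eq, h.ev.eq_iff] at h0
    rcases h0 with h0 | h0
    · have e1 : v i = 1 := by
        rw [h0, Pi.add_apply, Pi.single_eq_same, Pi.single_eq_of_ne hij, add_zero]
      have e2 : v k = 0 := by
        rw [h0, Pi.add_apply, Pi.single_eq_of_ne hki, Pi.single_eq_of_ne hkj, add_zero]
      rw [e1, e2] at hvk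
      exact one_ne_zero hvk
    · have e3 := congrFun h0 i
      have e4 := congrFun h0 k
      simp only [Pi.add_apply, Pi.one_apply, Pi.single_eq_same, Pi.single_eq_of_ne hij,
        Pi.single_eq_of_ne hki, Pi.single_eq_of_ne hkj] at e3 e4
      rw [e3, e4] at hvk
      exact absurd hvk (by decide)
  · rcases key y hy with h1 | h1
    · left
      have h2 := cm_one_iff.1 h1
      rw [h2, mul_inv_cancel_right]
    · right
      have h2 : a * y * a⁻¹ = cm a y * y := by unfold cm; group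
      rw [h2, h1]
      exact F.Uab hij _ ((F.eU hij v).2 hv) _ hy

omit [Finite G] in
theorem p2 {a b c : G} (h : c * b = b * c) : a * c * b = a * b * c := by
  rw [mul_assoc, h, mul_assoc]

omit [Finite G] in
theorem p3 {a b c : G} (h : c * b = b * c) (h2 : c * c = 1) : a * c * (b * c) = a * b := by
  rw [← mul_assoc, p2 h, mul_assoc, h2, mul_one]

/-- the last step of (4) -/
theorem kill (s : Sy S V P ε m) (hnc : Nc ε) (hij : i ≠ j) {T K : Subgroup G} (hTN : T ≤ NN ε i j)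
    (hXT : XX ε i j ≤ T) (hK2 : ∀ a ∈ T, ∀ b ∈ T, a ∉ K → b ∉ K → b⁻¹ * a ∈ K)
    {t : G} (htX : t ∈ XX ε i j) (htK : t ∉ K) {ξ : Fin n → ZMod 2} (hξ : ξ i = ξ j)
    (hTξ : ∀ a ∈ T, a * ε ξ * a⁻¹ = ε ξ) {u : G} (hu : u ∈ UU ε i j)
    (hK : ∀ a ∈ K, a * u * a⁻¹ = u ∨ a * u * a⁻¹ = u * ε ξ) : ∃ x, u = ε x := by
  have h := s.hyp
  obtain ⟨w, F⟩ := h.exists_fr
  have hC : ThC ε (UU ε) := h.thC
  have htT : t ∈ T := hXT htX
  have hz : ε ξ ∈ UU ε i j := (F.eU hij ξ).2 hξ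
  have hzz : ε ξ * ε ξ = 1 := F.esq ξ
  obtain ⟨u', hu'⟩ : ∃ u', u' = t * u * t⁻¹ := ⟨_, rfl⟩
  have hu'U : u' ∈ UU ε i j := hu' ▸ UU_normal (hTN htT) hu
  obtain ⟨δ, hδ⟩ : ∃ δ, δ = u * u' := ⟨_, rfl⟩
  have hδU : δ ∈ UU ε i j := hδ ▸ mul_mem hu hu'U
  have huu : u * u = 1 := F.Usq hij u hu
  have huu' : u' * u' = 1 := F.Usq hij u' hu'U
  have hδδ : δ * δ = 1 := F.Usq hij δ hδU
  have c1 : u * u' = u' * u := F.Uab hij _ hu _ hu'U
  have c2 : ε ξ * u = u * ε ξ := F.Uab hij _ hz _ hu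
  have c3 : ε ξ * u' = u' * ε ξ := F.Uab hij _ hz _ hu'U
  have c4 : ε ξ * δ = δ * ε ξ := F.Uab hij _ hz _ hδU
  -- Claim A
  have hA : ∀ a ∈ T, a ∉ K → a * u * a⁻¹ = u' ∨ a * u * a⁻¹ = u' * ε ξ := by
    intro a ha haK
    have h1 := hK2 a ha t htT haK htK
    have h2 : a * u * a⁻¹ = t * (t⁻¹ * a * u * (t⁻¹ * a)⁻¹) * t⁻¹ := by group
    rcases hK _ h1 with h3 | h3
    · left; rw [h2, h3, hu']
    · right
      rw [h2, h3]
      have h4 : t * (u * ε ξ) * t⁻¹ = t * u * t⁻¹ * (t * ε ξ * t⁻¹) := by group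
      rw [h4, hTξ t htT, hu']
  -- Claim B
  have hB : ∀ a ∈ T, a * δ * a⁻¹ = δ ∨ a * δ * a⁻¹ = δ * ε ξ := by
    intro a ha
    have h0 : a * δ * a⁻¹ = a * u * a⁻¹ * (a * t * u * (a * t)⁻¹) := by rw [hδ, hu']; group
    by_cases haK : a ∈ K
    · have hat : a * t ∉ K := fun h1 => htK (by
        have := mul_mem (inv_mem haK) h1
        rwa [inv_mul_cancel_left] at this)
      rw [h0]
      rcases hK a haK with h1 | h1 <;> rcases hA _ (mul_mem ha htT) hat with h2 | h2 <;> rw [h1, h2]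
      · left; exact hδ.symm
      · right; rw [hδ, mul_assoc]
      · right
        rw [hδ, p2 c3]
      · left
        rw [hδ, p3 c3 hzz]
    · have hat : a * t ∈ K := by
        have h1 := hK2 t htT a⁻¹ (inv_mem ha) htK (fun h1 => haK (by simpa using inv_mem h1))
        rwa [inv_inv] at h1
      rw [h0]
      rcases hA a ha haK with h1 | h1 <;> rcases hK _ hat with h2 | h2 <;> rw [h1, h2]
      · left; rw [hδ, c1]
      · right; rw [hδ, c1, mul_assoc]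
      · right
        rw [hδ, c1, p2 c2]
      · left
        rw [hδ, c1, p3 c2 hzz]
  -- Claim C
  obtain ⟨x, hxi, hxj, hx⟩ : ∃ x : Fin n → ZMod 2, x i = 0 ∧ x j = 0 ∧ δ = ε x := by
    refine F.four_all hC hij hδU fun k hki hkj => tl s hnc hij hki hkj hδU hξ fun y hy => ?_
    have hyT : y ∈ T := hXT (mem_XX hki hkj hy)
    have h1 : cm δ y = δ * (y * δ * y⁻¹)⁻¹ := by unfold cm; group
    rcases hB y hyT with h2 | h2
    · left; rw [h1, h2, mul_inv_cancel]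
    · right
      rw [h1, h2, mul_inv_rev, F.einv, ← mul_assoc, ← c4, mul_assoc, mul_inv_cancel, mul_one]
  -- Claim D
  have hD : ∀ k, k ≠ i → k ≠ j → ∀ y ∈ UU ε i k, cm u y = 1 ∨ cm u y = ε ξ ∨ cm u y = δ ∨ cm u y = δ * ε ξ := by
    intro k hki hkj y hy
    have hyT : y ∈ T := hXT (mem_XX hki hkj hy)
    have h1 : cm u y = u * (y * u * y⁻¹)⁻¹ := by unfold cm; group
    have hui : u⁻¹ = u := inv_eq_of_mul_eq_one_left huu
    have hui' : u'⁻¹ = u' := inv_eq_of_mul_eq_one_left huu'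
    by_cases hyK : y ∈ K
    · rcases hK y hyK with h2 | h2
      · left; rw [h1, h2, mul_inv_cancel]
      · right; left
        rw [h1, h2, mul_inv_rev, F.einv, ← mul_assoc, ← c2, mul_assoc, mul_inv_cancel, mul_one]
    · rcases hA y hyT hyK with h2 | h2
      · right; right; left
        rw [h1, h2, hui', hδ]
      · right; right; right
        rw [h1, h2, mul_inv_rev, F.einv, hui', hδ, c3, mul_assoc]
  have hξx : (ξ + x) i = (ξ + x) j := by
    rw [Pi.add_apply, Pi.add_apply, hξ, hxi, hxj]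
  have hδξ : δ * ε ξ = ε (ξ + x) := by rw [hx, ← F.add, add_comm]
  -- the closing lemma
  obtain ⟨y, -, -, hy⟩ := HTwo.Fr.lem1' F hC hij hu (D := closure {ε ξ, δ}) fun k hki hkj => by
    by_cases hc : Cen (UU ε) u i k
    · exact Or.inl hc
    right
    set C := cS u (UU ε i k) with hCdef
    have hmem : ∀ y ∈ UU ε i k, cm u y ∈ C := fun y hy => mem_cS hy
    apply le_antisymm
    · refine cS_le fun y hy => ?_
      have e1 : ε ξ ∈ closure ({ε ξ, δ} : Set G) := subset_closure (by simp)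
      have e2 : δ ∈ closure ({ε ξ, δ} : Set G) := subset_closure (by simp)
      rcases hD k hki hkj y hy with h1 | h1 | h1 | h1 <;> rw [h1]
      · exact one_mem _
      · exact e1
      · exact e2
      · exact mul_mem e2 e1
    · by_cases hξC : ε ξ ∈ C
      · by_cases hδC : δ ∈ C
        · rw [closure_le]
          rintro z (rfl | rfl)
          · exact hξC
          · exact hδC
        · exfalso
          refine hc (tl s hnc hij hki hkj hu hξ fun y hy => ?_)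
          rcases hD k hki hkj y hy with h1 | h1 | h1 | h1
          · exact Or.inl h1
          · exact Or.inr h1
          · exact absurd (h1 ▸ hmem y hy) hδC
          · exfalso
            apply hδC
            have h2 := mul_mem (h1 ▸ hmem y hy) hξC
            rwa [mul_assoc, hzz, mul_one] at h2
      · exfalso
        by_cases hδC : δ ∈ C
        · refine hc (tl s hnc hij hki hkj hu (v := x) (by rw [hxi, hxj]) fun y hy => ?_)
          rcases hD k hki hkj y hy with h1 | h1 | h1 | h1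
          · exact Or.inl h1
          · exact absurd (h1 ▸ hmem y hy) hξC
          · exact Or.inr (h1.trans hx)
          · exfalso
            apply hξC
            have h2 := mul_mem hδC (h1 ▸ hmem y hy)
            rwa [← mul_assoc, hδδ, one_mul] at h2
        · refine hc (tl s hnc hij hki hkj hu hξx fun y hy => ?_)
          rcases hD k hki hkj y hy with h1 | h1 | h1 | h1
          · exact Or.inl h1
          · exact absurd (h1 ▸ hmem y hy) hξC
          · exact absurd (h1 ▸ hmem y hy) hδC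
          · exact Or.inr (h1.trans hδξ)
  exact ⟨y, hy⟩

end tl

section four

variable {m : ℕ} {S : Sylow 2 G} {V P : Subgroup G} {ε : (Fin (2 ^ m + 1) → ZMod 2) → G}
  {i j k : Fin (2 ^ m + 1)}

/-- (3) for one minimal parabolic -/
def Key (V : Subgroup G) (ε : (Fin (2 ^ m + 1) → ZMod 2) → G) (i j : Fin (2 ^ m + 1)) : Prop :=
  ∀ D T R : Subgroup G, D ≤ V0 ε i j → rr ε i j ∈ D →
    Syl T (centralizer (D : Set G) ⊓ normalizer (V : Set G)) → IsMinPar T R →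
    R ≤ centralizer (D : Set G) → ¬ R ≤ normalizer (Q0 ε i j : Set G) →
    (∀ g ∈ R, ∀ g' ∈ R, ∀ v ∈ V, ∀ w ∈ V,
      g * v * g⁻¹ * (g' * w * g'⁻¹) = g' * w * g'⁻¹ * (g * v * g⁻¹)) →
    (∀ t ∈ T, ∀ s ∈ T, t ∉ o2 R → s ∉ o2 R → t⁻¹ * s ∈ o2 R) ∧ ¬ XX ε i j ≤ o2 R ∧
      ∀ v ∈ V, (∀ t ∈ T, t * v = v * t) → ∀ r ∈ R, r * v = v * r

theorem sy_of (h : In S V P ε i j) (hm : 3 ≤ m) : Sy S V P ε m := ⟨h.hyp, h.SP, hm, rfl⟩

/-- `D` moves `λ` implies `D ≤ r_ij^⊥` -/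
theorem le_V0 (h : In S V P ε i j) {D : Subgroup G} (hD : D ≤ V) (hr : rr ε i j ∈ D)
    (hmv : ¬ centralizer (D : Set G) ≤ normalizer (Q0 ε i j : Set G)) : D ≤ V0 ε i j := by
  intro d hd
  obtain ⟨x, rfl⟩ := h.hyp.ev.surj d (hD hd)
  refine mem_V0 h.hyp.ev ?_
  by_contra hne
  rw [← Five.mv_iff (centralizer_le_NN h hr)] at hmv
  obtain ⟨g, hg, q, hq, hqK, hgq⟩ := hmv
  have hgN : g ∈ NN ε i j := centralizer_le_NN h hr hg
  have h1 : g * q * g⁻¹ ∈ o2 (NN ε i j) := (mem_normalizer_iff.1 (le_normalizer_o2 _ hgN) _).1 hq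
  have h2 : Acts ε (g * q * g⁻¹) (Equiv.swap i j) := (h.hyp.QA h.ij h1).resolve_left hgq
  have h3 : g * ε x = ε x * g := (mem_centralizer_iff.1 hg _ hd).symm
  have h4 : q * ε x = ε x * q := Fr.Ke hqK x
  have h5 : g * q * g⁻¹ * ε x * (g * q * g⁻¹)⁻¹ = ε x := by
    have e1 : g⁻¹ * ε x = ε x * g⁻¹ := by
      rw [inv_mul_eq_iff_eq_mul, ← mul_assoc, h3, mul_assoc, mul_inv_cancel, mul_one]
    calc g * q * g⁻¹ * ε x * (g * q * g⁻¹)⁻¹ = g * q * (g⁻¹ * ε x) * g * q⁻¹ * g⁻¹ := by group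
      _ = g * (q * ε x) * q⁻¹ * g⁻¹ := by rw [e1]; group
      _ = g * ε x * g⁻¹ := by rw [h4]; group
      _ = ε x := by rw [h3]; group
  rw [h2 x, h.hyp.ev.eq_iff] at h5
  rcases h5 with h5 | h5
  · have h6 := congrFun h5 i
    rw [Function.comp_apply, Equiv.symm_swap, Equiv.swap_apply_left] at h6
    exact hne h6.symm
  · obtain ⟨a, ha1, ha2, -, -⟩ := exists_fifth h.hyp.n5 i j i j
    have h6 := congrFun h5 a
    rw [Function.comp_apply, Equiv.symm_swap, Equiv.swap_apply_of_ne_of_ne ha1 ha2, Pi.add_apply,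
      Pi.one_apply] at h6
    exact one_ne_zero (left_eq_add.1 h6)

/-- **#18920 (4)**: `C_G(r_ij, z_k)` fixes `λ`. -/
theorem four (h : In S V P ε i j) (hm : 3 ≤ m) (hnc : Nc ε) (key : Key V ε i j)
    (hz : ∀ g ∈ centralizer ({zz ε k} : Set G), ∀ g' ∈ centralizer ({zz ε k} : Set G), ∀ v ∈ V, ∀ w ∈ V,
      g * v * g⁻¹ * (g' * w * g'⁻¹) = g' * w * g'⁻¹ * (g * v * g⁻¹)) :
    NN ε i j ⊓ centralizer ({zz ε k} : Set G) ≤ normalizer (Q0 ε i j : Set G) := by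
  classical
  by_contra hmv
  have s := sy_of h hm
  obtain ⟨w, F⟩ := h.hyp.exists_fr
  have hTT : Fact (Nat.Prime 2) := ⟨Nat.prime_two⟩
  -- a maximal `D`
  let 𝒟 : Set (Subgroup G) := {D | rr ε i j ∈ D ∧ zz ε k ∈ D ∧ D ≤ V ∧
    ¬ centralizer (D : Set G) ≤ normalizer (Q0 ε i j : Set G)}
  have hne : 𝒟.Nonempty := by
    refine ⟨closure {rr ε i j, zz ε k}, subset_closure (by simp), subset_closure (by simp), ?_, ?_⟩
    · rw [closure_le]
      rintro x (rfl | rfl)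
      · exact rr_mem h.hyp.ev i j
      · exact zz_mem h.hyp.ev k
    · intro h1
      refine hmv fun g hg => h1 ?_
      rw [centralizer_closure, mem_centralizer_iff]
      rintro x (rfl | rfl)
      · exact (mem_NN.1 hg.1).symm
      · exact (mem_centralizer_singleton_iff.1 hg.2).symm
  obtain ⟨D, hDmax⟩ := (Set.toFinite 𝒟).exists_maximal hne
  obtain ⟨hr, hzk, hDV, hDmv⟩ := hDmax.prop
  have hmax : ∀ D' : Subgroup G, D ≤ D' → D' ≤ V →
      ¬ centralizer (D' : Set G) ≤ normalizer (Q0 ε i j : Set G) → D' ≤ D := fun D' h1 h2 h3 =>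
    hDmax.le_of_ge ⟨h1 hr, h1 hzk, h2, h3⟩ h1
  have hDN : centralizer (D : Set G) ≤ NN ε i j := centralizer_le_NN h hr
  -- the Sylow group
  obtain ⟨T, hT, -⟩ := ZN.ChoiceSit.exists_syl (X := centralizer (D : Set G) ⊓ normalizer (V : Set G))
    (IsPGroup.of_bot (p := 2)) bot_le
  have hTC : T ≤ centralizer (D : Set G) := hT.1.trans inf_le_left
  have hTL : T ≤ normalizer (V : Set G) := hT.1.trans inf_le_right
  have hTN : T ≤ NN ε i j := hTC.trans hDN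
  have hXT : XX ε i j ≤ T := XX_le_syl h hDV hT
  have hTs : Syl T (centralizer (D : Set G)) := syl_D h hDV hr hT
  -- a minimal parabolic which moves `λ`
  obtain ⟨R, hR, hRD, hRmv⟩ : ∃ R : Subgroup G, IsMinPar T R ∧ R ≤ centralizer (D : Set G) ∧
      ¬ R ≤ normalizer (Q0 ε i j : Set G) := by
    by_contra hcon
    push Not at hcon
    exact hDmv (MinSimple.MinParabolic.le_of_forall hTC
      (fun g hg => L_fix h (hDN hg.1) (norm_syl h hDV hr hT hg)) hcon)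
  have hRz : R ≤ centralizer ({zz ε k} : Set G) := fun g hg =>
    mem_centralizer_singleton_iff.2 (mem_centralizer_iff.1 (hRD hg) _ hzk).symm
  obtain ⟨hK2, hXK, hcen⟩ := key D T R (le_V0 h hDV hr hDmv) hr hT hR hRD hRmv
    fun g hg g' hg' => hz g (hRz hg) g' (hRz hg')
  have hKT : o2 R ≤ T := MinSimple.VModule.o2_le_of_sylow hT.2.1 fun h1 =>
    ZN.ChoiceSit.syl_not_dvd hTs (by
      rw [← relIndex_mul_relIndex _ R _ hR.le hRD]
      exact h1.mul_right _)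
  -- `D = C_V(T)`
  have hDT : V ⊓ centralizer (T : Set G) ≤ D := by
    refine hmax _ (le_inf hDV fun d hd => mem_centralizer_iff.2 fun t ht =>
      (mem_centralizer_iff.1 (hTC ht) d hd).symm) inf_le_left fun h1 => hRmv ?_
    refine le_trans (fun r hr' => mem_centralizer_iff.2 fun v hv => ?_) h1
    exact (hcen v hv.1 (fun t ht => mem_centralizer_iff.1 hv.2 t ht) r hr').symm
  -- the action of `T` on the labels
  let f : T →* Equiv.Perm (Fin (2 ^ m + 1)) := (h.evL.hom h.hyp.n3).comp (Subgroup.inclusion hTL)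
  have hf : ∀ y : T, Acts ε (y : G) (f y) := fun y => h.evL.acts_hom h.hyp.n3 (Subgroup.inclusion hTL y)
  have hfij : ∀ (y : T) {k : Fin (2 ^ m + 1)}, k ≠ i → k ≠ j → f y k ≠ i ∧ f y k ≠ j := fun y k hki hkj =>
    pair_of h.hyp.ev h.hyp.n5 h.ij (hf y) (hTN y.2) hki hkj
  -- a label moved by `T`
  obtain ⟨a, hai, haj, y0, hy0⟩ : ∃ a, a ≠ i ∧ a ≠ j ∧ ∃ y0 : T, f y0 a ≠ a := by
    by_contra hcon
    push Not at hcon
    apply hDmv
    have h1 : V0 ε i j ≤ D := by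
      refine le_trans (le_inf (V0_le h.hyp) ?_) hDT
      unfold V0
      rw [closure_le]
      rintro x ⟨a, hai, haj, rfl⟩
      refine mem_centralizer_iff.2 fun t ht => ?_
      have h2 := zz_conj (hf ⟨t, ht⟩) a
      rw [hcon a hai haj] at h2
      exact mul_inv_eq_iff_eq_mul.1 h2
    intro g hg
    obtain ⟨σ, hσ⟩ : g ∈ LL ε := s.CV_le hnc h.ij (fun x => by
      have h2 : ε (TLg.ext i j x) ∈ D := h1 (mem_V0 h.hyp.ev (by rw [TLg.ext_i, TLg.ext_j]))
      exact (mem_centralizer_iff.1 hg _ h2).symm)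
    exact fix_of_acts hσ (hDN hg)
  obtain ⟨ν, ν', e1, e2, e3, e4, y1, e5⟩ := exists_half hT.2.1 f hy0
  obtain ⟨i1, i2⟩ := e3 i fun y => (hfij y hai haj).1
  obtain ⟨j1, j2⟩ := e3 j fun y => (hfij y hai haj).2
  have hνν : ν ≠ ν' := fun h1 => one_ne_zero (e1.symm.trans ((congrFun h1 a).trans e2))
  -- `ξ = ν + ν'` is invariant
  have hinv : ∀ y : T, (ν + ν') ∘ (f y).symm = ν + ν' := by
    intro y
    have hinj : ∀ g g' : Fin (2 ^ m + 1) → ZMod 2, g ∘ (f y).symm = g' ∘ (f y).symm → g = g' := by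
      intro g g' hgg
      funext b
      have := congrFun hgg (f y b)
      simpa using this
    have h1 : ν' ∘ (f y).symm = ν ∨ ν' ∘ (f y).symm = ν' := by
      have h2 := e4 (y * y1)
      have h3 : ν ∘ (f (y * y1)).symm = ν' ∘ (f y).symm := by
        rw [← e5, map_mul]
        rfl
      rwa [h3] at h2
    have h0 : (ν + ν') ∘ (f y).symm = ν ∘ (f y).symm + ν' ∘ (f y).symm := rfl
    rw [h0]
    rcases e4 y with h2 | h2 <;> rcases h1 with h3 | h3
    · exact absurd (hinj _ _ (h2.trans h3.symm)) hνν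
    · rw [h2, h3]
    · rw [h2, h3]
      exact add_comm ν' ν
    · exact absurd (hinj _ _ (h2.trans h3.symm)) hνν
  have hTξ : ∀ t ∈ T, t * ε (ν + ν') * t⁻¹ = ε (ν + ν') := by
    intro t ht
    rw [hf ⟨t, ht⟩, hinv]
  have hξD : ε (ν + ν') ∈ D := hDT (mem_inf.2 ⟨h.hyp.ev.mem _, mem_centralizer_iff.2 fun t ht =>
    mul_inv_eq_iff_eq_mul.1 (hTξ t ht)⟩)
  -- `x ∈ R` moves `λ`
  obtain ⟨x, hxR, hxmv⟩ := Set.not_subset.1 hRmv
  replace hxR : x ∈ R := hxR
  have hxN : x ∈ NN ε i j := hDN (hRD hxR)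
  have hxD : ∀ d ∈ D, x * d * x⁻¹ = d := fun d hd => by
    rw [← mem_centralizer_iff.1 (hRD hxR) d hd, mul_inv_cancel_right]
  -- `V ∩ V^x = D`
  have hVV : V ⊓ V.map (MulAut.conj x).toMonoidHom ≤ D := by
    obtain ⟨c, hc, hcx⟩ := fusion h hxN
    refine hmax _ (le_inf hDV fun d hd => ⟨d, hDV hd, hxD d hd⟩) inf_le_left fun h1 => hxmv ?_
    have hcN : c ∈ NN ε i j := mem_NN.2 (mem_centralizer_iff.1 hc _
      ⟨rr_mem h.hyp.ev i j, rr ε i j, rr_mem h.hyp.ev i j, mem_NN'.1 hxN⟩).symm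
    have h2 := mul_mem (h1 hc) (L_fix h (mul_mem (inv_mem hcN) hxN) hcx)
    rwa [mul_inv_cancel_left] at h2
  -- the end
  have hνU : ε ν ∈ UU ε i j := (h.hyp.eU h.ij ν).2 (by rw [i1, j1])
  obtain ⟨t, htX, htK⟩ := Set.not_subset.1 hXK
  obtain ⟨x', hx'⟩ := kill s hnc h.ij (T := T) (K := o2 R) hTN hXT
    (fun a ha b hb haK hbK => hK2 b hb a ha hbK haK) htX htK (ξ := ν + ν')
    (by rw [Pi.add_apply, Pi.add_apply, i1, i2, j1, j2]) hTξ (u := x * ε ν * x⁻¹) (UU_normal hxN hνU) (by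
      intro b hb
      have hb' : x⁻¹ * b * x ∈ o2 R := by
        have := (mem_normalizer_iff.1 (inv_mem (le_normalizer_o2 R hxR)) b).1 hb
        rwa [inv_inv] at this
      have h1 : b * (x * ε ν * x⁻¹) * b⁻¹ = x * (x⁻¹ * b * x * ε ν * (x⁻¹ * b * x)⁻¹) * x⁻¹ := by group
      have h2 := hf ⟨_, hKT hb'⟩ ν
      rw [h1]
      change x⁻¹ * b * x * ε ν * (x⁻¹ * b * x)⁻¹ = _ at h2
      rw [h2]
      rcases e4 ⟨_, hKT hb'⟩ with h3 | h3
      · left; rw [h3]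
      · right
        rw [h3]
        have h4 : ν' = ν + (ν + ν') := by
          funext b
          rw [Pi.add_apply, Pi.add_apply, ← add_assoc, CharTwo.add_self_eq_zero, zero_add]
        have h5 : ε ν' = ε ν * ε (ν + ν') := by rw [← h.hyp.ev.add, ← h4]
        rw [h5]
        calc x * (ε ν * ε (ν + ν')) * x⁻¹ = x * ε ν * x⁻¹ * (x * ε (ν + ν') * x⁻¹) := by group
          _ = _ := by rw [hxD _ hξD])
  have hu : x * ε ν * x⁻¹ ∈ D := hVV ⟨hx' ▸ h.hyp.ev.mem x', ε ν, h.hyp.ev.mem ν, rfl⟩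
  have h1 : ε ν ∈ D := by
    have h2 := hxD _ hu
    rwa [mul_left_cancel (mul_right_cancel h2)] at hu
  have h2 := hf y1 ν
  rw [e5, (mem_centralizer_iff.1 (hTC y1.2) _ h1).symm, mul_inv_cancel_right, h.hyp.ev.eq_iff] at h2
  rcases h2 with h2 | h2
  · exact hνν h2
  · have h3 := congrFun h2 i
    rw [Pi.add_apply, i1, i2, Pi.one_apply, zero_add] at h3
    exact zero_ne_one h3

end four

end Cfsg.Agent.Omega.NSix.HT.Four

end

-- merged: Cfsg.Agent.Mrg.Omega.NSix.HTwo.Main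
section

section


/-!
# OMEGA N6: (H2) (`S5.SymBig.SymH2`), the top of #18323 (helper480)  (helper840)

`Pos S P ε` : `P ∈ P*(G,S)`, `V = zl S P` the even subsets of `2^m + 1 ≥ 9` points, `Engine.Hyp V P ε`, and no two
`U_ij`, `U_kl` of disjoint pairs commute.

* `Pos.of` : a counterexample to (H2) in the position of `S5.SymBig.Pr` is a `Pos`;
* `Pos.false` : `Pos`, `⟨P, C_G(Z)⟩` 2-local (THEOREM SN), `T₁ = C_S(r_ij)` Sylow in `C_G(r_ij)` with its normaliser in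
  `N_G(V)`, every minimal parabolic over `T₁` in `N_G(V)` or in `C_G(z_0)`: contradiction;
* `Steps K` : these facts on `C_G(r_ij)`; `symH2_of : Steps K → SN.Two K → SymH2 K`;
  `symBig : Steps K → SN.Two K → S5.Main.SymBig K`.
-/

set_option autoImplicit false

namespace Cfsg.Agent.Omega.NSix.HTwo.Main

open Subgroup Cfsg Cfsg.Agent.Omega.MinPar
open Cfsg.Agent.ZN (o2 zc zl)
open Cfsg.Agent.Omega.Frame (Ctx Cls)
open Cfsg.Agent.Omega.FrameNOFF (CZ)
open Cfsg.Agent.Omega.S5.Def Cfsg.Agent.Omega.S5.Syl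
open Cfsg.Agent.Omega.NSix.Base Cfsg.Agent.Omega.NSix.Basic
open Cfsg.Agent.Omega.NSix.Zero (WP)
open Cfsg.Agent.Omega.NSix.Engine (Hyp D4)
open Cfsg.Agent.Omega.S5.SymBig (H2 Pr SymH2)
open Cfsg.Agent.MinSimple.MinParabolic (IsMinPar)

universe u

section

variable {G : Type u} [Group G] [Finite G]

/-- The situation of #18323. -/
structure Pos (S : Sylow 2 G) (P : Subgroup G) {m : ℕ} (ε : (Fin (2 ^ m + 1) → ZMod 2) → G) : Prop where
  c2 : IsCharacteristicTwoType G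
  m3 : 3 ≤ m
  par : IsParS (S : Subgroup G) P
  hyp : Hyp (zl (S : Subgroup G) P) P ε
  fix0 : Fix0 ε (S : Subgroup G)
  nc : ∀ i j k l : Fin (2 ^ m + 1), D4 i j k l → ¬ ∀ u ∈ UU ε i j, ∀ y ∈ UU ε k l, u * y = y * u

/-- `C_G(r_ij) ≤ N_G(V)` for all pairs implies (H2). -/
theorem h2_of_nn {n : ℕ} {V P : Subgroup G} {ε : (Fin n → ZMod 2) → G} (h : Hyp V P ε)
    (hnn : ∀ i j, i ≠ j → NN ε i j ≤ normalizer (V : Set G)) : H2 ε := by
  intro i j k l hij hkl _ _ _ _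
  refine le_trans ?_ ((h.V_le hkl).trans (h.W2_leQ hkl))
  unfold UU
  rw [closure_le]
  rintro x ⟨g, hg, a, -, -, rfl⟩
  exact (mem_normalizer_iff.1 (hnn i j hij hg) _).1 (h.ev.mem _)

/-- The hypotheses `Engine.Hyp` from a pair. -/
theorem hyp_of {S S' : Sylow 2 G} {V V' P P' : Subgroup G} {m m' : ℕ}
    {ε : (Fin (2 ^ m + 1) → ZMod 2) → G} {ε' : (Fin (2 ^ m' + 1) → ZMod 2) → G} (h : Pr S S' V V' P P' ε ε')
    (hm : 3 ≤ m) : Hyp V P ε := by
  have hs := h.sit hm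
  have h5 : 5 ≤ 2 ^ m + 1 := five_le (by omega)
  have hodd : Odd (2 ^ m + 1) := Even.add_one (Nat.even_pow.mpr ⟨even_two, by omega⟩)
  refine Hyp.of h.c2 h5 hodd h.two.even S h.two.le h.zS
    (fun i j k hij hki hkj q hq => hs.pair hij hki hkj hq) (fun i j hij => hs.o2_le_P hij) ?_
  obtain ⟨i, j, hij, b, hm', hb, hbv⟩ := h.nform'
  exact ⟨i, j, hij, b, hm', hb, hbv⟩

/-- A counterexample to (H2) is a `Pos`. -/
theorem Pos.of {S S' : Sylow 2 G} {V' P P' : Subgroup G} {m m' : ℕ}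
    {ε : (Fin (2 ^ m + 1) → ZMod 2) → G} {ε' : (Fin (2 ^ m' + 1) → ZMod 2) → G}
    (h : Pr S S' (zl (S : Subgroup G) P) V' P P' ε ε') (hm : 3 ≤ m) (hP : IsParS (S : Subgroup G) P)
    (hno : ¬ H2 ε) : Pos S P ε where
  c2 := h.c2
  m3 := hm
  par := hP
  hyp := hyp_of h hm
  fix0 := h.two.fix
  nc := fun i j k l hD hc => hno fun a b c d hab hcd hac had hbc hbd =>
    (hyp_of h hm).hq_of_comm (fun {_ _ _ _} hD' => (hyp_of h hm).comm_transfer hD hD' hc)
      ⟨hab, hac, had, hbc, hbd, hcd⟩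

variable {S : Sylow 2 G} {P : Subgroup G} {m : ℕ} {ε : (Fin (2 ^ m + 1) → ZMod 2) → G}

/-- **#18323 (8)**. -/
theorem Pos.false (h : Pos S P ε) (hloc : ¬ NonLoc P (CZ (S : Subgroup G))) {i j : Fin (2 ^ m + 1)} (hij : i ≠ j)
    (hT : ¬ 2 ∣ ((S : Subgroup G) ⊓ NN ε i j).relIndex (NN ε i j))
    (hNT : NN ε i j ⊓ normalizer (((S : Subgroup G) ⊓ NN ε i j : Subgroup G) : Set G) ≤
      normalizer (zl (S : Subgroup G) P : Set G))
    (hR : ∀ R : Subgroup G, IsMinPar ((S : Subgroup G) ⊓ NN ε i j) R → R ≤ NN ε i j →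
      R ≤ normalizer (zl (S : Subgroup G) P : Set G) ∨ R ≤ centralizer ({zz ε 0} : Set G)) : False := by
  have h2 : 2 ≤ m := by have := h.m3; omega
  obtain ⟨e1, e2⟩ := End.le_sup h.c2 h2 h.par h.hyp.ev h.fix0
  obtain ⟨k, l, hkl, g, hg, -, hgV⟩ := h.hyp.mov
  have h3 := (End.nn_le_normalizer h.c2 h2 h.par h.hyp.ev h.fix0 hloc hij hT (hNT.trans e1)
    (fun R hR1 hR2 => (hR R hR1 hR2).elim (fun h4 => h4.trans e1) fun h4 => h4.trans e2)
    ⟨k, l, hkl, g, hg, hgV⟩).2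
  obtain ⟨a, b, c, d, hD⟩ : ∃ a b c d : Fin (2 ^ m + 1), D4 a b c d := by
    have h5 : 5 ≤ 2 ^ m + 1 := five_le h2
    refine ⟨⟨0, by omega⟩, ⟨1, by omega⟩, ⟨2, by omega⟩, ⟨3, by omega⟩, ?_, ?_, ?_, ?_, ?_, ?_⟩ <;>
      · intro e
        have := congrArg Fin.val e
        simp at this
  refine h.nc a b c d hD fun u hu y hy => ?_
  have hU : ∀ {a b : Fin (2 ^ m + 1)}, a ≠ b → UU ε a b ≤ zl (S : Subgroup G) P := by
    intro a b hab
    unfold UU
    rw [closure_le]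
    rintro x ⟨g, hg, k, -, -, rfl⟩
    exact (mem_normalizer_iff.1 (h3 a b hab hg) _).1 (h.hyp.ev.mem _)
  exact h.hyp.ev.comm_mem (hU hD.ij hu) (hU hD.kl hy)

end

/-- **(1), (2), (4) - (7) of #18323.** -/
def Steps (K : Cls.{u}) : Prop :=
  ∀ (G : Type u) [Group G] [Finite G], Ctx G → K G → ∀ (S : Sylow 2 G) (P : Subgroup G) (m : ℕ)
    (ε : (Fin (2 ^ m + 1) → ZMod 2) → G), Pos S P ε → ∀ i j : Fin (2 ^ m + 1), i ≠ j →
      (∃ a ∈ (S : Subgroup G), Acts ε a (Equiv.swap i j)) →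
        ¬ 2 ∣ ((S : Subgroup G) ⊓ NN ε i j).relIndex (NN ε i j) ∧
        NN ε i j ⊓ normalizer (((S : Subgroup G) ⊓ NN ε i j : Subgroup G) : Set G) ≤
          normalizer (zl (S : Subgroup G) P : Set G) ∧
        ∀ R : Subgroup G, IsMinPar ((S : Subgroup G) ⊓ NN ε i j) R → R ≤ NN ε i j →
          R ≤ normalizer (zl (S : Subgroup G) P : Set G) ∨ R ≤ centralizer ({zz ε 0} : Set G)

/-- **(H2)** of N6. -/
theorem symH2_of {K : Cls.{u}} (hS : Steps K) (h2 : NO3S.SN.Two K) : SymH2 K := by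
  intro G _ _ hG hK S _ _ _ _ _ P₁ P₂ y m m' ε ε₂ hm hm' hl _
  by_contra hno
  have hpr := S5.SymBig.pr_of hG.char2 (by omega) hm' hl
  have h := Pos.of hpr hm hl.pair.star₁ hno
  obtain ⟨i, j, hij, hsw⟩ := PairCen.exists_swap_mem (by omega) h.hyp.ev
    (MinSimple.Basic.not_dvd_relIndex S hl.pair.star₁.le)
  obtain ⟨e1, e2, e3⟩ := hS G hG hK S P₁ m ε h i j hij hsw
  exact h.false (NO3S.SN.theoremSN_even h2 hK hG S hl.pair.star₁ hm hl.even hl.fix0) hij e1 e2 e3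

/-- **The leaf II.c.** -/
theorem symBig {K : Cls.{u}} (hS : Steps K) (h2 : NO3S.SN.Two K) : S5.Main.SymBig K :=
  S5.SymBig.symBig_of (symH2_of hS h2)

end Cfsg.Agent.Omega.NSix.HTwo.Main

end

section


/-!
# OMEGA N6, (H2) by #18920 (helper605): (6), the end  (helper821)

`false_of_fixL` : in the position `Pos` (two disjoint `U_ij`, `U_kl` do not commute), `S` inducing `(i j)`,
`N_N(V_ij) ≤ N_G(V)` (`LemTwo.In`): `N = C_G(r_ij)` does not fix `λ : O₂(N) → F₂`.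
-/

set_option autoImplicit false
set_option linter.unusedSectionVars false

namespace Cfsg.Agent.Omega.NSix.HT.Fix

open Subgroup Cfsg
open Cfsg.Agent.ZN (o2 zc zl)
open Cfsg.Agent.MinSimple.VModule (o2_le o2_isPGroup le_normalizer_o2 le_o2)
open Cfsg.Agent.Omega.S5.Def Cfsg.Agent.Omega.S5.Syl
open Cfsg.Agent.Omega.NSix.Base Cfsg.Agent.Omega.NSix.Basic Cfsg.Agent.Omega.NSix.Engine
open Cfsg.Agent.Omega.NSix.HTwo.LemTwo (XX In)
open Cfsg.Agent.Omega.NSix.HTwo.Main (Pos)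
open Cfsg.Agent.Omega.TTn
open Cfsg.Agent.MinSimple.MinParabolic (IsMinPar)

universe u

variable {G : Type u} [Group G] [Finite G] {m : ℕ}

/-- `O₂(C_G(z_i))` centralises `V` -/
theorem o2_le_cent (S : Sylow 2 G) {V P : Subgroup G} {ε : (Fin (2 ^ m + 1) → ZMod 2) → G} (hm : 3 ≤ m)
    (h : EvenSet (2 ^ m + 1) V P ε) (hSP : (S : Subgroup G) ≤ P) (h0 : Fix0 ε (S : Subgroup G))
    (i : Fin (2 ^ m + 1)) : o2 (centralizer ({zz ε i} : Set G)) ≤ centralizer (V : Set G) := by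
  intro x hx
  obtain ⟨p, hp, hps⟩ := h.full (Equiv.swap 0 i)
  have h1 := PtCen.conj_o2_cent (g := p) hx
  rw [zz_conj hps, Equiv.swap_apply_right] at h1
  have h2 := PtCen.o2_le_cent S hm h hSP h0 h1
  rw [mem_centralizer_iff] at h2 ⊢
  intro v hv
  obtain ⟨y, rfl⟩ := h.surj v hv
  have h3 := h2 (p * ε y * p⁻¹) (by rw [hps y]; exact h.mem _)
  have h4 : p * (ε y * x) * p⁻¹ = p * (x * ε y) * p⁻¹ := by
    calc p * (ε y * x) * p⁻¹ = p * ε y * p⁻¹ * (p * x * p⁻¹) := by group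
      _ = p * x * p⁻¹ * (p * ε y * p⁻¹) := h3
      _ = _ := by group
  exact mul_left_cancel (mul_right_cancel h4)

/-- the elements of `C_G(z_i)` normalise `Z(O₂(C_G(z_i)))` -/
theorem conj_center {z g a : G} (hg : g * z = z * g)
    (ha : a ∈ o2 (centralizer ({z} : Set G)) ⊓ centralizer (o2 (centralizer ({z} : Set G)) : Set G)) :
    g * a * g⁻¹ ∈ o2 (centralizer ({z} : Set G)) ⊓ centralizer (o2 (centralizer ({z} : Set G)) : Set G) := by
  have hgC : g ∈ centralizer ({z} : Set G) := mem_centralizer_singleton_iff.2 hg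
  have hn := le_normalizer_o2 _ hgC
  refine ⟨(mem_normalizer_iff.1 hn a).1 ha.1, mem_centralizer_iff.2 fun y hy => ?_⟩
  have h1 : g⁻¹ * y * g ∈ o2 (centralizer ({z} : Set G)) := by
    have := (mem_normalizer_iff.1 (inv_mem hn) y).1 hy
    rwa [inv_inv] at this
  have h2 := mem_centralizer_iff.1 ha.2 _ h1
  calc y * (g * a * g⁻¹) = g * (g⁻¹ * y * g * a) * g⁻¹ := by group
    _ = g * (a * (g⁻¹ * y * g)) * g⁻¹ := by rw [h2]
    _ = _ := by group

variable {S : Sylow 2 G} {P : Subgroup G} {ε : (Fin (2 ^ m + 1) → ZMod 2) → G} {i j : Fin (2 ^ m + 1)}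

/-- the elements of `N ∩ N_G(V)` fix `{z_i, z_j}` -/
theorem zz_of_mem {V : Subgroup G} (hI : In S V P ε i j) {g : G} (hg : g ∈ NN ε i j)
    (hgL : g ∈ normalizer (V : Set G)) : g * zz ε i * g⁻¹ = zz ε i ∨ g * zz ε i * g⁻¹ = zz ε j := by
  obtain ⟨σ, hσ⟩ := hI.evL.perm g hgL
  rw [zz_conj hσ]
  rcases hI.cosetHyp.pair_of_acts hσ (mem_NN.1 hg) with ⟨h1, -⟩ | ⟨h1, -⟩
  · left; rw [h1]
  · right; rw [h1]

/-- `N` fixes the coset `z_i U` if it fixes `λ` -/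
theorem coset {V : Subgroup G} (hI : In S V P ε i j) (hfix : FixL ε i j) :
    NN ε i j ≤ CU ε i j {zz ε i} := by
  have hij := hI.ij
  have hL : ∀ g ∈ NN ε i j, g ∈ normalizer (V : Set G) → g ∈ CU ε i j ({zz ε i} : Set G) := by
    intro g hg hgL
    refine ⟨hg, fun x hx => ?_⟩
    rw [Set.mem_singleton_iff] at hx
    subst hx
    rcases zz_of_mem hI hg hgL with h1 | h1
    · rw [h1, mul_inv_cancel]; exact one_mem _
    · rw [h1]
      have h2 : (zz ε i)⁻¹ = zz ε i := inv_eq_of_mul_eq_one_left (zz_sq hI.hyp.ev i)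
      rw [h2]
      obtain ⟨w, F⟩ := hI.hyp.exists_fr
      have h3 := F.rU hij.symm
      rwa [F.Usym] at h3
  have hK : CU ε i j (WW V ε i j : Set G) ≤ CU ε i j ({zz ε i} : Set G) :=
    CU_mono (Set.singleton_subset_iff.2 (V_le_WW (zz_mem hI.hyp.ev i)))
  refine MinSimple.MinParabolic.le_of_forall (S := (S : Subgroup G) ⊓ NN ε i j) inf_le_right
    (fun g hg => hL g hg.1 (hI.norm_T_le hg)) fun R hR hRN => ?_
  by_cases hRL : R ≤ normalizer (V : Set G)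
  · exact fun g hg => hL g (hRN hg) (hRL hg)
  have hXo := hI.not_le_o2 hR.le hRN hRL
  have hT : ¬ 2 ∣ ((S : Subgroup G) ⊓ NN ε i j).relIndex R := fun h1 => hI.not_dvd (by
    rw [← relIndex_mul_relIndex _ R (NN ε i j) hR.le hRN]
    exact h1.mul_right _)
  have hf : Fact (Nat.Prime 2) := ⟨Nat.prime_two⟩
  rcases hR.sup_eq_or_inf_le (N := CU ε i j (WW V ε i j : Set G) ⊓ R) hI.T_two hT inf_le_right (fun g hg =>
    DiCoreAbs.mem_norm_of fun x hx => mem_inf.2 ⟨CU_WW_conj (hRN hg) hx.1, mul_mem (mul_mem hg hx.2) (inv_mem hg)⟩) with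
    h1 | h1
  · rw [← h1]
    exact sup_le (inf_le_left.trans hK) fun g hg => hL g hg.2 (hI.SL hg.1)
  · exfalso
    refine hXo (le_trans (le_inf hI.XX_le_T (le_inf (XX_le_CU hI.hyp hij hfix) (hI.XX_le_T.trans hR.le))) h1)

/-- **(6) of #18920**: `N` moves `λ`. -/
theorem false_of_fixL (h : Pos S P ε) (hI : In S (zl (S : Subgroup G) P) P ε i j) (hfix : FixL ε i j) :
    False := by
  have hij := hI.ij
  have hU : UU ε i j ≤ zl (S : Subgroup G) P := by
    refine UU_le_V h.hyp hij (T := (S : Subgroup G) ⊓ NN ε i j)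
      (A := o2 (centralizer ({zz ε i} : Set G)) ⊓ centralizer (o2 (centralizer ({zz ε i} : Set G)) : Set G))
      inf_le_right ?_ ?_ ?_ ?_ ?_ ?_
    · rw [← Nat.not_even_iff_odd, even_iff_two_dvd]
      exact hI.not_dvd
    · exact fun t ht => zz_of_mem hI ht.2 (hI.SL ht.1)
    · exact fun g hg => (coset hI hfix hg).2 _ rfl
    · refine le_inf (PtCen.le_o2_cent h.c2 S h.m3 h.hyp.ev h.par.le h.fix0 i) fun v hv => ?_
      refine mem_centralizer_iff.2 fun x hx => ?_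
      exact (mem_centralizer_iff.1 (o2_le_cent S h.m3 h.hyp.ev h.par.le h.fix0 i hx) v hv).symm
    · exact fun g hg a ha => conj_center hg ha
    · exact fun a ha b hb => mem_centralizer_iff.1 hb.2 a ha.1
  obtain ⟨a, b, c, d, hD⟩ : ∃ a b c d : Fin (2 ^ m + 1), D4 a b c d := by
    have h5 : 5 ≤ 2 ^ m + 1 := five_le hI.hm
    refine ⟨⟨0, by omega⟩, ⟨1, by omega⟩, ⟨2, by omega⟩, ⟨3, by omega⟩, ?_, ?_, ?_, ?_, ?_, ?_⟩ <;>
      · intro e
        have := congrArg Fin.val e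
        simp at this
  exact h.nc a b c d hD fun u hu y hy =>
    h.hyp.ev.comm_mem (UU_le_V_all h.hyp hij hU hD.ij hu) (UU_le_V_all h.hyp hij hU hD.kl hy)

/-- `N` moves `λ`: some `g ∈ N` does not normalise `O₂(N) ∩ C_G(V)` -/
theorem exists_mover (h : Pos S P ε) (hI : In S (zl (S : Subgroup G) P) P ε i j) :
    ∃ g ∈ NN ε i j, ∃ q ∈ o2 (NN ε i j), q ∈ KK ε ∧ ¬ g * q * g⁻¹ ∈ KK ε := by
  by_contra hc
  push Not at hc
  exact false_of_fixL h hI fun g hg q hq hqK => hc g hg q hq hqK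

/-- the same with 537's `Q0` -/
theorem not_le_normalizer (h : Pos S P ε) (hI : In S (zl (S : Subgroup G) P) P ε i j) :
    ¬ NN ε i j ≤ normalizer (Five.Q0 ε i j : Set G) :=
  (Five.mv_iff le_rfl).1 (exists_mover h hI)

end Cfsg.Agent.Omega.NSix.HT.Fix

end

end

-- merged: Cfsg.Agent.Mrg.Omega.NSix.NoBlk.Sym
section

section


/-!
# THEOREM BL* (OMEGA #18620, helper107), part 5: the symmetric group

`noBlock` : `P` induces the symmetric group of degree `2^(m+1) + 1` on the even-subset module `E`; there is no block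
`(L, V)` over `B = bau S` satisfying `Ctx`.
-/

set_option autoImplicit false

namespace Cfsg.Agent.Omega.NSix.NoBlk.Sym

open Subgroup Cfsg Cfsg.Agent.PLocal.ThompsonJ Cfsg.Agent.ZN Cfsg.Agent.ZN.ChoiceBase
open Cfsg.Agent.ZN.ChoiceSit
open Cfsg.Agent.Omega.SQ1.BauK.InK (QL mem_QL not_QL)
open Cfsg.Agent.Omega.NO3b.FPB.Base Cfsg.Agent.Omega.NO3b.FPB.Claim
open Cfsg.Agent.Omega.NSix.NoBlk.Pair Cfsg.Agent.Omega.NSix.NoBlk.XB
open Cfsg.Agent.Omega.NSix.NoBlk.Core Cfsg.Agent.Omega.S5.Def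

universe u

variable {G : Type u} [Group G] {S : Sylow 2 G} {P Q E L V W : Subgroup G} {n : ℕ}
  {ε : (Fin n → ZMod 2) → G}

/-! ### pull-backs -/

/-- The vectors whose image lies in `H`. -/
def pull (ev : EvenSet n E P ε) (H : Subgroup G) : AddSubgroup (Fin n → ZMod 2) where
  carrier := {x | ε x ∈ H}
  zero_mem' := by
    change ε 0 ∈ H
    rw [ev.zero]
    exact one_mem _
  add_mem' {x y} hx hy := by
    change ε (x + y) ∈ H
    rw [ev.add]
    exact mul_mem hx hy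
  neg_mem' {x} hx := by
    change ε (-x) ∈ H
    have h1 : -x = x := by
      rw [neg_eq_iff_add_eq_zero]
      exact add_self x
    rw [h1]
    exact hx

theorem mem_pull {ev : EvenSet n E P ε} {H : Subgroup G} {x : Fin n → ZMod 2} :
    x ∈ pull ev H ↔ ε x ∈ H := Iff.rfl

theorem one_mem_pull (ev : EvenSet n E P ε) (H : Subgroup G) : 1 ∈ pull ev H := by
  rw [mem_pull, ev.one]
  exact one_mem _

/-- The permutations induced by the elements of `H`. -/
def ind (ε : (Fin n → ZMod 2) → G) (H : Subgroup G) : Subgroup (Equiv.Perm (Fin n)) where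
  carrier := {σ | ∃ y ∈ H, Acts ε y σ}
  one_mem' := ⟨1, one_mem _, Acts.one⟩
  mul_mem' {σ τ} hσ hτ := by
    obtain ⟨y, hy, hyσ⟩ := hσ
    obtain ⟨z, hz, hzτ⟩ := hτ
    exact ⟨y * z, mul_mem hy hz, hyσ.mul hzτ⟩
  inv_mem' {σ} hσ := by
    obtain ⟨y, hy, hyσ⟩ := hσ
    exact ⟨y⁻¹, inv_mem hy, hyσ.inv⟩

theorem mem_ind {H : Subgroup G} {σ : Equiv.Perm (Fin n)} : σ ∈ ind ε H ↔ ∃ y ∈ H, Acts ε y σ :=
  Iff.rfl

/-- `N_P(C_B(V)) ∩ N(V Z_J)` -/
def DD (S : Sylow 2 G) (P V : Subgroup G) : Subgroup G :=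
  P ⊓ normalizer (QL (S : Subgroup G) V : Set G) ⊓
    normalizer ((V ⊔ zj (S : Subgroup G) : Subgroup G) : Set G)

theorem mem_DD {y : G} : y ∈ DD S P V ↔ (y ∈ P ∧ y ∈ normalizer (QL (S : Subgroup G) V : Set G)) ∧
    y ∈ normalizer ((V ⊔ zj (S : Subgroup G) : Subgroup G) : Set G) := by
  unfold DD
  rw [mem_inf, mem_inf]

/-! ### 2-elements -/

theorem two_part [Finite G] (y : G) (N : ℕ) :
    ∃ k, IsPGroup 2 (zpowers (y ^ k)) ∧ k ≡ 1 [MOD 2 ^ N] := by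
  have hy : 0 < orderOf y := orderOf_pos y
  obtain ⟨a, r, hr, hor⟩ := Nat.exists_eq_two_pow_mul_odd (Nat.pos_iff_ne_zero.1 hy)
  have hco : Nat.Coprime r (2 ^ N) := Nat.Coprime.pow_right N (Nat.coprime_two_right.2 hr)
  obtain ⟨k, hk1, hk2⟩ := Nat.chineseRemainder hco 0 1
  refine ⟨k, ?_, hk2⟩
  have h1 : r ∣ k := (Nat.modEq_zero_iff_dvd).1 hk1
  have h2 : (y ^ k) ^ 2 ^ a = 1 := by
    obtain ⟨t, rfl⟩ := h1
    rw [← pow_mul, show r * t * 2 ^ a = 2 ^ a * r * t by ring, ← hor, pow_mul, pow_orderOf_eq_one,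
      one_pow]
  rintro ⟨z, hz⟩
  obtain ⟨i, rfl⟩ := mem_zpowers_iff.1 hz
  refine ⟨a, ?_⟩
  rw [Subtype.ext_iff]
  push_cast
  rw [← zpow_natCast, ← zpow_mul, mul_comm, zpow_mul, zpow_natCast, h2, one_zpow]

theorem Acts_pow {y : G} {σ : Equiv.Perm (Fin n)} (hy : Acts ε y σ) (k : ℕ) :
    Acts ε (y ^ k) (σ ^ k) := by
  induction k with
  | zero =>
    rw [pow_zero, pow_zero]
    exact Acts.one
  | succ k ih =>
    rw [pow_succ, pow_succ]
    exact ih.mul hy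

/-- A 2-element of `H` inducing `σ`. -/
theorem exists_two [Finite G] {H : Subgroup G} {σ : Equiv.Perm (Fin n)} {N : ℕ}
    (hσ : σ ^ 2 ^ N = 1) (h : σ ∈ ind ε H) :
    ∃ y ∈ H, Acts ε y σ ∧ IsPGroup 2 (zpowers y) := by
  obtain ⟨y, hy, hyσ⟩ := h
  obtain ⟨k, hk, hk1⟩ := two_part y N
  refine ⟨y ^ k, pow_mem hy k, ?_, hk⟩
  have h1 := Acts_pow hyσ k
  have h2 : σ ^ k = σ := by
    conv_rhs => rw [← pow_one σ]
    rw [pow_eq_pow_iff_modEq]
    exact hk1.of_dvd (orderOf_dvd_of_pow_eq_one hσ)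
  rwa [h2] at h1

section

variable [Finite G] (h : Ctx S P Q E L V) (ev : EvenSet n E P ε)
include h ev

theorem Q_acts {s : G} (hs : s ∈ Q) : Acts ε s 1 := fun x => by
  rw [h.QE s hs _ (ev.mem x)]
  change ε x * s * s⁻¹ = ε x
  group

theorem DD_cj {y : G} (hy : y ∈ DD S P V) :
    cj y (V ⊔ zj (S : Subgroup G)) = V ⊔ zj (S : Subgroup G) :=
  mem_normalizer_iff_cj.1 (mem_DD.1 hy).2

/-- An element inducing a permutation which fixes a nontrivial element of `C_E(L)`. -/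
theorem ind_or {b d y : G} (hb : b ∈ bau (S : Subgroup G)) (hd : d ∈ E) (hd1 : d ≠ 1)
    (hL : ∀ l ∈ L, l * d = d * l) (hy : y ∈ P) (hyd : y * d * y⁻¹ = d)
    {σ : Equiv.Perm (Fin n)} (hσ : Acts ε y σ) :
    σ ∈ ind ε (DD S P V) ∨
      ∀ x ∈ pull ev (EB E Q (V ⊔ zj (S : Subgroup G)) b), x ∘ σ ∈ pull ev (centralizer (L : Set G)) := by
  have key : ∀ {z : G}, z * d * z⁻¹ = d → ∀ l ∈ cj z L, l * d = d * l := by
    intro z hz l hl
    obtain ⟨l', hl', rfl⟩ := mem_cj_iff.1 hl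
    have h1 := comm_conj_iff (g := z) |>.2 (hL l' hl')
    rwa [hz] at h1
  by_cases hs : ∃ s ∈ Q, cj y (QL (S : Subgroup G) V) = cj s (QL (S : Subgroup G) V)
  · left
    obtain ⟨s, hs, he⟩ := hs
    have hy' : s⁻¹ * y ∈ P := mul_mem (inv_mem (h.QP hs)) hy
    have hd' : s⁻¹ * y * d * (s⁻¹ * y)⁻¹ = d := by
      have h1 : s * d * s⁻¹ = d := by rw [h.QE s hs d hd]; group
      calc s⁻¹ * y * d * (s⁻¹ * y)⁻¹ = s⁻¹ * (y * d * y⁻¹) * s := by group
        _ = s⁻¹ * (s * d * s⁻¹) * s := by rw [hyd, h1]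
        _ = d := by group
    have he' : cj (s⁻¹ * y) (QL (S : Subgroup G) V) = QL (S : Subgroup G) V := by
      rw [← cj_cj, he, cj_inv_cj]
    refine ⟨s⁻¹ * y, mem_DD.2 ⟨⟨hy', mem_normalizer_iff_cj.2 he'⟩, mem_normalizer_iff_cj.2
      (h.same hy' he' hd hd1 hL (key hd'))⟩, ?_⟩
    have h2 := (Q_acts h ev hs).inv.mul hσ
    rwa [inv_one, one_mul] at h2
  · right
    push Not at hs
    intro x hx
    rw [mem_pull, mem_centralizer_iff]
    intro l hl
    have h1 := h.apartQ hy hd hd1 hL (key hyd) hs hb (ε x) hx (y * l * y⁻¹) (conj_mem_cj hl)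
    have h2 : ε x = y * ε (x ∘ σ) * y⁻¹ := by
      rw [hσ]
      congr 1
      funext i
      simp
    rw [h2] at h1
    exact comm_conj_iff.1 h1

/-- `E_b^σ ∩ C_E(L) = 1` -/
theorem dis {b y : G} (hb : Good (S : Subgroup G) Q V b) (hy : y ∈ DD S P V)
    {σ : Equiv.Perm (Fin n)} (hσ : Acts ε y σ) {x : Fin n → ZMod 2}
    (hx : x ∈ pull ev (EB E Q (V ⊔ zj (S : Subgroup G)) b))
    (hxK : x ∘ σ.symm ∈ pull ev (centralizer (L : Set G))) : x = 0 ∨ x = 1 := by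
  have hyD := mem_DD.1 hy
  have h1 : ε (x ∘ σ.symm) ∈ EB E Q (V ⊔ zj (S : Subgroup G)) (y * b * y⁻¹) := by
    rw [← h.cj_EB hyD.1.1 (DD_cj h ev hy), ← hσ]
    exact conj_mem_cj hx
  have h2 := h.EB_disj (h.good_conj hb hyD.1.1 hyD.1.2) h1 fun l hl =>
    mem_centralizer_iff.1 hxK l hl
  rw [← hσ] at h2
  have h3 : ε x = 1 := by
    calc ε x = y⁻¹ * (y * ε x * y⁻¹) * y := by group
      _ = 1 := by rw [h2]; group
  exact (ev.ker x).1 h3

/-- `E = E_b C_E(L)^σ` -/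
theorem spl {b y : G} (hb : Good (S : Subgroup G) Q V b) (hy : y ∈ DD S P V)
    {σ : Equiv.Perm (Fin n)} (hσ : Acts ε y σ) (x : Fin n → ZMod 2) :
    ∃ u ∈ pull ev (EB E Q (V ⊔ zj (S : Subgroup G)) b),
      ∃ c ∈ pull ev (centralizer (L : Set G)), x = u + c ∘ σ.symm := by
  have hy' : y⁻¹ ∈ DD S P V := inv_mem hy
  have hyD := mem_DD.1 hy'
  have hP := (mem_DD.1 hy).1.1
  have h1 : y⁻¹ * ε x * y ∈ E := conj_mem_of_norm' h.PE hP (ev.mem x)
  obtain ⟨u', hu', c', hc', hc, he⟩ := h.EB_split (h.good_conj hb hyD.1.1 hyD.1.2) h1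
  rw [← h.cj_EB hyD.1.1 (DD_cj h ev hy')] at hu'
  obtain ⟨u, hu, rfl⟩ := mem_cj_iff.1 hu'
  obtain ⟨ux, rfl⟩ := ev.surj u (mem_inf.1 hu).1
  obtain ⟨cx, rfl⟩ := ev.surj c' hc'
  have h2 : ε x = ε (ux + cx ∘ σ.symm) := by
    rw [ev.add, ← hσ]
    calc ε x = y * (y⁻¹ * ε x * y) * y⁻¹ := by group
      _ = _ := by rw [he]; group
  rcases ev.eq_iff.1 h2 with h3 | h3
  · exact ⟨ux, hu, cx, mem_centralizer_iff.2 hc, h3⟩
  · refine ⟨ux + 1, AddSubgroup.add_mem _ (show ux ∈ pull ev _ from hu) (one_mem_pull ev _), cx,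
      mem_centralizer_iff.2 hc, ?_⟩
    rw [h3]
    abel

/-- A good element for a 2-element of `N_P(C_B(V)) ∩ N(V Z_J)`. -/
theorem good_inv {y : G} (hy : y ∈ DD S P V) (hy2 : IsPGroup 2 (zpowers y)) :
    ∃ b, Good (S : Subgroup G) Q V b ∧
      cj y (EB E Q (V ⊔ zj (S : Subgroup G)) b) = EB E Q (V ⊔ zj (S : Subgroup G)) b := by
  have hyD := mem_DD.1 hy
  set Q1 := Q ⊓ normalizer (QL (S : Subgroup G) V : Set G) with hQ1
  have hyQ : zpowers y ≤ normalizer (Q1 : Set G) := by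
    rw [zpowers_le, mem_normalizer_iff]
    intro z
    rw [hQ1, mem_inf, mem_inf]
    refine and_congr (mem_normalizer_iff.1 (h.PQ hyD.1.1) z) ⟨fun hz => ?_, fun hz => ?_⟩
    · exact mul_mem (mul_mem hyD.1.2 hz) (inv_mem hyD.1.2)
    · have h1 := mul_mem (mul_mem (inv_mem hyD.1.2) hz) hyD.1.2
      have h2 : y⁻¹ * (y * z * y⁻¹) * y = z := by group
      rwa [h2] at h1
  obtain ⟨b, hb, hbP, hbR⟩ := exists_good h.k (R := Q1 ⊔ zpowers y)
    (IsPGroup.to_sup_of_normal_left' (h.Q2.to_le inf_le_left) hy2 hyQ)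
    (sup_le (inf_le_left.trans (h.QP.trans h.nB)) (by rw [zpowers_le]; exact h.nB hyD.1.1))
    (sup_le inf_le_right (by rw [zpowers_le]; exact hyD.1.2))
  refine ⟨b, ⟨hb, hbP, fun s hs hsn => hbR s (mem_sup_left ⟨hs, hsn⟩)⟩, ?_⟩
  rw [h.cj_EB hyD.1.1 (DD_cj h ev hy)]
  have h1 := hbR y (mem_sup_right (mem_zpowers y))
  have e : y * b * y⁻¹ = b * (b⁻¹ * (y * b * y⁻¹)) := by group
  rw [e, h.EB_coset hb h1]

theorem inv_pull {b y : G} {σ : Equiv.Perm (Fin n)} (hσ : Acts ε y σ)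
    (he : cj y (EB E Q (V ⊔ zj (S : Subgroup G)) b) = EB E Q (V ⊔ zj (S : Subgroup G)) b) :
    ∀ x ∈ pull ev (EB E Q (V ⊔ zj (S : Subgroup G)) b),
      x ∘ σ.symm ∈ pull ev (EB E Q (V ⊔ zj (S : Subgroup G)) b) := by
  intro x hx
  rw [mem_pull, ← hσ, ← he]
  exact conj_mem_cj hx

theorem good_ex : ∃ b, Good (S : Subgroup G) Q V b := by
  obtain ⟨b, hb, -⟩ := good_inv h ev (y := 1) (one_mem _) (by
    rw [zpowers_one_eq_bot]
    exact IsPGroup.of_bot)
  exact ⟨b, hb⟩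

theorem pull_ne {b : G} (hb : Good (S : Subgroup G) Q V b) :
    ∃ u ∈ pull ev (EB E Q (V ⊔ zj (S : Subgroup G)) b), u ≠ 0 ∧ u ≠ 1 := by
  obtain ⟨e, he, he1⟩ := h.EB_ne hb
  obtain ⟨u, rfl⟩ := ev.surj e (mem_inf.1 he).1
  refine ⟨u, he, fun h0 => he1 ?_, fun h0 => he1 ?_⟩
  · rw [h0, ev.zero]
  · rw [h0, ev.one]

/-- Steps (3), (4): `|C_E(L)| > 2` is impossible. -/
theorem big {m : ℕ} (hn : n = 2 ^ (m + 1) + 1) {d d' : G} (hd : d ∈ E) (hd1 : d ≠ 1)
    (hL : ∀ l ∈ L, l * d = d * l) (hd' : d' ∈ E) (hd1' : d' ≠ 1) (hL' : ∀ l ∈ L, l * d' = d' * l)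
    (hne : d ≠ d') : False := by
  have hcard : Fintype.card (Fin n) = 2 ^ (m + 1) + 1 := by rw [Fintype.card_fin, hn]
  have hodd : Odd (Fintype.card (Fin n)) := by
    rw [hcard]
    exact Even.add_one (Nat.even_pow.2 ⟨even_two, by omega⟩)
  obtain ⟨x, rfl⟩ := ev.surj d hd
  obtain ⟨x', rfl⟩ := ev.surj d' hd'
  set K := pull ev (centralizer (L : Set G)) with hK
  have hxK : x ∈ K := mem_centralizer_iff.2 hL
  have hxK' : x' ∈ K := mem_centralizer_iff.2 hL'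
  have hne0 : ∀ z : Fin n → ZMod 2, ε z ≠ 1 ↔ z ≠ 0 ∧ z ≠ 1 := by
    intro z
    rw [Ne, ev.ker, not_or]
  -- a nontrivial element of `C_E(L)` fixed by a given transposition
  have hfix : ∀ a c : Fin n, ∃ z ∈ K, ε z ≠ 1 ∧ z a = z c := by
    intro a c
    by_cases h1 : x a = x c
    · exact ⟨x, hxK, hd1, h1⟩
    by_cases h2 : x' a = x' c
    · exact ⟨x', hxK', hd1', h2⟩
    refine ⟨x + x', K.add_mem hxK hxK', ?_, ?_⟩
    · rw [ev.add]
      intro h3
      exact hne ((mul_eq_one_iff_eq_inv.1 h3).trans (ev.inv x'))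
    · rw [Pi.add_apply, Pi.add_apply]
      rcases Comb.zmod_two (x a) with h3 | h3 <;> rcases Comb.zmod_two (x c) with h4 | h4 <;>
      rcases Comb.zmod_two (x' a) with h5 | h5 <;> rcases Comb.zmod_two (x' c) with h6 | h6 <;>
      rw [h3, h4] at h1 <;> rw [h5, h6] at h2 <;> rw [h3, h4, h5, h6] <;> first
        | exact absurd rfl h1 | exact absurd rfl h2 | decide
  obtain ⟨b0, hb0⟩ := good_ex h ev
  obtain ⟨u, hu, hu0, hu1⟩ := pull_ne h ev hb0
  have htop : ind ε (DD S P V) = ⊤ := by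
    refine Comb.allSwap (U := pull ev (EB E Q (V ⊔ zj (S : Subgroup G)) b0)) (K := K) hodd
      (one_mem_pull ev _) hu hu0 hu1 ?_ ?_
    · intro z hz hzK
      refine dis h ev hb0 (one_mem _) Acts.one hz ?_
      exact hzK
    · intro a c hac
      obtain ⟨z, hz, hz1, hzac⟩ := hfix a c
      obtain ⟨y, hy, hya⟩ := ev.full (Equiv.swap a c)
      rcases ind_or h ev hb0.mem (ev.mem z) hz1 (fun l hl => mem_centralizer_iff.1 hz l hl) hy
        (by
          rw [hya]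
          congr 1
          exact Comb.comp_swap_eq z hzac) hya with h1 | h1
      · exact absurd h1 hac
      · exact h1
  obtain ⟨ρ, hρ, hρc⟩ := Comb.exists_cycle hcard
  have hρo : ρ⁻¹ ^ 2 ^ (m + 1) = 1 := by
    rw [inv_pow, ← hρc, ← hρ.orderOf, pow_orderOf_eq_one, inv_one]
  obtain ⟨y, hy, hyρ, hy2⟩ := exists_two (H := DD S P V) (ε := ε) hρo (by rw [htop]; trivial)
  obtain ⟨b, hb, hyb⟩ := good_inv h ev hy hy2
  obtain ⟨v, hv, hv0, hv1⟩ := pull_ne h ev hb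
  have hact : ∀ σ : Equiv.Perm (Fin n), ∃ y ∈ DD S P V, Acts ε y σ := by
    intro σ
    have h1 : σ ∈ ind ε (DD S P V) := by rw [htop]; trivial
    exact h1
  refine Comb.noCycle hcard hρ hρc (U := pull ev (EB E Q (V ⊔ zj (S : Subgroup G)) b)) (K := K)
    (one_mem_pull ev _) (one_mem_pull ev _) ?_ hxK ((hne0 x).1 hd1).1 ((hne0 x).1 hd1).2
    (inv_pull h ev hyρ hyb) ?_ ?_
  · intro hKt
    have h1 : v ∈ K := by rw [hKt]; trivial
    rcases dis h ev hb (one_mem _) Acts.one hv h1 with h2 | h2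
    · exact hv0 h2
    · exact hv1 h2
  · intro σ z hz hzK
    obtain ⟨y', hy', hyσ⟩ := hact σ⁻¹
    exact dis h ev hb hy' hyσ hz hzK
  · intro σ z
    obtain ⟨y', hy', hyσ⟩ := hact σ⁻¹
    exact spl h ev hb hy' hyσ z

/-- Step (5): `|C_E(L)| = 2` is impossible. -/
theorem small {m : ℕ} (hn : n = 2 ^ (m + 1) + 1) {d : G} (hd : d ∈ E) (hd1 : d ≠ 1)
    (hL : ∀ l ∈ L, l * d = d * l) (hK : ∀ c ∈ E, (∀ l ∈ L, l * c = c * l) → c = 1 ∨ c = d) :
    False := by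
  have hcard : Fintype.card (Fin n) = 2 ^ (m + 1) + 1 := by rw [Fintype.card_fin, hn]
  have hodd : Odd (Fintype.card (Fin n)) := by
    rw [hcard]
    exact Even.add_one (Nat.even_pow.2 ⟨even_two, by omega⟩)
  obtain ⟨x0, rfl⟩ := ev.surj d hd
  -- the even representative
  obtain ⟨x, hx0, hx1, hxs, hxx⟩ : ∃ x : Fin n → ZMod 2, x ≠ 0 ∧ x ≠ 1 ∧ ∑ i, x i = 0 ∧
      ε x = ε x0 := by
    have h1 : x0 ≠ 0 ∧ x0 ≠ 1 := by
      rwa [Ne, ev.ker, not_or] at hd1
    obtain ⟨x, -, hx0, hx1, hxs, hxx⟩ := Comb.exists_even hodd (A := ⊤) (AddSubgroup.mem_top 1)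
      (AddSubgroup.mem_top x0) h1.1 h1.2
    refine ⟨x, hx0, hx1, hxs, ?_⟩
    rcases hxx with rfl | rfl
    · rfl
    · rw [ev.add, ev.one, mul_one]
  rw [← hxx] at hd1 hL hK hd
  set K := pull ev (centralizer (L : Set G)) with hKdef
  have hxK : x ∈ K := mem_centralizer_iff.2 hL
  obtain ⟨b0, hb0⟩ := good_ex h ev
  obtain ⟨u, hu, hu0, hu1⟩ := pull_ne h ev hb0
  have hsw : ∀ a c, x a = x c → Equiv.swap a c ∈ ind ε (DD S P V) := by
    intro a c hac
    obtain ⟨y, hy, hya⟩ := ev.full (Equiv.swap a c)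
    have hyd : y * ε x * y⁻¹ = ε x := by
      rw [hya]
      congr 1
      exact Comb.comp_swap_eq x hac
    rcases ind_or h ev hb0.mem (ev.mem x) hd1 hL hy hyd hya with h1 | h1
    · exact h1
    · exfalso
      have h2 := h1 u hu
      have h3 : ε u = 1 ∨ ε u = ε x := by
        have h4 : ε u = y * ε (u ∘ Equiv.swap a c) * y⁻¹ := by
          rw [hya]
          congr 1
          funext i
          simp
        rcases hK _ (ev.mem _) (fun l hl => mem_centralizer_iff.1 h2 l hl) with h5 | h5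
        · left
          rw [h4, h5]
          group
        · right
          rw [h4, h5, hyd]
      have h4 : ε u ∈ centralizer (L : Set G) := by
        rcases h3 with h3 | h3
        · rw [h3]; exact one_mem _
        · rw [h3]; exact hxK
      rcases dis h ev hb0 (one_mem _) Acts.one hu h4 with h5 | h5
      · exact hu0 h5
      · exact hu1 h5
  obtain ⟨k, hk⟩ := Comb.even_weight hxs
  obtain ⟨θ, e, hθ, hθ2, hθf, -, hes⟩ := Comb.exists_pairing k _ hk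
  have hex : e + e ∘ θ = x := by
    rw [hes]
    funext i
    rcases Comb.zmod_two (x i) with h1 | h1
    · simp [h1]
    · simp [h1]
  have hθD : θ ∈ ind ε (DD S P V) := by
    refine (closure_le _).2 ?_ hθ
    rintro σ ⟨a, ha, c, hc, rfl⟩
    refine hsw a c ?_
    rw [Finset.mem_filter] at ha hc
    rw [ha.2, hc.2]
  obtain ⟨y, hy, hyθ, hy2⟩ := exists_two (N := 1) (by rw [pow_one, pow_two, hθ2]) hθD
  obtain ⟨b, hb, hyb⟩ := good_inv h ev hy hy2
  have hθs : θ.symm = θ := by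
    have h1 : θ⁻¹ = θ := inv_eq_of_mul_eq_one_left hθ2
    exact h1
  have hinv := inv_pull h ev hyθ hyb
  rw [hθs] at hinv
  have hxθ : x ∘ θ = x := by
    rw [← hex]
    have h1 : (e + e ∘ θ) ∘ θ = e ∘ θ + (e ∘ θ) ∘ θ := rfl
    have h2 : (e ∘ θ) ∘ θ = e := by
      funext i
      have h3 : θ (θ i) = i := by rw [← Equiv.Perm.mul_apply, hθ2]; rfl
      simp only [Function.comp_apply, h3]
    rw [h1, h2, add_comm]
  have hxU : x ∈ pull ev (EB E Q (V ⊔ zj (S : Subgroup G)) b) := by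
    refine Comb.mem_of_pairing hxθ hex ?_ hinv
    intro z
    obtain ⟨w, hw, c, hc, hcL, hz⟩ := h.EB_split hb (ev.mem z)
    rcases hK c hc hcL with h1 | h1
    · left
      rw [mem_pull, hz, h1, mul_one]
      exact hw
    · right
      rw [mem_pull, ev.add, hz, h1, mul_assoc, ev.sq, mul_one]
      exact hw
  rcases dis h ev hb (one_mem _) Acts.one hxU hxK with h5 | h5
  · exact hx0 h5
  · exact hx1 h5

/-- THEOREM BL* -/
theorem noBlock {m : ℕ} (hn : n = 2 ^ (m + 1) + 1) : False := by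
  obtain ⟨d, hd, hd1, hL⟩ := h.nK
  by_cases hK : ∀ c ∈ E, (∀ l ∈ L, l * c = c * l) → c = 1 ∨ c = d
  · exact small h ev hn hd hd1 hL hK
  · push Not at hK
    obtain ⟨c, hc, hcL, hc1, hcd⟩ := hK
    exact big h ev hn hd hd1 hL hc hc1 hcL (Ne.symm hcd)

end

end Cfsg.Agent.Omega.NSix.NoBlk.Sym

end

section


/-!
# THEOREM BL* (OMEGA #18620, helper107)

`G` of characteristic 2 type, `S ∈ Syl₂(P)`, `Q = O₂(P)`, `E = Ω₁(Z(Q))` the even-subset module of degree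
`n = 2^m + 1` (`P` induces `Sym(n)`, `C_S(E) ≤ Q`), `J(S) ≤ Q`.

* `no_blk`: no Baumann block `(L, V)` over `bau S` satisfying (N) (for `T ≥ Q`) centralises `1 ≠ d ∈ E`;
* `hasBlk_of`: the FF theorem gives a block satisfying (N);
* `cen`: `Q ≤ T`, `X ≤ C_G(d)` a minimal parabolic over `T ∈ Syl₂(X)` of characteristic 2 with `J(S) ≰ O₂(X)`:
  then `O²(X)` centralises `⟨Ω₁(Z(T))^X⟩`.
-/

set_option autoImplicit false

namespace Cfsg.Agent.Omega.NSix.NoBlk.Main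

open Subgroup Cfsg Cfsg.Agent.PLocal.ThompsonJ Cfsg.Agent.ZN Cfsg.Agent.ZN.ChoiceBase
open Cfsg.Agent.ZN.ChoiceSit
open Cfsg.Agent.Omega.SQ1.BauK.InK (QL mem_QL not_QL)
open Cfsg.Agent.Omega.NO3b.FPB.Base Cfsg.Agent.Omega.NO3b.FPB.Claim
open Cfsg.Agent.Omega.NSix.NoBlk.Pair Cfsg.Agent.Omega.NSix.NoBlk.Core
open Cfsg.Agent.Omega.S5.Def
open Cfsg.Agent.MinSimple.MinParabolic (IsMinPar)
open Cfsg.Agent.MinSimple.VModule (oddGen)

universe u

variable {G : Type u} [Group G] {T X L V : Subgroup G}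

/-- (N) : `N_T(C_B(V))` normalises `C_{Z_J}(L)`. -/
def NN (T L V : Subgroup G) : Prop :=
  ∀ s ∈ T, s ∈ normalizer (QL T V : Set G) → ∀ z ∈ zj T, (∀ l ∈ L, l * z = z * l) →
    ∀ l ∈ L, l * (s * z * s⁻¹) = (s * z * s⁻¹) * l

/-- A Baumann block over `bau T` in `X` satisfying (N). -/
def HasBlk (T X : Subgroup G) : Prop := ∃ L V : Subgroup G, L ≤ X ∧ PB T L V ∧ NN T L V

theorem hasBlk_nat [Finite G] {H T Q V V0 : Subgroup G} {ι : Type} {N A : ι → Subgroup G} {q : ℕ}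
    (h : SQ1.BauK.InK H T Q V V0 N A q) (i : ι) : HasBlk T H := by
  obtain ⟨L, k⟩ := h.exists_blk i
  refine ⟨L, NO3b.FPB.OfInK.N0 N i L, k.LH h, ⟨NO3b.FPB.OfInK.blk k h, ?_,
    NO3b.FPB.OfInK.bk k h le_top (PB.le_norm_top L)⟩, fun s hs hn z hz hc =>
    Nrm.nrmK k h hs hn hz hc⟩
  exact isElementaryAbelian_mono
    (isElementaryAbelian_iff.2 ⟨fun v hv w hw => h.VcQ v (h.VQ hv) w hw, h.Vsq⟩)
    ((NO3b.FPB.OfInK.N0_le k h).trans (h.NV i))

theorem hasBlk_sym [Finite G] {H T Q V : Subgroup G} {ι : Type} {N : ι → Subgroup G} {d t r : ι → G}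
    (hT : Syl T H) (h : SQ1.BauS.In H T Q V N d t r) (i : ι) : HasBlk T H := by
  obtain ⟨L, k⟩ := h.exists_blk i
  exact ⟨L, N i, k.LP.trans (h.PP_le i), ⟨NO3b.FPB.OfS.blk k h,
    isElementaryAbelian_mono h.Velem (h.NV i),
    NO3b.FPB.OfS.bk k h le_top (PB.le_norm_top L)⟩, fun s hs hn z hz hc =>
    Nrm.nrmS hT k h hs hn hz hc⟩

/-- The FF theorem gives a block satisfying (N). -/
theorem hasBlk_of [Finite G] (hFF : FFThm.Stmt.{u}) (hT : Syl T X)
    (hP : IsMinPar T X) (hc : X ⊓ centralizer (o2 X : Set G) ≤ o2 X) (hJ : ¬ jj T ≤ o2 X)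
    (hne : (X ⊓ centralizer (zl T X : Set G)) ⊔ T ≠ X) : HasBlk T X := by
  rcases NO3b.FPB.OfStmt.of_stmt hFF hT hP hc hJ hne with
    ⟨ι, N, A, q, ⟨i⟩, h⟩ | ⟨ι, N, d, t, r, ⟨i⟩, h, -⟩
  · exact hasBlk_nat h i
  · exact hasBlk_sym hT h i

/-- The data of `P`: `E = Ω₁(Z(O₂(P)))` is the even-subset module of degree `2^m + 1`, `J(S) ≤ O₂(P)`. -/
structure Dat (S : Sylow 2 G) (P E : Subgroup G) {n : ℕ} (ε : (Fin n → ZMod 2) → G) : Prop where
  hG : IsCharacteristicTwoType G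
  SP : (S : Subgroup G) ≤ P
  ev : EvenSet n E P ε
  zE : zc (o2 P) = E
  cE : (S : Subgroup G) ⊓ centralizer (E : Set G) ≤ o2 P
  J : jj (S : Subgroup G) ≤ o2 P

namespace Dat

variable {S : Sylow 2 G} {P E : Subgroup G} {n : ℕ} {ε : (Fin n → ZMod 2) → G}

theorem QS [Finite G] (D : Dat S P E ε) : o2 P ≤ (S : Subgroup G) :=
  o2_le_syl (MinSimple.EmptyTI.syl_of_le D.SP)

theorem EZ [Finite G] (D : Dat S P E ε) : E ≤ zj (S : Subgroup G) := by
  intro e he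
  rw [← D.zE, ChoiceBase.mem_zc] at he
  have hc : ∀ j ∈ jj (S : Subgroup G), j * e = e * j := fun j hj => he.2.2 j (D.J hj)
  exact ChoiceBase.mem_zj.2 ⟨mem_jj_of_comm (D.QS he.1) he.2.1 hc, he.2.1, hc⟩

theorem BQ [Finite G] (D : Dat S P E ε) : bau (S : Subgroup G) ≤ o2 P := fun b hb =>
  D.cE ⟨ChoiceBase.bau_le _ hb, mem_centralizer_iff.2 fun e he => (mem_bau.1 hb).2 e (D.EZ he)⟩

theorem bauQ [Finite G] (D : Dat S P E ε) : bau (o2 P) = bau (S : Subgroup G) :=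
  LemmaK.Main.bau_eq S (ZN.isPGroup_o2 P) D.BQ

theorem nB [Finite G] (D : Dat S P E ε) : P ≤ normalizer (bau (S : Subgroup G) : Set G) := by
  rw [← D.bauQ]
  exact (ZN.le_normalizer_o2 P).trans (normalizer_le_bau _)

theorem ctx [Finite G] (D : Dat S P E ε) (hQT : o2 P ≤ T) (hT2 : IsPGroup 2 T) (k : PB T L V)
    (hN : NN T L V) {d : G} (hd : d ∈ E) (hd1 : d ≠ 1) (hL : ∀ l ∈ L, l * d = d * l) :
    Ctx S P (o2 P) E L V := by
  have hb : bau T = bau (S : Subgroup G) := LemmaK.Main.bau_eq S hT2 (D.BQ.trans hQT)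
  have hz : zj T = zj (S : Subgroup G) := NO3b.FPB.Move.zj_eq hb
  have hq : QL T V = QL (S : Subgroup G) V := by unfold QL; rw [hb]
  exact
    { hG := D.hG
      k := k.of_bau hb
      nB := D.nB
      Q2 := ZN.isPGroup_o2 P
      QP := ZN.o2_le P
      PQ := ZN.le_normalizer_o2 P
      EZ := D.EZ
      PE := D.ev.le_normalizer
      QE := fun s hs e he => by
        rw [← D.zE, ChoiceBase.mem_zc] at he
        exact he.2.2 s hs
      CE := fun z hz hc => by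
        rw [← D.zE, ChoiceBase.mem_zc]
        have hz' := ChoiceBase.mem_zj.1 hz
        exact ⟨D.J hz'.1, hz'.2.1, hc⟩
      nK := ⟨d, hd, hd1, hL⟩
      nrm := fun t ht htn z hz' hc => hN t (hQT ht) (by rw [hq]; exact htn) z (by rw [hz]; exact hz')
        hc }

end Dat

variable {S : Sylow 2 G} {P E : Subgroup G} {m : ℕ} {ε : (Fin (2 ^ m + 1) → ZMod 2) → G}

/-- **THEOREM BL\*** -/
theorem no_blk [Finite G] (D : Dat S P E ε) (hm : 1 ≤ m) (hQT : o2 P ≤ T) (hT2 : IsPGroup 2 T)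
    (k : PB T L V) (hN : NN T L V) {d : G} (hd : d ∈ E) (hd1 : d ≠ 1)
    (hL : ∀ l ∈ L, l * d = d * l) : False := by
  obtain ⟨m, rfl⟩ : ∃ k, m = k + 1 := ⟨m - 1, by omega⟩
  exact Sym.noBlock (D.ctx hQT hT2 k hN hd hd1 hL) D.ev rfl

/-- **COR.** of THEOREM BL*. -/
theorem cen [Finite G] (hFF : FFThm.Stmt.{u}) (D : Dat S P E ε) (hm : 1 ≤ m) (hQT : o2 P ≤ T)
    (hT : Syl T X) (hP : IsMinPar T X) (hc : X ⊓ centralizer (o2 X : Set G) ≤ o2 X) {d : G}
    (hd : d ∈ E) (hd1 : d ≠ 1) (hX : X ≤ centralizer {d}) (hJ : ¬ jj (S : Subgroup G) ≤ o2 X) :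
    oddGen X ≤ centralizer (zl T X : Set G) := by
  by_contra hne
  have hBT : bau (S : Subgroup G) ≤ T := D.BQ.trans hQT
  have hJT : ¬ jj T ≤ o2 X := by rwa [LemmaK.Main.jj_eq S hT.2.1 hBT]
  obtain ⟨L, V, hLX, k, hN⟩ := hasBlk_of hFF hT hP hc hJT (NO3b.FPB.Cen.cent_sup_ne hT hne)
  refine no_blk D hm hQT hT.2.1 k hN hd hd1 fun l hl => ?_
  exact (mem_centralizer_iff.1 (hX (hLX hl)) d (Set.mem_singleton d)).symm

/-- `Ω₁(Z(T)) ≤ C(O²(X))`. -/
theorem cen_zc [Finite G] (hFF : FFThm.Stmt.{u}) (D : Dat S P E ε) (hm : 1 ≤ m) (hQT : o2 P ≤ T)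
    (hT : Syl T X) (hP : IsMinPar T X) (hc : X ⊓ centralizer (o2 X : Set G) ≤ o2 X) {d : G}
    (hd : d ∈ E) (hd1 : d ≠ 1) (hX : X ≤ centralizer {d}) (hJ : ¬ jj (S : Subgroup G) ≤ o2 X) :
    zc T ≤ centralizer (oddGen X : Set G) :=
  SQ1.VOf.zc_le_zl.trans (le_centralizer_iff.1 (cen hFF D hm hQT hT hP hc hd hd1 hX hJ))

/-- The data for a minimal parabolic `P ∈ P*(S)` with `V_P` the even-subset module. -/
theorem dat_par [Finite G] (hG : IsCharacteristicTwoType G) (hP : MinPar.IsParS (S : Subgroup G) P)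
    {n : ℕ} {ε : (Fin n → ZMod 2) → G} (ev : EvenSet n (zl (S : Subgroup G) P) P ε)
    (hZ : zc (o2 P) = zl (S : Subgroup G) P) (hJ : jj (S : Subgroup G) ≤ o2 P) :
    Dat S P (zl (S : Subgroup G) P) ε where
  hG := hG
  SP := hP.isLoc.le
  ev := ev
  zE := hZ
  cE := (hP.inf_centralizer S hG).le
  J := hJ

end Cfsg.Agent.Omega.NSix.NoBlk.Main

end

end

-- merged: Cfsg.Agent.Mrg.Omega.NSix.HTwo.StepFour
section

/-!
# #18323 (4) (helper480): the minimal parabolics of `C_G(r_ij)` which move `Ω₁(Z(T₁))`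

`V = zl S P` even subsets, `T₁ = S ∩ C_G(r_ij)`, `R ≤ C_G(r_ij)` a minimal parabolic over `T₁`, `W = zl T₁ R`.

* `char2_of` : `R` has characteristic 2;
* `zc_le` : `Ω₁(Z(T₁)) ≤ V ∩ UU ε i j`; `zl_le` : `W ≤ UU ε i j`;
* `comm` : if `UU ε a b` is trivial or an offender on `W` for all pairs `a, b` disjoint from `i, j`, then
  `[W, UU ε a b] = 1` for all of them;
* `not_cent` : `X ≤ T₁`, `X ≰ O₂(R)` implies `[W, X] ≠ 1`;
* `main` : all this for `R ≰ N_G(V)`, `R ≰ C_G(z_0)` in the situation `LemTwo.In`, with `NoOverM W R`.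
-/

set_option autoImplicit false

namespace Cfsg.Agent.Omega.NSix.HTwo.StepFour

open Subgroup Cfsg
open Cfsg.Agent.ZN.ChoiceSit (Syl)
open Cfsg.Agent.ZN (zc zl o2)
open Cfsg.Agent.MinSimple.MinParabolic (IsMinPar)
open Cfsg.Agent.MinSimple.VModule (mem_zc zc_le le_centralizer_zc le_normalizer_o2 o2_le o2_isPGroup le_o2)
open Cfsg.Agent.Omega.MinPar Cfsg.Agent.Omega.FFThm
open Cfsg.Agent.Omega.S5.Def Cfsg.Agent.Omega.S5.Syl
open Cfsg.Agent.Omega.NSix.Base Cfsg.Agent.Omega.NSix.Basic Cfsg.Agent.Omega.NSix.Engine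

universe u

variable {G : Type u} [Group G] {n : ℕ} {V P T R : Subgroup G} {ε : (Fin n → ZMod 2) → G} {i j : Fin n}

theorem le_norm_UU (i j : Fin n) : NN ε i j ≤ normalizer (UU ε i j : Set G) := by
  intro g hg
  rw [mem_normalizer_iff]
  intro x
  refine ⟨fun hx => UU_normal hg hx, fun hx => ?_⟩
  have h1 := UU_normal (inv_mem hg) hx
  have e : g⁻¹ * (g * x * g⁻¹) * g⁻¹⁻¹ = x := by group
  rwa [e] at h1

theorem zl_le (hRN : R ≤ NN ε i j) (hE : zc T ≤ UU ε i j) : zl T R ≤ UU ε i j :=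
  MinSimple.VModule.zl_le hE (hRN.trans (le_norm_UU i j))

/-- a group between a Sylow 2-subgroup (or any `T ≥ O₂(N)`) and `N` of characteristic 2 has characteristic 2 -/
theorem char2_of [Finite G] {N : Subgroup G} (hN : N ⊓ centralizer (o2 N : Set G) ≤ o2 N) (hRN : R ≤ N)
    (hO : o2 N ≤ R) : R ⊓ centralizer (o2 R : Set G) ≤ o2 R := by
  have h1 : o2 N ≤ o2 R := le_o2 hO (o2_isPGroup N) (hRN.trans (le_normalizer_o2 N))
  intro x hx
  exact h1 (hN ⟨hRN hx.1, centralizer_le h1 hx.2⟩)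

section

variable [Finite G] {S : Sylow 2 G}

/-- `Ω₁(Z(T₁)) ≤ V ∩ UU ε i j` -/
theorem zc_le (hG : IsCharacteristicTwoType G) (hP : IsParS (S : Subgroup G) P)
    (h : Hyp (zl (S : Subgroup G) P) P ε) (hij : i ≠ j)
    (hOS : o2 (NN ε i j) ≤ (S : Subgroup G)) :
    zc ((S : Subgroup G) ⊓ NN ε i j) ≤ zl (S : Subgroup G) P ⊓ UU ε i j := by
  intro x hx
  obtain ⟨hxT, hxc, hx2⟩ := mem_zc.1 hx
  have hO : OmegaOne.Hyp (zl (S : Subgroup G) P) P S ε := by
    refine ⟨h.ev, hP.le, MinSimple.VModule.zc_le_zl _ _, h.pair, h.le, ?_⟩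
    obtain ⟨a, b, hab, g, hg, -, hgV⟩ := h.mov
    exact ⟨a, b, hab, g, hg, hgV⟩
  have hV : zl (S : Subgroup G) P ≤ zc (o2 P) := hP.isLoc.zl_le S hG
  have hinf := hP.inf_centralizer S hG
  have hQT : o2 P ≤ (S : Subgroup G) ⊓ NN ε i j := by
    intro q hq
    have h1 : q ∈ (S : Subgroup G) ⊓ centralizer (zl (S : Subgroup G) P : Set G) := by rw [hinf]; exact hq
    exact ⟨h1.1, mem_NN.2 (mem_centralizer_iff.1 h1.2 _ (rr_mem h.ev i j)).symm⟩
  have hVT : zl (S : Subgroup G) P ≤ (S : Subgroup G) ⊓ NN ε i j := (hV.trans (MinSimple.VModule.zc_le _)).trans hQT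
  have hxQ : x ∈ o2 P := by
    rw [← hinf]
    exact ⟨hxT.1, mem_centralizer_iff.2 fun v hv => hxc v (hVT hv)⟩
  have hxV : x ∈ zl (S : Subgroup G) P := by
    rw [← OmegaOne.zc_o2_par hG h.n5 hP hO]
    exact mem_zc.2 ⟨hxQ, fun b hb => hxc b (hQT hb), hx2⟩
  refine ⟨hxV, ?_⟩
  obtain ⟨y, rfl⟩ := h.ev.surj x hxV
  refine (h.eU hij y).2 ?_
  obtain ⟨w, hw, hwa⟩ := h.exists_w hij
  have hwN : w ∈ o2 (NN ε i j) := h.W2_leQ hij hw
  have h1 := hxc w ⟨hOS hwN, o2_le _ hwN⟩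
  have h2 := hwa y
  rw [h1, mul_inv_cancel_right, h.ev.eq_iff] at h2
  rcases h2 with h2 | h2
  · have h3 := congrFun h2 i
    rwa [Function.comp_apply, Equiv.symm_swap, Equiv.swap_apply_left] at h3
  · exfalso
    obtain ⟨k, hk1, hk2, -, -⟩ := exists_fifth h.n5 i j i i
    have h3 := congrFun h2 k
    rw [Pi.add_apply, Function.comp_apply, Equiv.symm_swap, Equiv.swap_apply_of_ne_of_ne hk1 hk2, Pi.one_apply] at h3
    revert h3
    generalize y k = t
    revert t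
    decide

/-- **(4)**: `[W, UU ε a b] = 1` -/
theorem comm (h : Hyp V P ε) (hij : i ≠ j) (hFF : StmtM.{u}) (hT : Syl T R) (hR : IsMinPar T R) (hRN : R ≤ NN ε i j)
    (hc : R ⊓ centralizer (o2 R : Set G) ≤ o2 R) (hE : zc T ≤ UU ε i j)
    (hU : ∀ a b, D4 i j a b → UU ε a b ≤ T)
    (hoff : ∀ a b, D4 i j a b → UU ε a b ≤ centralizer (zl T R : Set G) ∨ OffM (zl T R) (UU ε a b))
    {a b : Fin n} (hD : D4 i j a b) : UU ε a b ≤ centralizer (zl T R : Set G) := by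
  by_contra hn
  set 𝒜 : Set (Subgroup G) := {A | ∃ a b, D4 i j a b ∧ A = UU ε a b} with h𝒜
  obtain ⟨ν, hν, E, h1, ⟨A, ⟨a', b', hD', rfl⟩, u, hu, hne⟩, h3⟩ := Vec.exists_vec hFF hT hR hc (𝒜 := 𝒜)
    (by rintro A ⟨a, b, hab, rfl⟩; exact hU a b hab)
    (by rintro A ⟨a, b, hab, rfl⟩; exact hoff a b hab)
    ⟨_, ⟨a, b, hD, rfl⟩, hn⟩
  have h4 := HTwo.Hyp.lemP_set h hij (zl_le hRN hE hν) (E := E) (fun a b hD => h1 _ ⟨a, b, hD, rfl⟩) ⟨a', b', hD', u, hu, hne⟩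
  have h5 : Vec.cms ν (UU ε a' b') = E := (h1 _ ⟨a', b', hD', rfl⟩).resolve_left fun h => hne (h u hu)
  have h6 : u * ν * u⁻¹ * ν⁻¹ ∈ E := by
    rw [← h5]
    exact ⟨u, hu, rfl⟩
  have h7 := h3 _ h6 fun g hg => by
    have h8 : g * rr ε i j = rr ε i j * g := mem_NN.1 (hRN hg)
    obtain ⟨k, hk⟩ := mem_zpowers_iff.1 (h4 _ h6)
    rw [← hk]
    exact (show Commute g (rr ε i j) from h8).zpow_right k
  apply hne
  have e : u * ν * u⁻¹ * ν⁻¹ = u * ν * (ν * u)⁻¹ := by group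
  rw [e] at h7
  exact mul_inv_eq_one.1 h7

/-- `X ≤ T`, `X ≰ O₂(R)` moves `W` -/
theorem not_cent {X : Subgroup G} (hT : Syl T R) (hR : IsMinPar T R) (hZ : ¬ R ≤ centralizer (zc T : Set G))
    (hX : X ≤ T) (hXo : ¬ X ≤ o2 R) : ¬ X ≤ centralizer (zl T R : Set G) :=
  fun h => hXo fun _ hx => OM.BlkGen.inf_cent hT hR hZ ⟨hX hx, h hx⟩

/-- `z_0 ∈ Ω₁(Z(T₁))` -/
theorem zz_mem_zc (hG : IsCharacteristicTwoType G) (hP : IsParS (S : Subgroup G) P)
    (h : Hyp (zl (S : Subgroup G) P) P ε) {c : Fin n} (hz : ∀ s ∈ (S : Subgroup G), s * zz ε c = zz ε c * s) :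
    zz ε c ∈ zc ((S : Subgroup G) ⊓ NN ε i j) := by
  have hV : zl (S : Subgroup G) P ≤ zc (o2 P) := hP.isLoc.zl_le S hG
  have hVS : zl (S : Subgroup G) P ≤ (S : Subgroup G) := by
    have h1 := hP.inf_centralizer S hG
    exact (hV.trans (MinSimple.VModule.zc_le _)).trans (h1.ge.trans inf_le_left)
  refine mem_zc.2 ⟨⟨hVS (zz_mem h.ev c), ?_⟩, fun b hb => hz b hb.1, by rw [pow_two]; exact zz_sq h.ev c⟩
  exact mem_NN.2 (h.ev.comm_mem (zz_mem h.ev c) (rr_mem h.ev i j))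

end

section

variable [Finite G] {S : Sylow 2 G} {m : ℕ} {ε : (Fin (2 ^ m + 1) → ZMod 2) → G} {i j : Fin (2 ^ m + 1)}

/-- **(4)** for a minimal parabolic `R` of `C_G(r_ij)` over `T₁ = S ∩ C_G(r_ij)` -/
theorem main (hFF : StmtM.{u}) (hG : IsCharacteristicTwoType G) (hP : IsParS (S : Subgroup G) P)
    (hI : LemTwo.In S (zl (S : Subgroup G) P) P ε i j) (hR : IsMinPar ((S : Subgroup G) ⊓ NN ε i j) R)
    (hRN : R ≤ NN ε i j) (hRV : ¬ R ≤ normalizer (zl (S : Subgroup G) P : Set G))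
    (hRz : ¬ R ≤ centralizer ({zz ε 0} : Set G))
    (hoff : ∀ W ≤ UU ε i j, ∀ a b, D4 i j a b → UU ε a b ≤ centralizer (W : Set G) ∨ OffM W (UU ε a b)) :
    zl ((S : Subgroup G) ⊓ NN ε i j) R ≤ UU ε i j ∧
      (∀ a b, D4 i j a b → UU ε a b ≤ centralizer (zl ((S : Subgroup G) ⊓ NN ε i j) R : Set G)) ∧
      ¬ LemTwo.XX ε i j ≤ centralizer (zl ((S : Subgroup G) ⊓ NN ε i j) R : Set G) ∧
      NoOverM (zl ((S : Subgroup G) ⊓ NN ε i j) R) R ∧ Syl ((S : Subgroup G) ⊓ NN ε i j) R := by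
  set T := (S : Subgroup G) ⊓ NN ε i j with hTdef
  have hTR : T ≤ R := hR.le
  have hT : Syl T R := by
    obtain ⟨h1, h2, h3⟩ := hI.syl
    exact ⟨hTR, h2, fun Q hQR hQ hTQ => h3 Q (hQR.trans hRN) hQ hTQ⟩
  have hcN : NN ε i j ⊓ centralizer (o2 (NN ε i j) : Set G) ≤ o2 (NN ε i j) :=
    MinSimple.Basic.char2_centralizer hG (by rw [pow_two]; exact rr_sq hI.hyp.ev i j)
      (rr_ne_one hI.hyp.ev hI.three hI.ij)
  have hc : R ⊓ centralizer (o2 R : Set G) ≤ o2 R := char2_of hcN hRN (hI.o2_le_T.trans hTR)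
  have hE : zc T ≤ UU ε i j := (zc_le hG hP hI.hyp hI.ij (hI.o2_le_T.trans inf_le_left)).trans inf_le_right
  have hZ : ¬ R ≤ centralizer (zc T : Set G) := by
    intro h1
    apply hRz
    refine h1.trans (centralizer_le ?_)
    rw [Set.singleton_subset_iff]
    refine zz_mem_zc hG hP hI.hyp fun s hs => ?_
    obtain ⟨σ, hσ⟩ := hI.hyp.ev.perm s (hP.le hs)
    have h2 := zz_conj hσ 0
    rw [hI.fix0 s hs σ hσ] at h2
    exact mul_inv_eq_iff_eq_mul.1 h2
  have hU : ∀ a b, D4 i j a b → UU ε a b ≤ T := fun a b hD =>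
    le_inf ((LemTwo.UU_le_o2 hI.hyp hD.kl).trans hI.o2_KK_le) ((hI.hyp.UK hD.kl).trans (LemTwo.KK_le_NN i j))
  refine ⟨zl_le hRN hE, fun a b hD => ?_, ?_, Vec.noOverM hFF hT hR hc, hT⟩
  · exact comm hI.hyp hI.ij hFF hT hR hRN hc hE hU (fun a b hD => hoff _ (zl_le hRN hE) a b hD) hD
  · exact not_cent hT hR hZ hI.XX_le_T (hI.not_le_o2 hTR hRN hRV)

end

end Cfsg.Agent.Omega.NSix.HTwo.StepFour

end

-- merged: Cfsg.Agent.Mrg.Omega.NSix.HTwo.StepC
section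

/-!
# #18323 (helper480): (H2) of N6, the assembly of the steps (1)-(7)  (helper546)

`T₁ = C_S(r_ij)`, `S` induces `(i j)`, `N = C_G(r_ij)`, `V = zl S P`.

* `in_of` : the input of 537's `LemTwo` from `Main.Pos` and 395's `TLEnd` (#16633 (1), (4));
* `two_pairs` : two disjoint pairs off `{i, j}` induced by `S`;
* `off_of` : (2), 940's `Off` with `T₁`; `lab_of` : (5)-(7), 480's `Star`; (4) is 778's `StepFour.main`;
* `steps_of : MLK → StmtM → Main.Steps K`; `symH2 : MLK → StmtM → SN.Two K → SymH2 K`; `symBig`.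
-/

set_option autoImplicit false
set_option linter.unusedSectionVars false

namespace Cfsg.Agent.Omega.NSix.HTwo.StepC

open Subgroup Cfsg Cfsg.Agent.Omega.MinPar
open Cfsg.Agent.ZN (o2 zc zl)
open Cfsg.Agent.ZN.ChoiceSit (Syl)
open Cfsg.Agent.MinSimple.VModule (o2_le o2_isPGroup le_normalizer_o2 le_o2 mem_zc)
open Cfsg.Agent.Omega.S5.Def Cfsg.Agent.Omega.S5.Syl
open Cfsg.Agent.Omega.NSix.Base Cfsg.Agent.Omega.NSix.Basic Cfsg.Agent.Omega.NSix.Engine
open Cfsg.Agent.Omega.NSix.Engine.Fr (Cen)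
open Cfsg.Agent.Omega.NSix.CosetAct (V0 mem_V0)
open Cfsg.Agent.Omega.NSix.HTwo.LemTwo (XX In)
open Cfsg.Agent.Omega.NSix.HTwo.Main (Pos Steps)
open Cfsg.Agent.Omega.Frame (Ctx Cls)
open Cfsg.Agent.Omega.TTn.Di (cm cj cm_one_iff)
open Cfsg.Agent.MinSimple.MinParabolic (IsMinPar)

universe u

variable {G : Type u} [Group G] [Finite G] {S : Sylow 2 G} {P : Subgroup G} {m : ℕ}
  {ε : (Fin (2 ^ m + 1) → ZMod 2) → G} {i j : Fin (2 ^ m + 1)}

/-- the situation of 395's `TLEnd` -/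
theorem sy_of (h : Pos S P ε) : TLEnd.Sy S (zl (S : Subgroup G) P) P ε m := ⟨h.hyp, h.par.le, h.m3, rfl⟩

theorem nc_of (h : Pos S P ε) : TLEnd.Nc ε := by
  have h9 : 9 ≤ 2 ^ m + 1 := (sy_of h).nine
  have hD : D4 (⟨0, by omega⟩ : Fin (2 ^ m + 1)) ⟨1, by omega⟩ ⟨2, by omega⟩ ⟨3, by omega⟩ := by
    refine ⟨?_, ?_, ?_, ?_, ?_, ?_⟩ <;>
      · intro e
        have := congrArg Fin.val e
        simp at this
  have h1 := h.nc _ _ _ _ hD
  push Not at h1
  obtain ⟨u, hu, y, hy, hne⟩ := h1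
  exact ⟨_, _, _, _, hD, u, hu, y, hy, hne⟩

/-- the input of `LemTwo` -/
theorem in_of (h : Pos S P ε) (hij : i ≠ j) (hsw : ∃ a ∈ (S : Subgroup G), Acts ε a (Equiv.swap i j)) :
    In S (zl (S : Subgroup G) P) P ε i j :=
  LemTwo.In.of h.hyp (by have := h.m3; omega) h.par.le h.fix0 hij hsw fun _ hg hx =>
    (sy_of h).norm_le (nc_of h) hij hg hx

/-! ### Two more pairs -/

section pairs

variable {V : Subgroup G} (h : In S V P ε i j)
include h

theorem mate {k l : Fin (2 ^ m + 1)} (hki : k ≠ i) (hkj : k ≠ j)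
    (hb : ∃ b ∈ (S : Subgroup G), Acts ε b (Equiv.swap k l)) : l ≠ i ∧ l ≠ j := by
  obtain ⟨b, hbS, hb⟩ := hb
  constructor
  · rintro rfl
    -- `b` fixes `j`, so `i`
    have hc := h.cosetHyp' h.ij.symm (by obtain ⟨a, ha, h1⟩ := h.swap; exact ⟨a, ha, by rwa [Equiv.swap_comm]⟩)
    have h2 := hc.fix_j hbS hb (Equiv.swap_apply_of_ne_of_ne hkj.symm h.ij.symm)
    rw [Equiv.swap_apply_right] at h2
    exact hki h2
  · rintro rfl
    have h2 := h.cosetHyp.fix_j hbS hb (Equiv.swap_apply_of_ne_of_ne hki.symm h.ij)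
    rw [Equiv.swap_apply_right] at h2
    exact hkj h2

/-- the pair of a label -/
theorem exists_mate {k : Fin (2 ^ m + 1)} (hk0 : k ≠ 0) :
    ∃ l, k ≠ l ∧ l ≠ 0 ∧ ∃ b ∈ (S : Subgroup G), Acts ε b (Equiv.swap k l) := by
  obtain ⟨s, hs, σ, hσ, h1⟩ := S5.Syl.trans (by have := h.hm; omega) h.hyp.ev h.SP
    (MinSimple.Basic.not_dvd_relIndex S h.SP) h.fix0 h.cosetHyp.i_ne_zero hk0
  obtain ⟨a, ha, hsw⟩ := h.swap
  have hj0 : j ≠ 0 := by
    have hc := h.cosetHyp' h.ij.symm ⟨a, ha, by rwa [Equiv.swap_comm]⟩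
    exact hc.i_ne_zero
  refine ⟨σ j, ?_, ?_, s * a * s⁻¹, mul_mem (mul_mem hs ha) (inv_mem hs), ?_⟩
  · rw [← h1]; exact σ.injective.ne h.ij
  · rw [← h.fix0 s hs σ hσ]
    exact σ.injective.ne hj0
  · have h3 := hσ.conj hsw
    rwa [← Equiv.swap_apply_apply, h1] at h3

/-- **two disjoint pairs off `{i, j}` induced by `S`** -/
theorem two_pairs (hm : 3 ≤ m) : ∃ k l k' l' : Fin (2 ^ m + 1), D4 i j k l ∧ D4 i j k' l' ∧ D4 k l k' l' ∧
    (∃ b ∈ (S : Subgroup G), Acts ε b (Equiv.swap k l)) ∧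
    ∃ b ∈ (S : Subgroup G), Acts ε b (Equiv.swap k' l') := by
  classical
  have h9 : 9 ≤ 2 ^ m + 1 := by
    have h1 : 2 ^ 3 ≤ 2 ^ m := Nat.pow_le_pow_right (by norm_num) hm
    omega
  have hex : ∀ s : Finset (Fin (2 ^ m + 1)), s.card ≤ 5 → ∃ k, k ∉ s := by
    intro s hs
    by_contra hcon
    push Not at hcon
    have h1 : (Finset.univ : Finset (Fin (2 ^ m + 1))) ⊆ s := fun k _ => hcon k
    have h2 := Finset.card_le_card h1
    rw [Finset.card_univ, Fintype.card_fin] at h2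
    omega
  obtain ⟨k, hk⟩ := hex {0, i, j} (Finset.card_le_three.trans (by norm_num))
  simp only [Finset.mem_insert, Finset.mem_singleton, not_or] at hk
  obtain ⟨hk0, hki, hkj⟩ := hk
  obtain ⟨l, hkl, hl0, hb⟩ := exists_mate h hk0
  obtain ⟨hli, hlj⟩ := mate h hki hkj hb
  obtain ⟨k', hk'⟩ := hex {0, i, j, k, l} Finset.card_le_five
  simp only [Finset.mem_insert, Finset.mem_singleton, not_or] at hk'
  obtain ⟨hk0', hki', hkj', hkk, hkl0⟩ := hk'
  obtain ⟨l', hkl', hl0', hb'⟩ := exists_mate h hk0'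
  obtain ⟨hli', hlj'⟩ := mate h hki' hkj' hb'
  have hlk : l' ≠ k ∧ l' ≠ l := by
    obtain ⟨b', hbS', hb2⟩ := hb'
    constructor
    · rintro rfl
      have hc := h.cosetHyp' hkl.symm (by obtain ⟨a, ha, h1⟩ := hb; exact ⟨a, ha, by rwa [Equiv.swap_comm]⟩)
      have h2 := hc.fix_j hbS' hb2 (Equiv.swap_apply_of_ne_of_ne (Ne.symm hkl0) hkl.symm)
      rw [Equiv.swap_apply_right] at h2
      exact hkk h2
    · rintro rfl
      have h2 := (h.cosetHyp' hkl hb).fix_j hbS' hb2 (Equiv.swap_apply_of_ne_of_ne (Ne.symm hkk) hkl)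
      rw [Equiv.swap_apply_right] at h2
      exact hkl0 h2
  exact ⟨k, l, k', l', ⟨h.ij, Ne.symm hki, hli.symm, Ne.symm hkj, hlj.symm, hkl⟩,
    ⟨h.ij, Ne.symm hki', hli'.symm, Ne.symm hkj', hlj'.symm, hkl'⟩,
    ⟨hkl, Ne.symm hkk, hlk.1.symm, Ne.symm hkl0, hlk.2.symm, hkl'⟩, hb, hb'⟩

end pairs

/-! ### (2) and (5)-(7) -/

theorem NN_ne_top (hG : Ctx G) (h : Pos S P ε) (hij : i ≠ j) : NN ε i j ≠ ⊤ := by
  intro h0
  have hn : 3 ≤ 2 ^ m + 1 := by have := h.hyp.n5; omega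
  have hr := rr_ne_one h.hyp.ev hn hij
  have hs := hG.simple
  have hc : rr ε i j ∈ center G := by
    rw [mem_center_iff]
    intro g
    exact mem_NN.1 (h0 ▸ mem_top g : g ∈ NN ε i j)
  rcases hs.eq_bot_or_eq_top_of_normal (center G) inferInstance with h1 | h1
  · rw [h1, mem_bot] at hc
    exact hr hc
  · exact hG.nonComm ⟨⟨fun a b => mem_center_iff.1 (h1 ▸ mem_top b : b ∈ center G) a⟩⟩

/-- **(2)**: `U_ab` centralises `W` or is an offender on `W` -/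
theorem off_of (hML : ML.Final.MLK.{u, u}) (hG : Ctx G) (h : Pos S P ε)
    (hI : In S (zl (S : Subgroup G) P) P ε i j) {a b : Fin (2 ^ m + 1)} (hD : D4 i j a b) {W : Subgroup G}
    (hW : W ≤ UU ε i j) : UU ε a b ≤ centralizer (W : Set G) ∨ FFThm.OffM W (UU ε a b) := by
  obtain ⟨T, hTi, hTk, hT2, hTo⟩ := Off.exists_syl hI.hm h.hyp hI.ij (inf_le_left.trans hI.SP) inf_le_right
    hI.T_two hI.not_dvd hD
  exact Off.offM h.hyp hML (hG.kproper _ (NN_ne_top hG h hI.ij)) hD hTi hTk hT2 hTo hW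

/-- **(5)-(7)** -/
theorem lab_of (h : Pos S P ε) (hI : In S (zl (S : Subgroup G) P) P ε i j) {W R : Subgroup G}
    (hTR : (S : Subgroup G) ⊓ NN ε i j ≤ R) (hNO : FFThm.NoOverM W R) (hW : W ≤ UU ε i j)
    (hU : ∀ a b, D4 i j a b → UU ε a b ≤ centralizer (W : Set G)) : ∀ y ∈ W, ∃ x, y = ε x := by
  obtain ⟨w, F⟩ := h.hyp.exists_fr
  obtain ⟨k, l, k', l', hp, hq, hpq, hb, hb'⟩ := two_pairs hI h.m3
  refine Star.main F h.hyp.thC (fun {_ _ _ _} hD y hy hc => Hyp.mem_Q h.hyp hD hy hc) hp hq hpq (R := R)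
    (fun y hy => ⟨hW hy, fun a b hD x hx => ?_⟩) hNO
    (fun c hc _ => hTR (hI.W2_le_T' hp.kl hp.ik.symm hp.jk.symm hp.il.symm hp.jl.symm hb hc))
    (fun c hc _ => hTR (hI.W2_le_T' hq.kl hq.ik.symm hq.jk.symm hq.il.symm hq.jl.symm hb' hc))
  exact mem_centralizer_iff.1 (hU a b hD hx) y hy

/-! ### The assembly -/

/-- **(1)-(7) of #18323** from (ML) and the FF theorem -/
theorem steps_of {K : Cls.{u}} (hML : ML.Final.MLK.{u, u}) (hFF : FFThm.StmtM.{u}) : Steps K := by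
  intro G _ _ hG hK S P m ε h i j hij hsw
  have hI := in_of h hij hsw
  refine ⟨hI.not_dvd, hI.norm_T_le, fun R hR hRN => ?_⟩
  by_contra hcon
  rw [not_or] at hcon
  obtain ⟨hRL, hRz⟩ := hcon
  obtain ⟨hW, hU, hX, hNO, -⟩ := StepFour.main hFF h.c2 h.par hI hR hRN hRL hRz
    fun W hW a b hD => off_of hML hG h hI hD hW
  refine hX fun x hx => mem_centralizer_iff.2 fun y hy => ?_
  obtain ⟨v, rfl⟩ := lab_of h hI hR.le hNO hW hU y hy
  exact (mem_KK'.1 (LemTwo.XX_le_KK h.hyp hx) v).symm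

/-- **(H2) of N6** from (ML), the FF theorem and THEOREM SN -/
theorem symH2 {K : Cls.{u}} (hML : ML.Final.MLK.{u, u}) (hFF : FFThm.StmtM.{u}) (h2 : NO3S.SN.Two K) :
    S5.SymBig.SymH2 K :=
  Main.symH2_of (steps_of hML hFF) h2

/-- **the leaf II.c** -/
theorem symBig {K : Cls.{u}} (hML : ML.Final.MLK.{u, u}) (hFF : FFThm.StmtM.{u}) (h2 : NO3S.SN.Two K) :
    S5.Main.SymBig K :=
  Main.symBig (steps_of hML hFF) h2

end Cfsg.Agent.Omega.NSix.HTwo.StepC

end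

-- merged: Cfsg.Agent.Mrg.Omega.NSix.CaseJ.PBlock
section

section


/-!
# OMEGA N6, case `J(S) ≰ O₂(P)`: FF-blocks over `B = bau S` lie in `N_G(V)`

`hp : PB (bau S) L W W1 W0 q` is an FF-block over `B` (arbitrary `q`, arbitrary extension of the natural module by
a trivial one), some involution `d i₀` of a pair commutes with `L`:

* `W_le_Q` : `W ≤ O₂(P)`;
* `W_le_V_two` (`q = 2`, LEMMA Q), `W_le_V_big` (`q > 2`, exact offenders);
* `q_eq_two`;
* `L_le` : `L ≤ N_G(V)` (LEMMA K and LEMMA N).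
-/

set_option autoImplicit false
set_option linter.unusedSectionVars false

namespace Cfsg.Agent.Omega.NSix.CaseJ.PBlock

open Subgroup Cfsg Cfsg.Agent.PLocal.ThompsonJ Cfsg.Agent.ZN Cfsg.Agent.ZN.ChoiceBase
open Cfsg.Agent.ZN.ChoiceSit Cfsg.Agent.PLocal.ElemAbSup
open Cfsg.Agent.Omega.MinPar
open Cfsg.Agent.Omega.S5.Def Cfsg.Agent.Omega.S5.Syl Cfsg.Agent.Omega.S5.Pair
open Cfsg.Agent.Omega.NSix.Base Cfsg.Agent.Omega.NSix.Basic
open Cfsg.Agent.Omega.SQ1.Bau (elem_comm elem_sq mem_sup_comm card_sup_comm Mv)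
open Cfsg.Agent.Omega.LemmaK (Block WeakNormal)
open Cfsg.Agent.Omega.OM (PB)
open Cfsg.Agent.Omega.NSix.CaseJ.Base Cfsg.Agent.Omega.NSix.CaseJ.Exact
open Cfsg.Agent.Omega.NSix.CaseJ.LemQ Cfsg.Agent.Omega.NSix.CaseJ.Blk Cfsg.Agent.Omega.NSix.CaseJ.Norm
open Cfsg.Agent.Omega.NSix.CaseJ.Fus

universe u

variable {G : Type u} [Group G] [Finite G] {S : Sylow 2 G} {P : Subgroup G} {m : ℕ}
  {ε : (Fin (2 ^ m + 1) → ZMod 2) → G} {ι : Type} {X Y : ι → Fin (2 ^ m + 1)} {N : ι → Subgroup G}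
  {t r : ι → G} {L W W1 W0 : Subgroup G} {q : ℕ}

theorem weak (S : Sylow 2 G) : WeakNormal 2 (bau (S : Subgroup G)) := fun _ hR hBR =>
  LemmaK.Main.le_normalizer_bau S hR hBR

/-! ### General facts -/

theorem W1_le (hp : PB (bau (S : Subgroup G)) L W W1 W0 q) : W1 ≤ zj (S : Subgroup G) := by
  intro n hn
  rw [← ChoiceBase.zc_bau, ChoiceBase.mem_zc]
  have h1 := hp.N1N hn
  exact ⟨hp.NB h1, elem_sq hp.el n h1, fun b hb => hp.N1c b hb n hn⟩

theorem W1_le_V (h : Hyp S P ε) (hp : PB (bau (S : Subgroup G)) L W W1 W0 q) :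
    W1 ≤ zl (S : Subgroup G) P := (W1_le hp).trans (LemQ.zj_le h)

theorem W0_le_V (h : Hyp S P ε) (hp : PB (bau (S : Subgroup G)) L W W1 W0 q) :
    W0 ≤ zl (S : Subgroup G) P := hp.N01.trans (W1_le_V h hp)

/-- The elements of `W1` commuting with `L` lie in `W0`. -/
theorem mem_W0 (hp : PB (bau (S : Subgroup G)) L W W1 W0 q) {z : G} (hz : z ∈ W1)
    (hc : ∀ l ∈ L, l * z = z * l) : z ∈ W0 := by
  obtain ⟨l, hl, hm⟩ := hp.mv
  have e : l * z * l⁻¹ = z := by rw [hc l hl]; group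
  have := hp.opp l hl hm z hz (by rw [e]; exact hz)
  rwa [e] at this

/-- The block of a pair as a `PB`. -/
theorem pb_i (hd : Dat S P ε X Y N t r) {i : ι} {L : Subgroup G} (k : Bk S P ε X Y r i L) :
    PB (bau (S : Subgroup G)) L (N i) (zpowers (rr ε (X i) (Y i))) ⊥ 2 :=
  OM.FBS.pb hd.bas (weak S) k

theorem comm_i (hd : Dat S P ε X Y N t r) {i : ι} {L : Subgroup G} (k : Bk S P ε X Y r i L) :
    ⁅N i, L⁆ = N i := OM.FBS.comm_eq hd.bas (weak S) k

/-- **LEMMA K** for two FF-blocks over conjugates of `B` commuting with a common involution. -/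
theorem comm_pb (h : Hyp S P ε) {L' W' W1' W0' : Subgroup G} {q' : ℕ}
    (hp : PB (bau (S : Subgroup G)) L W W1 W0 q) (hp' : PB (bau (S : Subgroup G)) L' W' W1' W0' q')
    {x y w : G} (hw1 : w ≠ 1) (hw2 : w * w = 1)
    (hx : ∀ l ∈ L, (x * l * x⁻¹) * w = w * (x * l * x⁻¹))
    (hy : ∀ l ∈ L', (y * l * y⁻¹) * w = w * (y * l * y⁻¹)) {a b : G}
    (ha : a ∈ (⁅W, L⁆ : Subgroup G)) (hb : b ∈ (⁅W', L'⁆ : Subgroup G)) :
    (x * a * x⁻¹) * (y * b * y⁻¹) = (y * b * y⁻¹) * (x * a * x⁻¹) := by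
  have b1 := OM.BlkGen.block_conj (hp.block (weak S)) x
  have b2 := OM.BlkGen.block_conj (hp'.block (weak S)) y
  have key : ∀ (x : G) (L : Subgroup G), (∀ l ∈ L, (x * l * x⁻¹) * w = w * (x * l * x⁻¹)) →
      cj x L ≤ normalizer (zpowers w : Set G) := by
    intro x L hx
    rintro _ ⟨l, hl, rfl⟩
    refine mem_normalizer_of_cj_le ?_
    rintro _ ⟨v, hv, rfl⟩
    have h1 := hx l hl
    change (x * l * x⁻¹) * v * (x * l * x⁻¹)⁻¹ ∈ _
    rcases mem_zp hw2 hv with rfl | rfl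
    · have e : (x * l * x⁻¹) * 1 * (x * l * x⁻¹)⁻¹ = 1 := by group
      rw [e]; exact one_mem _
    · rw [h1, mul_inv_cancel_right]; exact mem_zpowers _
  have h1 := b1.commutator_eq_bot_of_local h.hG b2 (U := zpowers w)
    (isPGroup_of_isElementaryAbelian (zp_elem hw2)) (by rwa [Ne, zpowers_eq_bot]) (key x L hx)
    (key y L' hy)
  rw [commutator_eq_bot_iff_le_centralizer] at h1
  exact (mem_centralizer_iff.1 (h1 ⟨a, ha, rfl⟩) _ ⟨b, hb, rfl⟩).symm

/-! ### Step 1: `W ≤ O₂(P)` -/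

theorem W_le_Q (h : Hyp S P ε) (hd : Dat S P ε X Y N t r) (hp : PB (bau (S : Subgroup G)) L W W1 W0 q)
    {i₀ : ι} (hc : ∀ l ∈ L, l * rr ε (X i₀) (Y i₀) = rr ε (X i₀) (Y i₀) * l) : W ≤ o2 P := by
  choose Li hLi using fun i => hd.bas.exists_blk i
  intro w hw
  have hwB := hp.NB hw
  refine h.cS (ChoiceBase.bau_le _ hwB) ?_
  have key : ∀ i, ∀ v ∈ N i, w * v = v * w := by
    intro i v hv
    by_cases hi : i = i₀
    · subst hi
      by_contra hne
      have hvV := hd.bas.NV i hv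
      have h1 : w * v * w⁻¹ = rr ε (X i) (Y i) * v := by
        rcases bau_N hd hwB hv with h1 | h1
        · exact absurd (comm_of_conj h1) hne
        · exact h1
      have h2 : v * w * v⁻¹ * w⁻¹ = rr ε (X i) (Y i) := by
        have h3 : w * v⁻¹ * w⁻¹ = v⁻¹ * rr ε (X i) (Y i) := by
          have h4 : w * v⁻¹ * w⁻¹ = (w * v * w⁻¹)⁻¹ := by group
          rw [h4, h1, mul_inv_rev, rr_inv h.ev]
        calc v * w * v⁻¹ * w⁻¹ = v * (w * v⁻¹ * w⁻¹) := by group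
          _ = rr ε (X i) (Y i) := by rw [h3]; group
      have hvB := VB h hvV
      have h3 := hp.quad v hvB w hw
      rw [h2] at h3
      have h4 : v * w * v⁻¹ * w⁻¹ ∈ W0 := by rw [h2]; exact mem_W0 hp h3 hc
      have h5 := hp.cent v hvB ⟨w, hw, fun e => hne e.symm⟩ w hw h4
      exact hne (hp.N1c v hvB w h5).symm
    · obtain ⟨u, hu, n, hn, rfl⟩ := hp.exists_V hw
      have hvV := hd.bas.NV i hv
      have h1 := comm_pb h hp (pb_i hd (hLi i)) (x := 1) (y := 1)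
        (rr_ne_one h.ev h.three (hd.ne i₀)) (rr_sq h.ev _ _)
        (fun l hl => by
          have := hc l hl
          rw [inv_one, mul_one, one_mul]; exact this)
        (fun l hl => by
          have := LemmaK.OfIn.cent_d (hLi i) hd.bas hi l hl
          rw [inv_one, mul_one, one_mul]; exact this) hu
        (by rw [comm_i hd (hLi i)]; exact hv)
      simp only [inv_one, mul_one, one_mul] at h1
      have h2 : n * v = v * n := h.ev.comm_mem (W0_le_V h hp hn) hvV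
      calc u * n * v = u * (v * n) := by rw [mul_assoc, h2]
        _ = v * u * n := by rw [← mul_assoc, h1]
        _ = v * (u * n) := mul_assoc _ _ _
  have h1 : (⨆ i, N i) ≤ centralizer ({w} : Set G) := iSup_le fun i v hv =>
    mem_centralizer_singleton_iff.2 (key i v hv).symm
  intro v hv
  exact (mem_centralizer_singleton_iff.1 (h1 (V_le_iSup h hd hv))).symm

/-! ### Step 2, `q = 2` -/

theorem W_le_V_two (h : Hyp S P ε) (hp : PB (bau (S : Subgroup G)) L W W1 W0 2) (hWQ : W ≤ o2 P) :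
    W ≤ zl (S : Subgroup G) P := by
  intro u hu
  by_cases hu1 : u ∈ W1
  · exact W1_le_V h hp hu1
  have huu : u * u = 1 := by
    have := elem_sq hp.el u hu
    rwa [pow_two] at this
  by_cases hs : ∀ s ∈ o2 P, s * u = u * s
  · exact oz h (hWQ hu) huu hs
  push Not at hs
  obtain ⟨s₀, hs₀, hne⟩ := hs
  have hB : ∀ {s : G}, s ∈ o2 P → s ∈ bau (S : Subgroup G) := fun hs => QB h hs
  have hzW := hp.quad s₀ (hB hs₀) u hu
  refine LemQ.mem h (v := s₀ * u * s₀⁻¹ * u⁻¹) (hWQ hu) huu (W1_le_V h hp hzW) ?_ fun s hs => ?_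
  · intro e
    apply hne
    calc s₀ * u = (s₀ * u * s₀⁻¹ * u⁻¹) * u * s₀ := by group
      _ = u * s₀ := by rw [e, one_mul]
  · by_cases hsW : ∀ v ∈ W, s * v = v * s
    · left; rw [hsW u hu]; group
    · right
      have h2 : (bau (S : Subgroup G) ⊓ centralizer (W : Set G)).relIndex (bau (S : Subgroup G)) = 2 := by
        have h3 := CosetAct.Hyp.card_mul_relIndex' (H := bau (S : Subgroup G) ⊓ centralizer (W : Set G))
          (K := bau (S : Subgroup G)) inf_le_left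
        rw [hp.cardB] at h3
        exact Nat.eq_of_mul_eq_mul_left Nat.card_pos h3
      have hmem : ∀ {s : G}, (hs : s ∈ bau (S : Subgroup G)) →
          ((⟨s, hs⟩ : bau (S : Subgroup G)) ∈
            (bau (S : Subgroup G) ⊓ centralizer (W : Set G)).subgroupOf (bau (S : Subgroup G)) ↔
            ∀ v ∈ W, s * v = v * s) := by
        intro s hs
        rw [mem_subgroupOf, mem_inf, mem_centralizer_iff]
        exact ⟨fun h0 v hv => (h0.2 v hv).symm, fun h0 => ⟨hs, fun v hv => (h0 v hv).symm⟩⟩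
      have h3 : (⟨s₀⁻¹, inv_mem (hB hs₀)⟩ * ⟨s, hB hs⟩ : bau (S : Subgroup G)) ∈
          (bau (S : Subgroup G) ⊓ centralizer (W : Set G)).subgroupOf (bau (S : Subgroup G)) := by
        rw [Subgroup.mul_mem_iff_of_index_two h2]
        constructor
        · intro h0
          exfalso
          have h4 := (hmem _).1 h0 u hu
          apply hne
          calc s₀ * u = s₀ * (u * s₀⁻¹) * s₀ := by group
            _ = s₀ * (s₀⁻¹ * u) * s₀ := by rw [h4]
            _ = u * s₀ := by group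
        · intro h0
          exact absurd ((hmem _).1 h0) hsW
      have h4 := (hmem (mul_mem (inv_mem (hB hs₀)) (hB hs))).1 h3 u hu
      calc s * u * s⁻¹ = s₀ * ((s₀⁻¹ * s) * u) * (s₀⁻¹ * s)⁻¹ * s₀⁻¹ := by group
        _ = s₀ * (u * (s₀⁻¹ * s)) * (s₀⁻¹ * s)⁻¹ * s₀⁻¹ := by rw [h4]
        _ = s₀ * u * s₀⁻¹ * u⁻¹ * u := by group

/-! ### Step 3: `q = 2` -/

theorem q_eq_two (h : Hyp S P ε) (hd : Dat S P ε X Y N t r)
    (hp : PB (bau (S : Subgroup G)) L W W1 W0 q) (hWV : W ≤ zl (S : Subgroup G) P) : q = 2 := by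
  have hex : ∃ i, ∃ v ∈ W, t i * v ≠ v * t i := by
    by_contra hcon
    push Not at hcon
    obtain ⟨b, hb, v, hv, hne⟩ := hp.exists_b
    have h1 : SQ1.BauS.In.EE t (o2 P) ≤ centralizer ({v} : Set G) := by
      refine sup_le ?_ fun x hx => ?_
      · rw [closure_le]
        rintro _ ⟨i, rfl⟩
        exact mem_centralizer_singleton_iff.2 (hcon i v hv)
      · exact mem_centralizer_singleton_iff.2 (h.VcQ hx (hWV hv))
    exact hne (mem_centralizer_singleton_iff.1 (h1 (hd.bas.bau_EE hb)))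
  obtain ⟨i, v, hv, hne⟩ := hex
  have hti := hd.bas.t_bau i
  have hv1 : v ∉ W1 := fun h1 => hne (hp.N1c _ hti v h1)
  have hmv : ∀ y ∈ W, y ∉ W1 → t i * y * (t i)⁻¹ = rr ε (X i) (Y i) * y := by
    intro y hy hy1
    rcases hd.bas.t_comm i y (hWV hy) with h1 | h1
    · exfalso
      apply hy1
      refine hp.cent (t i) hti ⟨v, hv, hne⟩ y hy ?_
      rw [h1, mul_inv_cancel]
      exact one_mem _
    · exact h1
  have h1 : Nat.card W ≤ 2 * Nat.card W1 := by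
    refine card_le_two (c := v) fun y hy hy1 => ?_
    refine hp.cent (t i) hti ⟨v, hv, hne⟩ _ (mul_mem (inv_mem hv) hy) ?_
    have e : t i * (v⁻¹ * y) * (t i)⁻¹ * (v⁻¹ * y)⁻¹ =
        (t i * v * (t i)⁻¹)⁻¹ * (t i * y * (t i)⁻¹) * (v⁻¹ * y)⁻¹ := by group
    rw [e, hmv v hv hv1, hmv y hy hy1]
    have e2 : (rr ε (X i) (Y i) * v)⁻¹ * (rr ε (X i) (Y i) * y) * (v⁻¹ * y)⁻¹ = 1 := by group
    rw [e2]
    exact one_mem _
  have h2 := hp.card
  rw [h2, mul_comm] at h1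
  have h3 := Nat.le_of_mul_le_mul_right h1 Nat.card_pos
  have h4 := hp.one
  omega

/-! ### Step 4: `L ≤ N_G(V)` -/

theorem card_HH_pb (hp : PB (bau (S : Subgroup G)) L W W1 W0 2) :
    Nat.card (zj (S : Subgroup G)) ≤ 2 * Nat.card (HH S L) := by
  by_cases hle : zj (S : Subgroup G) ≤ HH S L
  · have := Subgroup.card_le_of_le hle
    omega
  obtain ⟨c, hcZ, hcH⟩ := Set.not_subset.1 hle
  replace hcZ : c ∈ zj (S : Subgroup G) := hcZ
  have hsplit : ∀ z ∈ zj (S : Subgroup G), z ∉ HH S L → ∃ z' ∈ HH S L, ∃ n ∈ W1, n ∉ W0 ∧ z = z' * n := by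
    intro z hz hzH
    rw [← ChoiceBase.zc_bau] at hz
    obtain ⟨z', hz', hz'L, n, hn, e⟩ := hp.Z_split hz
    have hz'H : z' ∈ HH S L := mem_HH.2 ⟨by rw [← ChoiceBase.zc_bau]; exact hz', hz'L⟩
    refine ⟨z', hz'H, n, hn, fun hn0 => hzH ?_, e⟩
    rw [e]
    exact mul_mem hz'H (mem_HH.2 ⟨W1_le hp hn, fun l hl => hp.N0c l hl n hn0⟩)
  refine card_le_two (c := c) fun y hy hyH => ?_
  obtain ⟨c', hc', n, hn, hn0, ec⟩ := hsplit c hcZ hcH
  obtain ⟨y', hy', n', hn', hn0', ey⟩ := hsplit y hy hyH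
  -- `n⁻¹ n' ∈ W0`
  have h1 : n⁻¹ * n' ∈ W0 := by
    by_contra hnn
    have h2 : 2 * Nat.card W0 < Nat.card W1 ∨ n⁻¹ * n' ∈ W0 := by
      right
      have h3 : W0.relIndex W1 = 2 := by
        have h4 := CosetAct.Hyp.card_mul_relIndex' hp.N01
        rw [hp.card1] at h4
        exact Nat.eq_of_mul_eq_mul_left Nat.card_pos h4
      have h4 : (⟨n⁻¹, inv_mem hn⟩ * ⟨n', hn'⟩ : W1) ∈ W0.subgroupOf W1 := by
        rw [Subgroup.mul_mem_iff_of_index_two h3, mem_subgroupOf, mem_subgroupOf]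
        exact ⟨fun h0 => absurd ((inv_mem_iff).1 h0) hn0, fun h0 => absurd h0 hn0'⟩
      exact h4
    rcases h2 with h2 | h2
    · rw [hp.card1] at h2; omega
    · exact hnn h2
  have hnZ := W1_le hp hn
  have e : c⁻¹ * y = (c'⁻¹ * y') * (n⁻¹ * n') := by
    rw [ec, ey, mul_inv_rev]
    have h2 := zj_comm (inv_mem hnZ) (mul_mem (inv_mem (mem_HH.1 hc').1) (mem_HH.1 hy').1)
    calc n⁻¹ * c'⁻¹ * (y' * n') = (n⁻¹ * (c'⁻¹ * y')) * n' := by group
      _ = ((c'⁻¹ * y') * n⁻¹) * n' := by rw [h2]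
      _ = _ := by group
  rw [e]
  exact mul_mem (mul_mem (inv_mem hc') hy') (mem_HH.2 ⟨W1_le hp (hp.N01 h1), fun l hl => hp.N0c l hl _ h1⟩)

theorem L_le_of_V (h : Hyp S P ε) (h3 : 3 ≤ m) (hd : Dat S P ε X Y N t r)
    (hp : PB (bau (S : Subgroup G)) L W W1 W0 2) (hWV : W ≤ zl (S : Subgroup G) P) :
    L ≤ normalizer (zl (S : Subgroup G) P : Set G) := by
  choose Li hLi using fun i => hd.bas.exists_blk i
  intro g hg
  -- `R = C_B(W)`
  have hR : ∀ x ∈ bau (S : Subgroup G), (∀ v ∈ W, x * v = v * x) → ∀ l ∈ L,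
      l * x * l⁻¹ ∈ bau (S : Subgroup G) ∧ ∀ v ∈ W, (l * x * l⁻¹) * v = v * (l * x * l⁻¹) := by
    intro x hx hxW l hl
    refine ⟨hp.cor l hl x hx hxW, fun v hv => ?_⟩
    have h1 : l⁻¹ * v * l ∈ W := by
      have := hp.Nn l⁻¹ (inv_mem hl) v hv
      rwa [inv_inv] at this
    have h2 := hxW _ h1
    calc l * x * l⁻¹ * v = l * (x * (l⁻¹ * v * l)) * l⁻¹ := by group
      _ = l * ((l⁻¹ * v * l) * x) * l⁻¹ := by rw [h2]
      _ = v * (l * x * l⁻¹) := by group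
  have hVR : ∀ v ∈ zl (S : Subgroup G) P, ∀ w ∈ W, v * w = w * v := fun v hv w hw =>
    h.ev.comm_mem hv (hWV hw)
  have hVgB : ∀ v ∈ zl (S : Subgroup G) P, g * v * g⁻¹ ∈ bau (S : Subgroup G) := fun v hv =>
    (hR v (VB h hv) (hVR v hv) g hg).1
  -- the modules commute
  have hcomm : ∀ a ∈ zl (S : Subgroup G) P, ∀ b ∈ zl (S : Subgroup G) P,
      (1 * a * 1⁻¹) * (g * b * g⁻¹) = (g * b * g⁻¹) * (1 * a * 1⁻¹) := by
    intro a ha b hb
    refine comm_all h hd (fun i j a ha b hb => ?_) ha hb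
    obtain ⟨y, ⟨⟨hy1, hy2⟩, hy3⟩, hy⟩ := exists_three h hd h3 (A := HH S L) (B := HH S (Li i))
      (C := HH S (Li j)) inf_le_left inf_le_left inf_le_left (card_HH_pb hp) (card_HH h hd (hLi i))
      (card_HH h hd (hLi j))
    have hy1' := mem_HH.1 hy1
    have hy2' := mem_HH.1 hy2
    have hy3' := mem_HH.1 hy3
    have hyy : y * y = 1 := h.ev.sq_mem (LemQ.zj_le h hy1'.1)
    refine comm_conj h hd (hLi i) (hLi j) hy hyy (fun l hl => ?_) (fun l hl => ?_) ha hb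
    · have := hy2'.2 l hl
      calc 1 * l * 1⁻¹ * y = l * y := by group
        _ = y * l := this
        _ = y * (1 * l * 1⁻¹) := by group
    · have h1 := hy3'.2 l hl
      have h2 := hy1'.2 g hg
      have h4 : g⁻¹ * y = y * g⁻¹ := by
        calc g⁻¹ * y = g⁻¹ * (y * g) * g⁻¹ := by group
          _ = g⁻¹ * (g * y) * g⁻¹ := by rw [h2]
          _ = y * g⁻¹ := by group
      calc g * l * g⁻¹ * y = g * l * (g⁻¹ * y) := by group
        _ = g * (l * y) * g⁻¹ := by rw [h4]; group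
        _ = (g * y) * l * g⁻¹ := by rw [h1]; group
        _ = y * (g * l * g⁻¹) := by rw [h2]; group
  refine LemN.main h (fun v hv => ?_) fun s hs v hv => ?_
  · refine h.cS (ChoiceBase.bau_le _ (hVgB v hv)) fun w hw => ?_
    have h1 := hcomm w hw v hv
    have e : (1 : G) * w * 1⁻¹ = w := by group
    rw [e] at h1
    exact h1.symm
  · -- `Q ≤ R^g`
    have hsW : ∀ w ∈ W, s * w = w * s := fun w hw => h.VcQ hs (hWV hw)
    have h1 := hR s (QB h hs) hsW g⁻¹ (inv_mem hg)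
    rw [inv_inv] at h1
    have h2 : g⁻¹ * s * g ∈ P := h.SP (ChoiceBase.bau_le _ h1.1)
    have h4 := h.Vn h2 hv
    rw [mem_cj]
    have e : g⁻¹ * (s * (g * v * g⁻¹) * s⁻¹) * g = (g⁻¹ * s * g) * v * (g⁻¹ * s * g)⁻¹ := by group
    rw [e]
    exact h4

end Cfsg.Agent.Omega.NSix.CaseJ.PBlock

end

section


/-!
# OMEGA N6, case `J(S) ≰ O₂(P)`: FF-blocks over `B = bau S` with `q > 2`

`hp : PB (bau S) L W W1 W0 q`, `q > 2`, `W ≤ O₂(P)`, `L` commutes with some `d i₀`.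

* `exists_tor` : some `h₀ ∈ N_L(B)` moves `Z_J`; it permutes the pairs;
* `exists_pp` : pairs `p ≠ p'` such that the transposition `(X p, X p')` centralises `C_{Z_J}(L)`, but not `W1`;
* `conj_mem` : for an exact offender for this transposition `W^a ≤ V W`;
* `W_le_V_big` : `W ≤ V`.
-/

set_option autoImplicit false
set_option linter.unusedSectionVars false

namespace Cfsg.Agent.Omega.NSix.CaseJ.PBlock

open Subgroup Cfsg Cfsg.Agent.PLocal.ThompsonJ Cfsg.Agent.ZN Cfsg.Agent.ZN.ChoiceBase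
open Cfsg.Agent.ZN.ChoiceSit Cfsg.Agent.PLocal.ElemAbSup
open Cfsg.Agent.Omega.MinPar
open Cfsg.Agent.Omega.S5.Def Cfsg.Agent.Omega.S5.Syl Cfsg.Agent.Omega.S5.Pair
open Cfsg.Agent.Omega.NSix.Base Cfsg.Agent.Omega.NSix.Basic
open Cfsg.Agent.Omega.SQ1.Bau (elem_comm elem_sq mem_sup_comm card_sup_comm Mv)
open Cfsg.Agent.Omega.LemmaK (Block WeakNormal)
open Cfsg.Agent.Omega.OM (PB)
open Cfsg.Agent.Omega.NSix.CaseJ.Base Cfsg.Agent.Omega.NSix.CaseJ.Exact
open Cfsg.Agent.Omega.NSix.CaseJ.LemQ Cfsg.Agent.Omega.NSix.CaseJ.Blk Cfsg.Agent.Omega.NSix.CaseJ.Norm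
open Cfsg.Agent.Omega.NSix.CaseJ.Fus

universe u

variable {G : Type u} [Group G] [Finite G] {S : Sylow 2 G} {P : Subgroup G} {m : ℕ}
  {ε : (Fin (2 ^ m + 1) → ZMod 2) → G} {ι : Type} {X Y : ι → Fin (2 ^ m + 1)} {N : ι → Subgroup G}
  {t r : ι → G} {L W W1 W0 : Subgroup G} {q : ℕ}

/-! ### Coordinates of `Z_J` -/

theorem zj_coord (h : Hyp S P ε) (hd : Dat S P ε X Y N t r) {x : Fin (2 ^ m + 1) → ZMod 2}
    (hx : ε x ∈ zj (S : Subgroup G)) (p : ι) : x (X p) = x (Y p) :=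
  (swap_comm_iff h.ev h.three (hd.ne p) (hd.tA p) x).1
    ((ChoiceBase.mem_zj.1 hx).2.2 (t p) (hd.bas.tJ p))

theorem rr_not_zj (h : Hyp S P ε) (hd : Dat S P ε X Y N t r) {p p' : ι} (hpp : p ≠ p') :
    rr ε (X p) (X p') ∉ zj (S : Subgroup G) := by
  intro h0
  rw [rr_eq h.ev] at h0
  have h1 := zj_coord h hd h0 p
  obtain ⟨d1, d2, d3, d4⟩ := hd.disj p p' hpp
  rw [Pi.add_apply, Pi.add_apply, Pi.single_eq_same, Pi.single_eq_of_ne d1,
    Pi.single_eq_of_ne (hd.ne p).symm, Pi.single_eq_of_ne d3, add_zero, add_zero] at h1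
  exact one_ne_zero h1

theorem pair_of_zj (h : Hyp S P ε) (hd : Dat S P ε X Y N t r) {a b : Fin (2 ^ m + 1)} (hab : a ≠ b)
    (hz : rr ε a b ∈ zj (S : Subgroup G)) : ∃ p, (a = X p ∧ b = Y p) ∨ (a = Y p ∧ b = X p) := by
  have key : ∀ {a b : Fin (2 ^ m + 1)}, a ≠ b → rr ε a b ∈ zj (S : Subgroup G) → a ≠ 0 →
      ∃ p, (a = X p ∧ b = Y p) ∨ (a = Y p ∧ b = X p) := by
    intro a b hab hz ha
    rw [rr_eq h.ev] at hz
    obtain ⟨p, h1 | h1⟩ := hd.cov a ha
    · refine ⟨p, Or.inl ⟨h1.symm, ?_⟩⟩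
      by_contra hb
      have h2 := zj_coord h hd hz p
      rw [Pi.add_apply, Pi.add_apply, h1, Pi.single_eq_same, Pi.single_eq_of_ne hab,
        Pi.single_eq_of_ne (by rw [← h1]; exact (hd.ne p).symm), Pi.single_eq_of_ne (Ne.symm hb),
        add_zero, add_zero] at h2
      exact one_ne_zero h2
    · refine ⟨p, Or.inr ⟨h1.symm, ?_⟩⟩
      by_contra hb
      have h2 := zj_coord h hd hz p
      rw [Pi.add_apply, Pi.add_apply, h1, Pi.single_eq_same, Pi.single_eq_of_ne hab,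
        Pi.single_eq_of_ne (by rw [← h1]; exact hd.ne p), Pi.single_eq_of_ne (Ne.symm hb),
        add_zero, add_zero] at h2
      exact zero_ne_one h2
  by_cases ha : a = 0
  · have hb : b ≠ 0 := fun h0 => hab (ha.trans h0.symm)
    rw [rr_symm h.ev] at hz
    obtain ⟨p, h1 | h1⟩ := key hab.symm hz hb
    · exact ⟨p, Or.inr ⟨h1.2, h1.1⟩⟩
    · exact ⟨p, Or.inl ⟨h1.2, h1.1⟩⟩
  · exact key hab hz ha

/-! ### The torus -/

theorem exists_tor (hp : PB (bau (S : Subgroup G)) L W W1 W0 q) (hq : 2 < q) :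
    ∃ g ∈ L, g ∈ normalizer ((bau (S : Subgroup G) : Subgroup G) : Set G) ∧
      ∃ z ∈ zj (S : Subgroup G), g * z ≠ z * g := by
  have h0 : 0 < Nat.card W0 := Nat.card_pos
  have hlt : 2 * Nat.card W0 < Nat.card W1 := by
    rw [hp.card1, mul_comm 2]
    exact Nat.mul_lt_mul_of_pos_left hq h0
  obtain ⟨z, hz, hz0⟩ : ∃ z ∈ W1, z ∉ W0 := by
    by_contra hcon
    push Not at hcon
    have := Subgroup.card_le_of_le (show W1 ≤ W0 from hcon)
    omega
  obtain ⟨y, hy, hy0, hzy⟩ : ∃ y ∈ W1, y ∉ W0 ∧ z⁻¹ * y ∉ W0 := by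
    by_contra hcon
    push Not at hcon
    have := card_le_two (A := W1) (C := W0) (c := z) hcon
    omega
  obtain ⟨g, hg, hgB, hgz⟩ := hp.tor z hz hz0 y hy hy0
  refine ⟨g, hg, hgB, z, W1_le hp hz, fun e => hzy ?_⟩
  have h1 : g * z * g⁻¹ = z := by rw [e]; group
  rw [h1] at hgz
  have h2 := inv_mem hgz
  have h3 : (z * y⁻¹)⁻¹ = z⁻¹ * y := by
    have h4 : z⁻¹ * y = y * z⁻¹ := hp.comm (inv_mem (hp.N1N hz)) (hp.N1N hy)
    rw [h4]; group
  rwa [h3] at h2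

/-- A permutation fixing a vector modulo complements fixes it. -/
theorem comp_eq (hm : 1 ≤ m) (h : EvenSet (2 ^ m + 1) (zl (S : Subgroup G) P) P ε)
    {x : Fin (2 ^ m + 1) → ZMod 2} {σ : Equiv.Perm (Fin (2 ^ m + 1))} (he : ε (x ∘ σ.symm) = ε x) :
    x ∘ σ.symm = x := by
  rcases h.eq_iff.1 he with h1 | h1
  · exact h1
  · exfalso
    have h2 : ∑ i, (x ∘ σ.symm) i = ∑ i, x i := Equiv.sum_comp σ.symm x
    rw [h1] at h2
    simp only [Pi.add_apply, Pi.one_apply, Finset.sum_add_distrib, Finset.sum_const, Finset.card_univ,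
      Fintype.card_fin, nsmul_eq_mul, mul_one] at h2
    rw [S5.Of.cast_odd hm, add_eq_left] at h2
    exact one_ne_zero h2

/-- An element normalising `B` permutes the pairs. -/
theorem norm_pair (h : Hyp S P ε) (h3 : 3 ≤ m) (hd : Dat S P ε X Y N t r) {g : G}
    (hg : g ∈ normalizer ((bau (S : Subgroup G) : Subgroup G) : Set G))
    {σ : Equiv.Perm (Fin (2 ^ m + 1))} (hσ : Acts ε g σ) (p : ι) :
    ∃ p', (σ (X p) = X p' ∧ σ (Y p) = Y p') ∨ (σ (X p) = Y p' ∧ σ (Y p) = X p') := by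
  refine pair_of_zj h hd (σ.injective.ne (hd.ne p)) ?_
  rw [← rr_conj hσ]
  have h1 := normalizer_le_of_cj (F := zj) zj_cj (bau (S : Subgroup G)) hg
  rw [ChoiceBase.zj_bau] at h1
  exact (mem_normalizer_iff.1 h1 _).1 (hd.bas.d_mem_Z p)

/-- Two pairs such that `(X p, X p')` centralises `C_{Z_J}(L)`. -/
theorem exists_pp (h : Hyp S P ε) (h3 : 3 ≤ m) (hd : Dat S P ε X Y N t r)
    (hp : PB (bau (S : Subgroup G)) L W W1 W0 q) (hq : 2 < q) :
    ∃ p p', p ≠ p' ∧ ∀ x : Fin (2 ^ m + 1) → ZMod 2, ε x ∈ HH S L → x (X p) = x (X p') := by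
  have hm : 1 ≤ m := by omega
  obtain ⟨g, hgL, hgB, z, hz, hgz⟩ := exists_tor hp hq
  have hM := Cfsg.Agent.Omega.NSix.Norm.evenSet' h.hm S h.ev h.SP h.fix0
  obtain ⟨σ, hσ⟩ := hM.perm g (bau_le h h3 hgB)
  have hpair := norm_pair h h3 hd hgB hσ
  -- some pair is moved
  have hmv : ∃ p p', p ≠ p' ∧ (σ (X p) = X p' ∨ σ (X p) = Y p') := by
    by_contra hcon
    push Not at hcon
    have hfix : ∀ p, (σ (X p) = X p ∧ σ (Y p) = Y p) ∨ (σ (X p) = Y p ∧ σ (Y p) = X p) := by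
      intro p
      obtain ⟨p', h1⟩ := hpair p
      have : p = p' := by
        by_contra hne
        rcases h1 with h1 | h1
        · exact (hcon p p' hne).1 h1.1
        · exact (hcon p p' hne).2 h1.1
      subst this
      exact h1
    apply hgz
    obtain ⟨x, rfl⟩ := h.ev.surj z (LemQ.zj_le h hz)
    have hxx : x ∘ σ = x := by
      funext y
      rw [Function.comp_apply]
      by_cases hy : y = 0
      · subst hy
        by_cases h0 : σ 0 = 0
        · rw [h0]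
        · exfalso
          obtain ⟨p, h1 | h1⟩ := hd.cov _ h0
          · rcases hfix p with h2 | h2
            · rw [← h2.1] at h1
              exact hd.X0 p (σ.injective h1)
            · rw [← h2.2] at h1
              exact hd.Y0 p (σ.injective h1)
          · rcases hfix p with h2 | h2
            · rw [← h2.2] at h1
              exact hd.Y0 p (σ.injective h1)
            · rw [← h2.1] at h1
              exact hd.X0 p (σ.injective h1)
      · have hc := zj_coord h hd hz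
        obtain ⟨p, h1 | h1⟩ := hd.cov y hy
        · rw [← h1]
          rcases hfix p with h2 | h2
          · rw [h2.1]
          · rw [h2.1, hc]
        · rw [← h1]
          rcases hfix p with h2 | h2
          · rw [h2.2]
          · rw [h2.2, hc]
    have h1 := hσ x
    have h2 : x ∘ σ.symm = x := by
      funext y
      have := congrFun hxx (σ.symm y)
      rw [Function.comp_apply, Equiv.apply_symm_apply] at this
      exact this.symm
    rw [h2] at h1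
    exact LemQ.comm_of_conj h1
  obtain ⟨p, p', hpp, h1⟩ := hmv
  refine ⟨p, p', hpp, fun x hx => ?_⟩
  have hx' := mem_HH.1 hx
  have h2 := hσ x
  have h4 : g * ε x * g⁻¹ = ε x := by rw [hx'.2 g hgL]; group
  rw [h4] at h2
  have h5 := comp_eq hm h.ev h2.symm
  have h6 : ∀ y, x (σ y) = x y := fun y => by
    have := congrFun h5 (σ y)
    rw [Function.comp_apply, Equiv.symm_apply_apply] at this
    exact this.symm
  rw [← h6 (X p)]
  rcases h1 with h1 | h1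
  · rw [h1]
  · rw [h1, zj_coord h hd hx'.1]

/-! ### Exact offenders -/

section big

variable (h : Hyp S P ε) (hp : PB (bau (S : Subgroup G)) L W W1 W0 q) {i j : Fin (2 ^ m + 1)}
  {A : Subgroup G} (hA : Ex P ε i j A) (hij : i ≠ j) (hrr : rr ε i j ∉ zj (S : Subgroup G)) {a : G}
  (ha : a ∈ A) (ha' : Acts ε a (Equiv.swap i j)) (ha0 : ∀ n ∈ W0, a * n = n * a)
  (hmv : ∃ n ∈ W1, a * n ≠ n * a) (hWQ : W ≤ o2 P)
  (hcW : ∀ u ∈ W, ∀ v ∈ W, u * (a * v * a⁻¹) = (a * v * a⁻¹) * u)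

include h hp hA hrr ha in
theorem fix_e {e : G} (he : e ∈ W1) (he' : a * e * a⁻¹ ∈ zj (S : Subgroup G)) : a * e = e * a := by
  rcases hA.comm_V h ha (W1_le_V h hp he) with h1 | h1
  · exact LemQ.comm_of_conj h1
  · exfalso
    apply hrr
    have h2 := mul_mem (inv_mem (W1_le hp he)) he'
    rw [h1, inv_mul_cancel_left] at h2
    exact h2

include hp ha0 in
/-- If the values of a homomorphism of rank `q` avoiding `W0` are fixed by `a`, then `W1` is. -/
theorem fix_W1 {A' : Type*} [Group A'] [Finite A'] (φ : A' →* W1)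
    (hker : Nat.card φ.ker * q ≤ Nat.card A') (h0 : ∀ b, (φ b : G) ∈ W0 → φ b = 1)
    (hfix : ∀ b, a * (φ b : G) = φ b * a) : ∀ n ∈ W1, a * n = n * a := by
  set E : Subgroup G := φ.range.map W1.subtype with hE
  have hEW : E ≤ W1 := by
    rintro _ ⟨x, -, rfl⟩
    exact x.2
  have hcE : q ≤ Nat.card E := by
    have h1 : Nat.card E = Nat.card φ.range := Subgroup.card_map_of_injective W1.subtype_injective
    have h2 : Nat.card A' = Nat.card φ.ker * Nat.card φ.range := by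
      rw [← φ.ker.card_mul_index, Subgroup.index_ker]
    rw [h1]
    rw [h2] at hker
    exact Nat.le_of_mul_le_mul_left hker Nat.card_pos
  have hinf : E ⊓ W0 = ⊥ := by
    rw [eq_bot_iff]
    rintro _ ⟨⟨x, ⟨b, rfl⟩, rfl⟩, hx0⟩
    have h1 := h0 b hx0
    change ((φ b : W1) : G) = 1
    rw [h1]; rfl
  have hcm : ∀ x ∈ E, ∀ y ∈ W0, x * y = y * x := fun x hx y hy =>
    hp.comm (hp.N1N (hEW hx)) (hp.N1N (hp.N01 hy))
  have h1 := card_sup_comm hcm
  rw [hinf, Subgroup.card_bot, mul_one] at h1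
  have h2 : E ⊔ W0 = W1 := by
    refine Subgroup.eq_of_le_of_card_ge (sup_le hEW hp.N01) ?_
    rw [h1, hp.card1, mul_comm]
    exact Nat.mul_le_mul_right _ hcE
  have h3 : E ⊔ W0 ≤ centralizer ({a} : Set G) := by
    refine sup_le ?_ fun n hn => mem_centralizer_singleton_iff.2 (ha0 n hn).symm
    rintro _ ⟨x, ⟨b, rfl⟩, rfl⟩
    exact mem_centralizer_singleton_iff.2 (hfix b).symm
  rw [h2] at h3
  exact fun n hn => (mem_centralizer_singleton_iff.1 (h3 hn)).symm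

include h hp hA hij hrr ha ha' ha0 hmv hWQ hcW

/-- `W^a ≤ V W`. -/
theorem conj_mem {u : G} (hu : u ∈ W) :
    ∃ v ∈ zl (S : Subgroup G) P, ∃ w ∈ W, a * u * a⁻¹ = v * w := by
  classical
  obtain ⟨V, hV⟩ : ∃ V, V = zl (S : Subgroup G) P := ⟨_, rfl⟩
  have haa := hA.sq ha
  have hai : a⁻¹ = a := inv_eq_of_mul_eq_one_left haa
  have haP := hA.AP ha
  have hVQ : V ≤ o2 P := hV ▸ h.VQ
  have hVc : ∀ {s v : G}, s ∈ o2 P → v ∈ V → s * v = v * s := fun hs hv => h.VcQ hs (hV ▸ hv)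
  have hVaV : ∀ v ∈ V, a * v * a⁻¹ ∈ V := fun v hv => hV ▸ h.Vn haP (hV ▸ hv)
  have hA0Q : A ⊓ centralizer (V : Set G) ≤ o2 P := hV ▸ (hA.A0_le h hij).1.trans (ChoiceBase.jj_le _)
  set A0 := A ⊓ centralizer (V : Set G) with hA0
  have hWa : cj a W ≤ o2 P := by
    rintro _ ⟨w, hw, rfl⟩
    exact h.Qn haP (hWQ hw)
  have hVW : ∀ v ∈ V, ∀ w ∈ W, v * w = w * v := fun v hv w hw => (hVc (hWQ hw) hv).symm
  set M₁ := V ⊔ W with hM₁
  have hM₁e : IsElementaryAbelian 2 M₁ := sup_elem (hV ▸ V_elem h) hp.el hVW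
  have hM₁a : ∀ x ∈ M₁, ∀ y ∈ cj a W, x * y = y * x := by
    have h1 : M₁ ≤ centralizer (cj a W : Set G) := by
      refine sup_le (fun v hv => mem_centralizer_iff.2 fun y hy => hVc (hWa hy) hv) fun w hw =>
        mem_centralizer_iff.2 ?_
      rintro _ ⟨v, hv, rfl⟩
      exact (hcW w hw v hv).symm
    exact fun x hx y hy => (mem_centralizer_iff.1 (h1 hx) y hy).symm
  set X := M₁ ⊔ cj a W with hX
  have hXe : IsElementaryAbelian 2 X := sup_elem hM₁e (isElementaryAbelian_cj a hp.el) hM₁a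
  have hVX : V ≤ X := le_sup_left.trans le_sup_left
  have haW : a * u * a⁻¹ ∈ cj a W := ⟨u, hu, rfl⟩
  -- the conclusion from `a u a⁻¹ ∈ M₁`
  have hconcl : a * u * a⁻¹ ∈ M₁ → ∃ v ∈ zl (S : Subgroup G) P, ∃ w ∈ W, a * u * a⁻¹ = v * w := by
    intro h1
    obtain ⟨v, hv, w, hw, e⟩ := mem_sup_comm hVW h1
    exact ⟨v, hV ▸ hv, w, hw, e⟩
  by_cases hcase : ∀ b ∈ A0, ∀ w ∈ W, b * w = w * b
  · -- `A` is a transvection on `X`
    apply hconcl
    have hAX : ∀ b ∈ A0, ∀ x ∈ X, b * x = x * b := by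
      intro b hb x hx
      have h1 : X ≤ centralizer ({b} : Set G) := by
        refine sup_le (sup_le (fun v hv => mem_centralizer_singleton_iff.2 ?_)
          fun w hw => mem_centralizer_singleton_iff.2 (hcase b hb w hw).symm) ?_
        · exact (hVc (hA0Q hb) hv).symm
        · rintro _ ⟨w, hw, rfl⟩
          rw [mem_centralizer_singleton_iff]
          have h2 : a * b = b * a := elem_comm hA.elem a ha b hb.1
          have h3 := hcase b hb w hw
          change a * w * a⁻¹ * b = b * (a * w * a⁻¹)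
          have h4 : a⁻¹ * b = b * a⁻¹ := by rw [hai]; exact h2
          calc a * w * a⁻¹ * b = a * w * (a⁻¹ * b) := by group
            _ = a * (w * b) * a⁻¹ := by rw [h4]; group
            _ = (a * b) * w * a⁻¹ := by rw [← h3]; group
            _ = b * (a * w * a⁻¹) := by rw [h2]; group
      exact (mem_centralizer_singleton_iff.1 (h1 hx)).symm
    have huX : u ∈ X := mem_sup_left (mem_sup_right hu)
    rcases hA.transv h hij hXe (hV ▸ hVX) (by rw [← hV]; exact hAX) ha huX with h1 | h1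
    · rw [h1]; exact mem_sup_right hu
    · rw [h1]
      exact mul_mem (mem_sup_right hu) (mem_sup_left (hV ▸ rr_mem h.ev i j))
  push Not at hcase
  obtain ⟨b₀, hb₀, w₀, hw₀, hne⟩ := hcase
  have hA0B : A0 ≤ bau (S : Subgroup G) := hA0Q.trans (QB h)
  have hb₀B := hA0B hb₀
  have hb₀c : ∀ w ∈ W, b₀ * w = w * b₀ → w ∈ W1 := by
    intro w hw hc
    refine hp.cent b₀ hb₀B ⟨w₀, hw₀, hne⟩ w hw ?_
    have e : b₀ * w * b₀⁻¹ * w⁻¹ = 1 := by rw [hc]; group
    rw [e]; exact one_mem _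
  have hW1V : W1 ≤ V := hV ▸ W1_le_V h hp
  have hVW1 : V ⊓ W = W1 := by
    apply le_antisymm
    · rintro v ⟨hv, hw⟩
      exact hb₀c v hw (hVc (hA0Q hb₀) hv)
    · exact le_inf hW1V hp.N1N
  have hcM₁ : Nat.card M₁ = Nat.card V * q := by
    have h1 := card_sup_comm hVW
    rw [hVW1, hp.card, ← mul_assoc] at h1
    have h2 : Nat.card M₁ * Nat.card W1 = (Nat.card V * q) * Nat.card W1 := by
      rw [hM₁, h1]; ring
    exact Nat.eq_of_mul_eq_mul_right Nat.card_pos h2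
  -- centralisers in `A`
  set K₀ := A0 ⊓ centralizer (W : Set G) with hK₀
  have hcA : Nat.card A = 2 * Nat.card A0 := by
    have := hA.card_A0 h hij
    rwa [← hV] at this
  have hK₀X : K₀ ≤ A ⊓ centralizer (X : Set G) := by
    rintro b ⟨hb, hbW⟩
    refine ⟨hb.1, ?_⟩
    have hbW' := mem_centralizer_iff.1 hbW
    have h1 : X ≤ centralizer ({b} : Set G) := by
      refine sup_le (sup_le (fun v hv => mem_centralizer_singleton_iff.2 ?_)
        fun w hw => mem_centralizer_singleton_iff.2 (hbW' w hw)) ?_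
      · exact (hVc (hA0Q hb) hv).symm
      · rintro _ ⟨w, hw, rfl⟩
        rw [mem_centralizer_singleton_iff]
        have h2 : a * b = b * a := elem_comm hA.elem a ha b hb.1
        have h3 := hbW' w hw
        change a * w * a⁻¹ * b = b * (a * w * a⁻¹)
        have h4 : a⁻¹ * b = b * a⁻¹ := by rw [hai]; exact h2
        calc a * w * a⁻¹ * b = a * w * (a⁻¹ * b) := by group
          _ = a * (w * b) * a⁻¹ := by rw [h4]; group
          _ = (a * b) * w * a⁻¹ := by rw [h3]; group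
          _ = b * (a * w * a⁻¹) := by rw [h2]; group
    exact mem_centralizer_iff.2 fun x hx => mem_centralizer_singleton_iff.1 (h1 hx)
  have hAq : Nat.card A0 ≤ q * Nat.card K₀ := by
    -- `|A0 : A0 ∩ C_B(W)| ≤ |B : C_B(W)|`
    set C := bau (S : Subgroup G) ⊓ centralizer (W : Set G) with hC
    have h1 : C.relIndex (bau (S : Subgroup G)) = q := by
      have h3 := CosetAct.Hyp.card_mul_relIndex' (H := C) (K := bau (S : Subgroup G)) inf_le_left
      rw [hp.cardB] at h3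
      exact Nat.eq_of_mul_eq_mul_left Nat.card_pos h3
    have h2 : C ⊓ A0 = K₀ := by
      apply le_antisymm
      · exact fun x hx => ⟨hx.2, hx.1.2⟩
      · exact fun x hx => ⟨⟨hA0B hx.1, hx.2⟩, hx.1⟩
    have h3 := CosetAct.Hyp.card_mul_relIndex' (H := C ⊓ A0) (K := A0) inf_le_right
    rw [inf_relIndex_right, h2] at h3
    have h4 : C.relIndex A0 ≤ C.relIndex (bau (S : Subgroup G)) := by
      refine Subgroup.relIndex_le_of_le_right hA0B ?_
      rw [h1]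
      have := hp.one
      omega
    rw [h1] at h4
    rw [← h3, mul_comm]
    exact Nat.mul_le_mul_right _ h4
  set CX := X ⊓ centralizer (A0 : Set G) with hCX
  have hC2 : 2 * Nat.card ↥(X ⊓ centralizer (A : Set G)) ≤ Nat.card CX := by
    refine two_mul_card_le (inf_le_inf_left _ (centralizer_le (by exact_mod_cast inf_le_left)))
      fun hle => ?_
    have h1 : rr ε i j * ε (Pi.single i 1) ∈ V := hV ▸ mul_mem (rr_mem h.ev i j) (h.ev.mem _)
    have hvV : ε (Pi.single i 1) ∈ V := hV ▸ h.ev.mem _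
    have h2 : ε (Pi.single i 1) ∈ CX := ⟨hVX hvV, mem_centralizer_iff.2 fun b hb => hVc (hA0Q hb) hvV⟩
    have h4 := mem_centralizer_iff.1 (hle h2).2 a ha
    have h5 := (swap_comm_iff h.ev h.three hij ha' (Pi.single i 1)).1 h4
    rw [Pi.single_eq_same, Pi.single_eq_of_ne hij.symm] at h5
    exact one_ne_zero h5
  have hcount := count hA.elem hXe hA.card
  have hI : Nat.card X * Nat.card K₀ ≤ Nat.card A0 * Nat.card CX := by
    calc Nat.card X * Nat.card K₀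
        ≤ Nat.card X * Nat.card ↥(A ⊓ centralizer (X : Set G)) :=
          Nat.mul_le_mul_left _ (Subgroup.card_le_of_le hK₀X)
      _ ≤ Nat.card A * Nat.card ↥(X ⊓ centralizer (A : Set G)) := hcount
      _ = Nat.card A0 * (2 * Nat.card ↥(X ⊓ centralizer (A : Set G))) := by rw [hcA]; ring
      _ ≤ Nat.card A0 * Nat.card CX := Nat.mul_le_mul_left _ hC2
  have hCXM : CX ⊓ M₁ ≤ V := by
    rintro x ⟨hx, hxM⟩
    obtain ⟨v, hv, w, hw, rfl⟩ := mem_sup_comm hVW hxM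
    have h1 := mem_centralizer_iff.1 hx.2 b₀ hb₀
    have h2 : b₀ * v = v * b₀ := hVc (hA0Q hb₀) hv
    have h3 : b₀ * w = w * b₀ := by
      have h4 : v * (b₀ * w) = v * (w * b₀) := by
        calc v * (b₀ * w) = (b₀ * v) * w := by rw [h2]; group
          _ = b₀ * (v * w) := by group
          _ = v * w * b₀ := h1
          _ = v * (w * b₀) := by group
      exact mul_left_cancel h4
    exact mul_mem hv (hW1V (hb₀c w hw h3))
  have hII : Nat.card CX * q ≤ Nat.card X := by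
    have hcm : ∀ x ∈ CX, ∀ y ∈ M₁, x * y = y * x := fun x hx y hy =>
      elem_comm hXe x hx.1 y (mem_sup_left hy)
    have h1 := card_sup_comm hcm
    have h2 : Nat.card ↥(CX ⊔ M₁) ≤ Nat.card X := Subgroup.card_le_of_le (sup_le inf_le_left le_sup_left)
    have h3 : Nat.card ↥(CX ⊓ M₁) ≤ Nat.card V := Subgroup.card_le_of_le hCXM
    rw [hcM₁] at h1
    have h4 : (Nat.card CX * q) * Nat.card V ≤ Nat.card X * Nat.card V := by
      calc (Nat.card CX * q) * Nat.card V = Nat.card CX * (Nat.card V * q) := by ring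
        _ = Nat.card ↥(CX ⊔ M₁) * Nat.card ↥(CX ⊓ M₁) := h1.symm
        _ ≤ Nat.card X * Nat.card V := Nat.mul_le_mul h2 h3
    exact Nat.le_of_mul_le_mul_right h4 Nat.card_pos
  have hIII : Nat.card K₀ * q ≤ Nat.card A0 := by
    have h1 : (Nat.card K₀ * q) * Nat.card X ≤ Nat.card A0 * Nat.card X := by
      calc (Nat.card K₀ * q) * Nat.card X = (Nat.card X * Nat.card K₀) * q := by ring
        _ ≤ (Nat.card A0 * Nat.card CX) * q := Nat.mul_le_mul_right _ hI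
        _ = Nat.card A0 * (Nat.card CX * q) := by ring
        _ ≤ Nat.card A0 * Nat.card X := Nat.mul_le_mul_left _ hII
    exact Nat.le_of_mul_le_mul_right h1 Nat.card_pos
  -- `C_X(A0) ≤ V`
  have hCXV : CX ≤ V := by
    rintro x ⟨hx, hxc⟩
    obtain ⟨y, hy, u', hu', rfl⟩ := mem_sup_comm hM₁a hx
    obtain ⟨v, hv, w, hw, rfl⟩ := mem_sup_comm hVW hy
    obtain ⟨s, hs, rfl⟩ := hu'
    change v * w * (a * s * a⁻¹) ∈ V
    replace hxc : ∀ b ∈ A0, b * (v * w * (a * s * a⁻¹)) = v * w * (a * s * a⁻¹) * b :=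
      mem_centralizer_iff.1 hxc
    have hab : ∀ b ∈ A0, a * b * a⁻¹ = b := fun b hb => by
      rw [elem_comm hA.elem a ha b hb.1]; group
    -- the commutators
    have hαβ : ∀ b ∈ A0, (b * w * b⁻¹ * w⁻¹) * (a * (b * s * b⁻¹ * s⁻¹) * a⁻¹) = 1 := by
      intro b hb
      have h1 : b * v = v * b := hVc (hA0Q hb) hv
      have h2 := hxc b hb
      have e1 : a * (b * s * b⁻¹) * a⁻¹ = b * (a * s * a⁻¹) * b⁻¹ := by
        calc a * (b * s * b⁻¹) * a⁻¹ = (a * b * a⁻¹) * (a * s * a⁻¹) * (a * b * a⁻¹)⁻¹ := by group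
          _ = _ := by rw [hab b hb]
      have h4 : (b * w * b⁻¹) * (a * (b * s * b⁻¹) * a⁻¹) = w * (a * s * a⁻¹) := by
        rw [e1]
        have h5 : v * ((b * w * b⁻¹) * (b * (a * s * a⁻¹) * b⁻¹)) = v * (w * (a * s * a⁻¹)) := by
          calc v * ((b * w * b⁻¹) * (b * (a * s * a⁻¹) * b⁻¹))
              = (v * b) * w * (a * s * a⁻¹) * b⁻¹ := by group
            _ = b * (v * w * (a * s * a⁻¹)) * b⁻¹ := by rw [← h1]; group
            _ = v * (w * (a * s * a⁻¹)) := by rw [h2]; group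
        exact mul_left_cancel h5
      have hbw : b * w * b⁻¹ ∈ W := hp.Nn b (hp.BL (hA0B hb)) w hw
      have h6 := hcW w hw s hs
      calc (b * w * b⁻¹ * w⁻¹) * (a * (b * s * b⁻¹ * s⁻¹) * a⁻¹)
          = b * w * b⁻¹ * (w⁻¹ * (a * (b * s * b⁻¹) * a⁻¹)) * (a * s * a⁻¹)⁻¹ := by group
        _ = b * w * b⁻¹ * ((a * (b * s * b⁻¹) * a⁻¹) * w⁻¹) * (a * s * a⁻¹)⁻¹ := by
          rw [hcW _ (inv_mem hw) _ (hp.Nn b (hp.BL (hA0B hb)) s hs)]
        _ = ((b * w * b⁻¹) * (a * (b * s * b⁻¹) * a⁻¹)) * w⁻¹ * (a * s * a⁻¹)⁻¹ := by group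
        _ = (w * (a * s * a⁻¹)) * w⁻¹ * (a * s * a⁻¹)⁻¹ := by rw [h4]
        _ = 1 := by rw [h6]; group
    by_cases hw1 : w ∈ W1
    · -- then `s ∈ W1`
      have h1 := hαβ b₀ hb₀
      have h2 : b₀ * w * b₀⁻¹ * w⁻¹ = 1 := by rw [hp.N1c b₀ hb₀B w hw1]; group
      rw [h2, one_mul] at h1
      have h4 : b₀ * s * b₀⁻¹ * s⁻¹ = 1 := by
        calc b₀ * s * b₀⁻¹ * s⁻¹ = a⁻¹ * (a * (b₀ * s * b₀⁻¹ * s⁻¹) * a⁻¹) * a := by group
          _ = 1 := by rw [h1]; group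
      have h5 : s ∈ W1 := by
        refine hp.cent b₀ hb₀B ⟨w₀, hw₀, hne⟩ s hs ?_
        rw [h4]; exact one_mem _
      exact mul_mem (mul_mem hv (hW1V hw1)) (hVaV s (hW1V h5))
    · exfalso
      -- all `[b, w]` are fixed by `a`
      have hαW : ∀ b ∈ A0, b * w * b⁻¹ * w⁻¹ ∈ W1 := fun b hb => hp.quad b (hA0B hb) w hw
      have hfix : ∀ b ∈ A0, a * (b * w * b⁻¹ * w⁻¹) = (b * w * b⁻¹ * w⁻¹) * a := by
        intro b hb
        refine fix_e h hp hA hrr ha (hαW b hb) ?_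
        have h1 := hαβ b hb
        have h2 : b * w * b⁻¹ * w⁻¹ = (a * (b * s * b⁻¹ * s⁻¹) * a⁻¹)⁻¹ :=
          eq_inv_of_mul_eq_one_left h1
        have h4 : a * (b * w * b⁻¹ * w⁻¹) * a⁻¹ = (b * s * b⁻¹ * s⁻¹)⁻¹ := by
          rw [h2]
          calc a * (a * (b * s * b⁻¹ * s⁻¹) * a⁻¹)⁻¹ * a⁻¹
              = (a * a) * (b * s * b⁻¹ * s⁻¹)⁻¹ * (a * a)⁻¹ := by group
            _ = _ := by rw [haa]; group
        rw [h4]
        exact W1_le hp (inv_mem (hp.quad b (hA0B hb) s hs))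
      let φ : ↥A0 →* ↥W1 := MonoidHom.mk' (fun b => ⟨(b : G) * w * (b : G)⁻¹ * w⁻¹, hαW b b.2⟩) (by
        intro b b'
        apply Subtype.ext
        show (b : G) * b' * w * ((b : G) * b')⁻¹ * w⁻¹ =
          (b : G) * w * (b : G)⁻¹ * w⁻¹ * ((b' : G) * w * (b' : G)⁻¹ * w⁻¹)
        have h1 := hp.N1c b (hA0B b.2) _ (hαW b' b'.2)
        have h2 := hp.comm (hp.N1N (hαW b b.2)) (hp.N1N (hαW b' b'.2))
        calc (b : G) * b' * w * ((b : G) * b')⁻¹ * w⁻¹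
            = ((b : G) * ((b' : G) * w * (b' : G)⁻¹ * w⁻¹)) * w * (b : G)⁻¹ * w⁻¹ := by group
          _ = ((b' : G) * w * (b' : G)⁻¹ * w⁻¹) * ((b : G) * w * (b : G)⁻¹ * w⁻¹) := by rw [h1]; group
          _ = _ := h2.symm)
      have hφ : ∀ b, (φ b : G) = (b : G) * w * (b : G)⁻¹ * w⁻¹ := fun b => rfl
      have hcen : ∀ b : ↥A0, (φ b : G) ∈ W0 → ∀ v ∈ W, (b : G) * v = v * b := by
        intro b hb
        by_contra hcon
        push Not at hcon
        exact hw1 (hp.cent b (hA0B b.2) hcon w hw hb)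
      obtain ⟨n, hn, hn'⟩ := hmv
      refine hn' (fix_W1 hp ha0 φ ?_ (fun b hb => ?_) (fun b => hfix b b.2) n hn)
      · refine le_trans (Nat.mul_le_mul_right _ ?_) hIII
        refine Nat.card_le_card_of_injective (fun b : φ.ker => (⟨(b : ↥A0), ⟨(b : ↥A0).2,
          mem_centralizer_iff.2 fun v hv => (hcen b ?_ v hv).symm⟩⟩ : ↥K₀)) ?_
        · have h1 : φ (b : ↥A0) = 1 := b.2
          rw [h1]; exact one_mem _
        · intro b b' hbb
          exact Subtype.ext (Subtype.ext (congrArg (fun x : ↥K₀ => (x : G)) hbb))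
      · have h1 := hcen b hb w hw
        apply Subtype.ext
        rw [hφ, h1]
        show w * (b : G) * (b : G)⁻¹ * w⁻¹ = 1
        group
  -- so `X = M₁`
  have hXM : X = M₁ := by
    refine (Subgroup.eq_of_le_of_card_ge le_sup_left ?_).symm
    rw [hcM₁]
    have h1 : Nat.card CX ≤ Nat.card V := Subgroup.card_le_of_le hCXV
    have h2 : Nat.card X * Nat.card K₀ ≤ (Nat.card V * q) * Nat.card K₀ := by
      calc Nat.card X * Nat.card K₀ ≤ Nat.card A0 * Nat.card CX := hI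
        _ ≤ (q * Nat.card K₀) * Nat.card V := Nat.mul_le_mul hAq h1
        _ = _ := by ring
    exact Nat.le_of_mul_le_mul_right h2 Nat.card_pos
  apply hconcl
  rw [← hXM]
  exact mem_sup_right haW

/-- `W ≤ V`. -/
theorem W_le_V_of : W ≤ zl (S : Subgroup G) P := by
  have haP := hA.AP ha
  by_contra hnot
  have hex : ∃ s ∈ o2 P, ∃ w ∈ W, s * w ≠ w * s := by
    by_contra hcon
    push Not at hcon
    apply hnot
    intro w hw
    refine oz h (hWQ hw) ?_ fun s hs => hcon s hs w hw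
    have := elem_sq hp.el w hw
    rwa [pow_two] at this
  obtain ⟨s, hs, w₀, hw₀, hne⟩ := hex
  have hsB := QB h hs
  have hψW : ∀ w ∈ W, s * w * s⁻¹ * w⁻¹ ∈ W1 := fun w hw => hp.quad s hsB w hw
  have hWc : ∀ {v w : G}, v ∈ W → w ∈ W → v * w = w * v := fun hv hw => hp.comm hv hw
  let ψ : ↥W →* ↥W1 := MonoidHom.mk' (fun w => ⟨s * (w : G) * s⁻¹ * (w : G)⁻¹, hψW w w.2⟩) (by
    intro w w'
    apply Subtype.ext
    show s * ((w : G) * w') * s⁻¹ * ((w : G) * w')⁻¹ =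
      s * (w : G) * s⁻¹ * (w : G)⁻¹ * (s * (w' : G) * s⁻¹ * (w' : G)⁻¹)
    have h1 := hWc (inv_mem w.2) (hp.N1N (hψW w' w'.2))
    calc s * ((w : G) * w') * s⁻¹ * ((w : G) * w')⁻¹
        = (s * (w : G) * s⁻¹) * ((s * (w' : G) * s⁻¹ * (w' : G)⁻¹) * (w : G)⁻¹) := by group
      _ = _ := by rw [← h1]; group)
  have hker : ∀ w : ↥W, (ψ w : G) ∈ W0 → (w : G) ∈ W1 := fun w hw =>
    hp.cent s hsB ⟨w₀, hw₀, hne⟩ w w.2 hw
  obtain ⟨n, hn, hn'⟩ := hmv
  refine hn' (fix_W1 hp ha0 ψ ?_ (fun w hw => ?_) (fun w => ?_) n hn)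
  · rw [hp.card]
    refine Nat.mul_le_mul_right _ ?_
    refine Nat.card_le_card_of_injective (fun w : ψ.ker => (⟨((w : ↥W) : G), hker w ?_⟩ : ↥W1)) ?_
    · have h1 : ψ (w : ↥W) = 1 := w.2
      rw [h1]; exact one_mem _
    · intro w w' hww
      exact Subtype.ext (Subtype.ext (congrArg (fun x : ↥W1 => (x : G)) hww))
  · have h1 := hker w hw
    apply Subtype.ext
    show s * (w : G) * s⁻¹ * (w : G)⁻¹ = 1
    rw [hp.N1c s hsB w h1]; group
  · refine fix_e h hp hA hrr ha (hψW w w.2) ?_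
    obtain ⟨v, hv, w', hw', e⟩ := conj_mem h hp hA hij hrr ha ha' ha0 ⟨n, hn, hn'⟩ hWQ hcW w.2
    have hs' : a * s * a⁻¹ ∈ o2 P := h.Qn haP hs
    have h1 := h.VcQ hs' hv
    show a * (s * (w : G) * s⁻¹ * (w : G)⁻¹) * a⁻¹ ∈ _
    have e2 : a * (s * (w : G) * s⁻¹ * (w : G)⁻¹) * a⁻¹ =
        (a * s * a⁻¹) * w' * (a * s * a⁻¹)⁻¹ * w'⁻¹ := by
      have h2 : v * ((a * s * a⁻¹) * w' * (a * s * a⁻¹)⁻¹ * w'⁻¹) =
          ((a * s * a⁻¹) * w' * (a * s * a⁻¹)⁻¹ * w'⁻¹) * v :=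
        h.ev.comm_mem hv (W1_le_V h hp (hp.quad _ (QB h hs') w' hw'))
      calc a * (s * (w : G) * s⁻¹ * (w : G)⁻¹) * a⁻¹
          = (a * s * a⁻¹) * (a * (w : G) * a⁻¹) * (a * s * a⁻¹)⁻¹ * (a * (w : G) * a⁻¹)⁻¹ := by group
        _ = ((a * s * a⁻¹) * v) * w' * (a * s * a⁻¹)⁻¹ * (v * w')⁻¹ := by rw [e]; group
        _ = (v * ((a * s * a⁻¹) * w' * (a * s * a⁻¹)⁻¹ * w'⁻¹)) * v⁻¹ := by rw [h1]; group
        _ = _ := by rw [h2, mul_inv_cancel_right]
    rw [e2]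
    exact W1_le hp (hp.quad _ (QB h hs') w' hw')

end big

/-- **Step 2, `q > 2`.** -/
theorem W_le_V_big (h : Hyp S P ε) (h3 : 3 ≤ m) (hd : Dat S P ε X Y N t r)
    (hp : PB (bau (S : Subgroup G)) L W W1 W0 q) (hq : 2 < q) (hWQ : W ≤ o2 P)
    {i₀ : ι} (hc : ∀ l ∈ L, l * rr ε (X i₀) (Y i₀) = rr ε (X i₀) (Y i₀) * l) :
    W ≤ zl (S : Subgroup G) P := by
  obtain ⟨p, p', hpp, hfx⟩ := exists_pp h h3 hd hp hq
  have hXX := (hd.disj p p' hpp).1
  obtain ⟨A, hA⟩ := exists_ex h hXX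
  obtain ⟨a, ha, ha'⟩ := hA.ex
  -- `a` commutes with `C_{Z_J}(L)`
  have haH : ∀ z ∈ HH S L, a * z = z * a := by
    intro z hz
    obtain ⟨x, rfl⟩ := h.ev.surj z (LemQ.zj_le h (mem_HH.1 hz).1)
    exact (acts_swap h.ev ha' x).1 (hfx x hz)
  have ha0 : ∀ n ∈ W0, a * n = n * a := fun n hn =>
    haH n (mem_HH.2 ⟨W1_le hp (hp.N01 hn), fun l hl => hp.N0c l hl n hn⟩)
  have hdH : rr ε (X i₀) (Y i₀) ∈ HH S L := mem_HH.2 ⟨hd.bas.d_mem_Z i₀, hc⟩
  have had := haH _ hdH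
  have hmv : ∃ n ∈ W1, a * n ≠ n * a := by
    by_contra hcon
    push Not at hcon
    have hz := hd.bas.d_mem_Z p
    have hz' := hz
    rw [← ChoiceBase.zc_bau] at hz'
    obtain ⟨c, hcz, hcL, n, hn, e⟩ := hp.Z_split hz'
    rw [ChoiceBase.zc_bau] at hcz
    have h1 : a * rr ε (X p) (Y p) = rr ε (X p) (Y p) * a := by
      rw [e]
      have h2 := haH c (mem_HH.2 ⟨hcz, hcL⟩)
      have h4 := hcon n hn
      calc a * (c * n) = (a * c) * n := by group
        _ = c * (a * n) := by rw [h2]; group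
        _ = c * n * a := by rw [h4]; group
    rw [rr_eq h.ev] at h1
    have h2 := (swap_comm_iff h.ev h.three hXX ha' _).1 h1
    have h4 := hd.disj p p' hpp
    rw [Pi.add_apply, Pi.add_apply, Pi.single_eq_same, Pi.single_eq_of_ne (hd.ne p),
      Pi.single_eq_of_ne h4.1.symm, Pi.single_eq_of_ne h4.2.2.1.symm, add_zero, add_zero] at h2
    exact one_ne_zero h2
  -- `W` and `W^a` commute
  have hcW : ∀ u ∈ W, ∀ v ∈ W, u * (a * v * a⁻¹) = (a * v * a⁻¹) * u := by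
    intro u hu v hv
    obtain ⟨u1, hu1, n, hn, rfl⟩ := hp.exists_V hu
    obtain ⟨v1, hv1, n', hn', rfl⟩ := hp.exists_V hv
    have haP := hA.AP ha
    have h1 := comm_pb h hp hp (x := 1) (y := a) (rr_ne_one h.ev h.three (hd.ne i₀)) (rr_sq h.ev _ _)
      (fun l hl => by
        have := hc l hl
        rw [inv_one, mul_one, one_mul]; exact this)
      (fun l hl => by
        have h2 := hc l hl
        set d := rr ε (X i₀) (Y i₀) with hdd
        have h4 : a⁻¹ * d = d * a⁻¹ := by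
          calc a⁻¹ * d = a⁻¹ * (d * a) * a⁻¹ := by group
            _ = a⁻¹ * (a * d) * a⁻¹ := by rw [had]
            _ = d * a⁻¹ := by group
        calc a * l * a⁻¹ * d = a * l * (a⁻¹ * d) := by group
          _ = a * (l * d) * a⁻¹ := by rw [h4]; group
          _ = (a * d) * l * a⁻¹ := by rw [h2]; group
          _ = d * (a * l * a⁻¹) := by rw [had]; group) hu1 hv1
    simp only [inv_one, mul_one, one_mul] at h1
    have hnV := W0_le_V h hp hn
    have hn'V : a * n' * a⁻¹ ∈ zl (S : Subgroup G) P := h.Vn haP (W0_le_V h hp hn')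
    have hVW : (⁅W, L⁆ : Subgroup G) ≤ W := hp.VN
    have h2 : ∀ x ∈ W, n * (a * x * a⁻¹) = (a * x * a⁻¹) * n := fun x hx =>
      (h.VcQ (h.Qn haP (hWQ hx)) hnV).symm
    have h4 : ∀ x ∈ W, x * (a * n' * a⁻¹) = (a * n' * a⁻¹) * x := fun x hx => h.VcQ (hWQ hx) hn'V
    have e1 : a * (v1 * n') * a⁻¹ = (a * v1 * a⁻¹) * (a * n' * a⁻¹) := by group
    have c1 : Commute u1 (a * v1 * a⁻¹) := h1
    have c2 : Commute u1 (a * n' * a⁻¹) := h4 u1 (hVW hu1)
    have c3 : Commute n (a * v1 * a⁻¹) := h2 v1 (hVW hv1)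
    have c4 : Commute n (a * n' * a⁻¹) := h.ev.comm_mem hnV hn'V
    rw [e1]
    exact ((c1.mul_right c2).mul_left (c3.mul_right c4)).eq
  exact W_le_V_of h hp hA hXX (rr_not_zj h hd hpp) ha ha' ha0 hmv hWQ hcW

/-- **FF-blocks over `B` which commute with some `d i₀` lie in `N_G(V)`.** -/
theorem L_le (h : Hyp S P ε) (h3 : 3 ≤ m) (hd : Dat S P ε X Y N t r)
    (hp : PB (bau (S : Subgroup G)) L W W1 W0 q)
    {i₀ : ι} (hc : ∀ l ∈ L, l * rr ε (X i₀) (Y i₀) = rr ε (X i₀) (Y i₀) * l) :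
    L ≤ normalizer (zl (S : Subgroup G) P : Set G) := by
  have hWQ := W_le_Q h hd hp hc
  have hWV : W ≤ zl (S : Subgroup G) P := by
    by_cases hq : 2 < q
    · exact W_le_V_big h h3 hd hp hq hWQ hc
    · have h1 : q = 2 := by
        have := hp.one
        omega
      subst h1
      exact W_le_V_two h hp hWQ
  have hq := q_eq_two h hd hp hWV
  subst hq
  exact L_le_of_V h h3 hd hp hWV

end Cfsg.Agent.Omega.NSix.CaseJ.PBlock

end

section


/-!
# OMEGA N6, case `J(S) ≰ O₂(P)`: (8) of #16037 / (f8) of #16600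

* `exists_pb` : a minimal parabolic `H` over `T ≥ bau S` with `J(T) ≰ O₂(H)`, `[Ω₁Z(T), H] ≠ 1` is generated by `T`
  and an FF-block over `bau S`;
* `cent` : a minimal parabolic of `C_G(r_ij)` over `C_S(r_ij)` which is not in `N_G(V)` centralises `C_V(C_S(r_ij))`.
-/

set_option autoImplicit false
set_option linter.unusedSectionVars false

namespace Cfsg.Agent.Omega.NSix.CaseJ.Eight

open Subgroup Cfsg Cfsg.Agent.ZN.ChoiceBase Cfsg.Agent.ZN.ChoiceSit
open Cfsg.Agent.ZN (jj zj bau zc zl o2)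
open Cfsg.Agent.MinSimple.MinParabolic (IsMinPar)
open Cfsg.Agent.Omega.LemmaK (Block WeakNormal)
open Cfsg.Agent.Omega.LemmaK.Main (le_normalizer_bau)
open Cfsg.Agent.Omega.FFThm (Off NoOver Concl NatK SymK)
open Cfsg.Agent.Omega.OM (PB FBK.pb FBS.pb syT_of)
open Cfsg.Agent.Omega.OM.BlkGen (exists_off)
open Cfsg.Agent.Omega.S5.Def
open Cfsg.Agent.Omega.NSix.Base Cfsg.Agent.Omega.NSix.Basic
open Cfsg.Agent.Omega.NSix.CaseJ.Base
open scoped Pointwise

universe u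

variable {G : Type u} [Group G] [Finite G]

/-- **Minimal parabolics which move `Ω₁(Z(T))` are generated by `T` and an FF-block over `B`.** -/
theorem exists_pb {T H : Subgroup G} (hFF : FFThm.Stmt.{u}) (S : Sylow 2 G) (hT : Syl T H)
    (hB : bau (S : Subgroup G) ≤ T) (hP : IsMinPar T H) (hc : H ⊓ centralizer (o2 H : Set G) ≤ o2 H)
    (hJ : ¬ jj T ≤ o2 H) (hZ : ¬ H ≤ centralizer (zc T : Set G)) :
    ∃ (L N N1 N0 : Subgroup G) (q : ℕ), PB (bau (S : Subgroup G)) L N N1 N0 q ∧ L ≤ H ∧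
      ∀ K : Subgroup G, T ≤ K → L ≤ K → H ≤ K := by
  have hbau : bau T = bau (S : Subgroup G) := LemmaK.Main.bau_eq S hT.2.1 hB
  have hw : WeakNormal 2 (bau T) := by
    rw [hbau]
    exact fun R hR hBR => le_normalizer_bau S hR hBR
  obtain ⟨A, hA, hoff⟩ := exists_off hT hP hc hJ hZ
  obtain ⟨hno, hcon⟩ := hFF G T H hT hP hc ⟨A, hA.2.1.trans hT.1, hoff⟩
  have hm := SQ1.FFOne.minH_of hT hP hc
  rcases hcon with ⟨F, _, _, _, k, hk, ⟨M⟩⟩ | ⟨k, m, hk, hm2, ⟨M⟩⟩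
  · have : Nonempty (Fin k) := ⟨⟨0, hk⟩⟩
    set N := (SQ1.FFOne.natKB_of hT hc hJ hk M).toFFK hm with hN
    obtain ⟨E, hE⟩ := N.toInK hm
    obtain ⟨L, hL⟩ := hE.exists_blk ⟨0, hk⟩
    have hpb := FBK.pb hm N hE hw hL
    rw [hbau] at hpb
    exact ⟨L, _, _, _, _, hpb, hL.LH hE, fun K hTK hLK => hL.sup_T hE hTK hLK⟩
  · have h := syT_of hm hJ M hk (by omega) SQ1.FFOf.cv_le SQ1.FFOf.cv_norm
    obtain ⟨ι, J, X, Y, t, r, c⟩ := h.exists_ch
    have hin := c.main h Cfsg.Agent.Omega.SQ1.SymCyc.exists_pow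
    obtain ⟨j, x, y, hTr⟩ := h.exists_tr
    obtain ⟨i, -⟩ := c.ex j x y hTr
    obtain ⟨L, hL⟩ := hin.exists_blk i
    have hpb := FBS.pb hin hw hL
    rw [hbau] at hpb
    exact ⟨L, _, _, _, _, hpb, hL.LH hin, fun K hTK hLK => hL.sup_T hin hTK hLK⟩

variable {S : Sylow 2 G} {P : Subgroup G} {m : ℕ} {ε : (Fin (2 ^ m + 1) → ZMod 2) → G}

/-- **(8)** A minimal parabolic of `C_G(r_ij)` over `C_S(r_ij)` outside `N_G(V)` centralises `C_V(C_S(r_ij))`. -/
theorem cent (hFF : FFThm.Stmt.{u}) (h : Hyp S P ε) (h3 : 3 ≤ m) :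
    ∀ i j, i ≠ j → (∃ b ∈ (S : Subgroup G), Acts ε b (Equiv.swap i j)) →
      ∀ P₁ : Subgroup G, IsMinPar ((S : Subgroup G) ⊓ centralizer ({rr ε i j} : Set G)) P₁ →
        P₁ ≤ centralizer ({rr ε i j} : Set G) → ¬ P₁ ≤ normalizer (zl (S : Subgroup G) P : Set G) →
          P₁ ≤ centralizer ((zl (S : Subgroup G) P ⊓ centralizer (((S : Subgroup G) ⊓
            centralizer ({rr ε i j} : Set G) : Subgroup G) : Set G) : Subgroup G) : Set G) := by
  intro i j hij hb P₁ hP₁ hP₁C hnot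
  set C := centralizer ({rr ε i j} : Set G) with hC
  set T := (S : Subgroup G) ⊓ C with hT
  have hsC := Fus.syl h h3 hij hb
  rw [← hC, ← hT] at hsC
  have hs : Syl T P₁ := ⟨hP₁.le, hsC.2.1, fun R hR hR2 hTR => hsC.2.2 R (hR.trans hP₁C) hR2 hTR⟩
  have hB : bau (S : Subgroup G) ≤ T := Fus.bau_le_cent (Fus.rr_zj h hij hb)
  have hr1 := rr_ne_one h.ev h.three hij
  have hr2 : rr ε i j ^ 2 = 1 := by rw [pow_two]; exact rr_sq h.ev i j
  have hcC : C ⊓ centralizer (o2 C : Set G) ≤ o2 C := MinSimple.Basic.char2_centralizer h.hG hr2 hr1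
  have hc1 : P₁ ⊓ centralizer (o2 P₁ : Set G) ≤ o2 P₁ := by
    have h4 : o2 C ≤ o2 P₁ := ZN.le_o2 ((o2_le_syl hsC).trans hP₁.le) (isPGroup_o2 C)
      (hP₁C.trans (le_normalizer_o2 C))
    rintro x ⟨hx, hxc⟩
    exact h4 (hcC ⟨hP₁C hx, centralizer_le (by exact_mod_cast h4) hxc⟩)
  have hjj : jj T = jj (S : Subgroup G) := LemmaK.Main.jj_eq S hsC.2.1 hB
  by_cases hZ : P₁ ≤ centralizer (zc T : Set G)
  · refine hZ.trans (centralizer_le ?_)
    intro v hv
    have hv' : v ∈ zl (S : Subgroup G) P ∧ v ∈ centralizer (T : Set G) := hv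
    have hvc := mem_centralizer_iff.1 hv'.2
    rw [SetLike.mem_coe, Cfsg.Agent.ZN.ChoiceBase.mem_zc]
    refine ⟨hB (Blk.VB h hv'.1), ?_, fun y hy => hvc y hy⟩
    rw [pow_two]
    exact h.ev.sq_mem hv'.1
  exfalso
  apply hnot
  by_cases hJ : jj T ≤ o2 P₁
  · rw [hjj] at hJ
    have h1 := Fus.jj_eq_of_le S (isPGroup_o2 P₁) hJ
    have h2 : P₁ ≤ normalizer ((jj (o2 P₁) : Subgroup G) : Set G) :=
      (le_normalizer_o2 P₁).trans (normalizer_le_of_cj (F := jj) jj_cj (o2 P₁))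
    rw [h1] at h2
    exact h2.trans (Norm.jj_le h h3)
  · obtain ⟨L, N, N1, N0, q, hpb, hLP, hgen⟩ := exists_pb hFF S hs hB hP₁ hc1 hJ hZ
    refine hgen _ (inf_le_left.trans (Fus.S_le h)) ?_
    obtain ⟨ι, X, Y, N', t, r, -, hd⟩ := h.exists_dat
    have hLc : ∀ l ∈ L, l * rr ε i j = rr ε i j * l := fun l hl =>
      mem_centralizer_singleton_iff.1 (hP₁C (hLP hl))
    obtain ⟨p, h1 | h1⟩ := Fus.exists_pair h hd hij hb
    · rw [h1.1, h1.2] at hLc
      exact PBlock.L_le h h3 hd hpb hLc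
    · rw [h1.1, h1.2, rr_symm h.ev] at hLc
      exact PBlock.L_le h h3 hd hpb hLc

end Cfsg.Agent.Omega.NSix.CaseJ.Eight

end

end

-- merged: Cfsg.Agent.Mrg.Omega.NSix.HT.EightIn
section

/-!
# OMEGA N6, (H2) (#18920 (5)): the input `eight` of `HT/Five.lean`  (helper546)

* `side_of_off` : an offender on the even-subset module which fixes a letter is generated by disjoint transpositions
  (orbit count; no assumption on the labelling);
* `hyp_of` : the frame `CaseJ.Base.Hyp` from `EvenSet`, `Fix0` and `J(S) ≰ O₂(P)`;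
* `eight` : #16037 (8) (helper628, `CaseJ/Eight.lean`) in the form used in `HT/Five.lean`.
-/

set_option autoImplicit false

namespace Cfsg.Agent.Omega.NSix.HT.EightIn

open Subgroup Cfsg Cfsg.Agent.Omega.MinPar
open Cfsg.Agent.ZN (o2 zc zl jj zj)
open Cfsg.Agent.Omega.S5.Def Cfsg.Agent.Omega.S5.Syl Cfsg.Agent.Omega.S5.Pair
open Cfsg.Agent.Omega.NSix.Base Cfsg.Agent.Omega.NSix.Basic
open Cfsg.Agent.Omega.FFThm (Off)
open Cfsg.Agent.Omega.MutE.Perm (Orb)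
open Cfsg.Agent.MinSimple.MinParabolic (IsMinPar)

universe u

variable {G : Type u} [Group G]

section side

variable {n : ℕ} {V L A : Subgroup G} {ε : (Fin n → ZMod 2) → G}

/-- the permutations induced by `A` -/
noncomputable def ph (h : EvenSet n V L ε) (hn : 3 ≤ n) (hAL : A ≤ L) : A →* Equiv.Perm (Fin n) :=
  (h.hom hn).comp (Subgroup.inclusion hAL)

theorem ph_acts (h : EvenSet n V L ε) (hn : 3 ≤ n) (hAL : A ≤ L) (a : A) : Acts ε (a : G) (ph h hn hAL a) :=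
  h.acts_hom hn (Subgroup.inclusion hAL a)

theorem card_ker (h : EvenSet n V L ε) (hn : 3 ≤ n) (hAL : A ≤ L) :
    Nat.card (ph h hn hAL).ker = Nat.card ↥(A ⊓ centralizer (V : Set G)) := by
  have h1 : (ph h hn hAL).ker = (A ⊓ centralizer (V : Set G)).subgroupOf A := by
    ext a
    rw [MonoidHom.mem_ker, mem_subgroupOf, mem_inf, ← h.acts_one_iff (g := (a : G))]
    constructor
    · intro h2
      have h3 := ph_acts h hn hAL a
      rw [h2] at h3
      exact ⟨a.2, h3⟩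
    · rintro ⟨-, h2⟩
      exact h.acts_unique hn (ph_acts h hn hAL a) h2
  rw [h1]
  exact Nat.card_congr (Subgroup.subgroupOfEquivOfLe inf_le_left).toEquiv

/-- **Offenders on the even-subset module are generated by disjoint transpositions.** -/
theorem side_of_off [Finite G] [NeZero n] (h : EvenSet n V L ε) (hn : 3 ≤ n) (hAL : A ≤ L)
    (h0 : ∀ a ∈ A, ∀ σ : Equiv.Perm (Fin n), Acts ε a σ → σ 0 = 0) (hoff : Off V A) : Side A ε := by
  classical
  set φ := ph h hn hAL with hφ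
  have hact : ∀ a : A, Acts ε (a : G) (φ a) := ph_acts h hn hAL
  have hcomm : ∀ r s : φ.range, r * s = s * r := by
    rintro ⟨_, a, rfl⟩ ⟨_, b, rfl⟩
    apply Subtype.ext
    change φ a * φ b = φ b * φ a
    have h1 : a * b = b * a := hoff.elem.1.is_comm.comm a b
    rw [← map_mul, ← map_mul, h1]
  let iC : CommGroup φ.range := { (inferInstance : Group φ.range) with mul_comm := hcomm }
  -- `0` is fixed
  have hz : ∀ r : φ.range, (r : Equiv.Perm (Fin n)) 0 = 0 := by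
    rintro ⟨_, a, rfl⟩
    exact h0 _ a.2 _ (hact a)
  -- fixed vectors
  have hfix : ∀ x : Fin n → ZMod 2, ε x ∈ centralizer (A : Set G) → ∀ (r : φ.range) (i : Fin n),
      x ((r : Equiv.Perm (Fin n)) i) = x i := by
    rintro x hx ⟨_, a, rfl⟩ i
    have h1 : (a : G) * ε x * (a : G)⁻¹ = ε x := by
      rw [mem_centralizer_iff.1 hx _ a.2, mul_inv_cancel_right]
    rw [hact a x] at h1
    have h2 : x ∘ (φ a).symm = x := by
      rcases h.eq_iff.1 h1 with h3 | h3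
      · exact h3
      · exfalso
        have h4 := congrFun h3 0
        have h5 : (φ a).symm 0 = 0 := by
          rw [Equiv.symm_apply_eq]
          exact (h0 _ a.2 _ (hact a)).symm
        rw [Function.comp_apply, h5, Pi.add_apply, Pi.one_apply] at h4
        have h6 : ∀ t : ZMod 2, t ≠ t + 1 := by decide
        exact h6 _ h4
    have h3 := congrFun h2 (φ a i)
    rw [Function.comp_apply, Equiv.symm_apply_apply] at h3
    exact h3.symm
  have horb : ∀ x : Fin n → ZMod 2, ε x ∈ centralizer (A : Set G) → ∀ i : Fin n,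
      x ((Quotient.mk (MulAction.orbitRel φ.range (Fin n)) i).out) = x i := by
    intro x hx i
    obtain ⟨r, hr⟩ := MutE.Perm.out_mem (A := φ.range) i
    have h1 := hfix x hx r (Quotient.mk (MulAction.orbitRel φ.range (Fin n)) i).out
    have h2 : (r : Equiv.Perm (Fin n)) (Quotient.mk (MulAction.orbitRel φ.range (Fin n)) i).out = i := hr
    rw [h2] at h1
    exact h1.symm
  -- number of fixed vectors
  have hF : Nat.card ↥(V ⊓ centralizer (A : Set G)) * 2 ≤ 2 ^ Nat.card (Orb φ.range (Fin n)) := by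
    have hs : ∀ v : ↥(V ⊓ centralizer (A : Set G)), ∃ x, ε x = (v : G) := fun v => h.surj _ (mem_inf.1 v.2).1
    choose xx hxx using hs
    have h1 : Nat.card (Orb φ.range (Fin n) → ZMod 2) = 2 ^ Nat.card (Orb φ.range (Fin n)) := by
      rw [Nat.card_fun, Nat.card_eq_fintype_card (α := ZMod 2), ZMod.card]
    have h2 : Nat.card (↥(V ⊓ centralizer (A : Set G)) × ZMod 2) =
        Nat.card ↥(V ⊓ centralizer (A : Set G)) * 2 := by
      rw [Nat.card_prod, Nat.card_eq_fintype_card (α := ZMod 2), ZMod.card]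
    rw [← h1, ← h2]
    refine Nat.card_le_card_of_injective
      (fun p : ↥(V ⊓ centralizer (A : Set G)) × ZMod 2 => fun o : Orb φ.range (Fin n) =>
        xx p.1 o.out + (p.2 + xx p.1 0)) ?_
    rintro ⟨v, c⟩ ⟨w, d⟩ hvw
    have h3 : ∀ i, xx v i + (c + xx v 0) = xx w i + (d + xx w 0) := by
      intro i
      have h4 := congrFun hvw (Quotient.mk _ i)
      have h5 : ε (xx v) ∈ centralizer (A : Set G) := by rw [hxx]; exact (mem_inf.1 v.2).2
      have h6 : ε (xx w) ∈ centralizer (A : Set G) := by rw [hxx]; exact (mem_inf.1 w.2).2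
      simp only [] at h4
      rwa [horb _ h5, horb _ h6] at h4
    have hcd : c = d := by
      have h4 := h3 0
      have h5 : ∀ s t a b : ZMod 2, s + (a + s) = t + (b + t) → a = b := by decide
      exact h5 _ _ _ _ h4
    subst hcd
    have hvw' : v = w := by
      apply Subtype.ext
      rw [← hxx v, ← hxx w, h.eq_iff]
      have h7 : ∀ s t : ZMod 2, s = t ∨ s = t + 1 := by decide
      rcases h7 (xx v 0) (xx w 0) with h4 | h4
      · left
        funext i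
        have h5 := h3 i
        rw [h4] at h5
        exact add_right_cancel h5
      · right
        funext i
        have h5 := h3 i
        rw [h4] at h5
        rw [Pi.add_apply, Pi.one_apply]
        have h6 : ∀ a b c d : ZMod 2, a + (c + (d + 1)) = b + (c + d) → a = b + 1 := by decide
        exact h6 _ _ _ _ h5
    rw [hvw']
  -- the order of `V`
  have hV : 2 ^ n ≤ Nat.card V * 2 := by
    have h1 : Nat.card (Fin n → ZMod 2) = 2 ^ n := by
      rw [Nat.card_fun, Nat.card_eq_fintype_card (α := ZMod 2), ZMod.card, Nat.card_eq_fintype_card,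
        Fintype.card_fin]
    have h2 : Nat.card (V × ZMod 2) = Nat.card V * 2 := by
      rw [Nat.card_prod, Nat.card_eq_fintype_card (α := ZMod 2), ZMod.card]
    rw [← h1, ← h2]
    refine Nat.card_le_card_of_injective (fun x => ((⟨ε x, h.mem x⟩ : V), x 0)) ?_
    intro x y hxy
    have h3 : ε x = ε y := congrArg (fun p : V × ZMod 2 => (p.1 : G)) hxy
    have h4 : x 0 = y 0 := congrArg Prod.snd hxy
    rcases h.eq_iff.1 h3 with h5 | h5
    · exact h5
    · exfalso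
      have h6 := congrFun h5 0
      rw [Pi.add_apply, Pi.one_apply, h4] at h6
      have h7 : ∀ t : ZMod 2, t ≠ t + 1 := by decide
      exact h7 _ h6
  -- the count
  have hA : Nat.card φ.range * Nat.card ↥(A ⊓ centralizer (V : Set G)) = Nat.card A := by
    rw [← card_ker h hn hAL, ← Subgroup.index_ker, mul_comm]
    exact Subgroup.card_mul_index _
  have hle : 2 ^ (Nat.card (Fin n) - Nat.card (Orb φ.range (Fin n))) ≤ Nat.card φ.range := by
    have h1 := hoff.le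
    rw [← hA] at h1
    have hk : 0 < Nat.card ↥(A ⊓ centralizer (V : Set G)) := Nat.card_pos
    have h2 : Nat.card V ≤ Nat.card φ.range * Nat.card ↥(V ⊓ centralizer (A : Set G)) := by
      refine Nat.le_of_mul_le_mul_right (c := Nat.card ↥(A ⊓ centralizer (V : Set G))) ?_ hk
      calc _ ≤ _ := h1
        _ = _ := by ring
    have h3 : 2 ^ n ≤ Nat.card φ.range * 2 ^ Nat.card (Orb φ.range (Fin n)) := by
      calc 2 ^ n ≤ Nat.card V * 2 := hV
        _ ≤ Nat.card φ.range * Nat.card ↥(V ⊓ centralizer (A : Set G)) * 2 := Nat.mul_le_mul_right _ h2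
        _ = Nat.card φ.range * (Nat.card ↥(V ⊓ centralizer (A : Set G)) * 2) := by ring
        _ ≤ _ := Nat.mul_le_mul_left _ hF
    have h4 : Nat.card (Orb φ.range (Fin n)) ≤ n := by
      have := MutE.Perm.orb_le (A := φ.range) (Ω := Fin n)
      rwa [Nat.card_eq_fintype_card (α := Fin n), Fintype.card_fin] at this
    rw [Nat.card_eq_fintype_card (α := Fin n), Fintype.card_fin]
    refine Nat.le_of_mul_le_mul_right (c := 2 ^ Nat.card (Orb φ.range (Fin n))) ?_ (by positivity)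
    rwa [← pow_add, Nat.sub_add_cancel h4]
  have key := MutE.Perm.exists_swap_perm (A := φ.range) (Ω := Fin n)
    (fun r hr => Subtype.ext (Equiv.ext fun i => hr i)) hle
  intro a ha
  refine ⟨φ ⟨a, ha⟩, hact ⟨a, ha⟩, fun i hi => ⟨?_, ?_⟩⟩
  · have h1 : (⟨a, ha⟩ : A) * ⟨a, ha⟩ = 1 := by
      apply Subtype.ext
      have := hoff.elem.2 a ha
      rwa [pow_two] at this
    have h2 : φ ⟨a, ha⟩ * φ ⟨a, ha⟩ = 1 := by rw [← map_mul, h1, map_one]
    exact congrArg (fun τ : Equiv.Perm (Fin n) => τ i) h2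
  · obtain ⟨⟨_, b, rfl⟩, h1, h2, h3⟩ := key ⟨φ ⟨a, ha⟩, ⟨⟨a, ha⟩, rfl⟩⟩ i hi
    refine ⟨b, b.2, ?_⟩
    have h4 : φ b = Equiv.swap i (φ ⟨a, ha⟩ i) := by
      ext k
      congr 1
      by_cases hk : k = i
      · rw [hk, Equiv.swap_apply_left]
        exact h1
      · by_cases hk' : k = φ ⟨a, ha⟩ i
        · rw [hk', Equiv.swap_apply_right]
          exact h2
        · rw [Equiv.swap_apply_of_ne_of_ne hk hk']
          exact h3 k hk hk'
    rw [← h4]
    exact hact b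

end side

section eight

variable [Finite G] {S : Sylow 2 G} {P : Subgroup G} {m : ℕ} {ε : (Fin (2 ^ m + 1) → ZMod 2) → G}

/-- The frame of the case `J(S) ≰ O₂(P)`, for any labelling. -/
theorem hyp_of (hG : IsCharacteristicTwoType G) (hP : IsParS (S : Subgroup G) P) (hm : 2 ≤ m)
    (ev : EvenSet (2 ^ m + 1) (zl (S : Subgroup G) P) P ε) (fix0 : Fix0 ε (S : Subgroup G))
    (nJ : ¬ jj (S : Subgroup G) ≤ o2 P) : CaseJ.Base.Hyp S P ε where
  hG := hG
  hP := hP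
  hm := hm
  ev := ev
  fix0 := fix0
  off := fun A hA hoff => side_of_off ev (three_le (by omega)) (hA.trans hP.isLoc.le)
    (fun a ha σ hσ => fix0 a (hA ha) σ hσ) hoff
  nJ := nJ

/-- **The input `eight` of `HT/Five.lean`**: #16037 (8). -/
theorem eight (hFF : FFThm.Stmt.{u}) (hG : IsCharacteristicTwoType G) (hP : IsParS (S : Subgroup G) P)
    (hm : 3 ≤ m) (ev : EvenSet (2 ^ m + 1) (zl (S : Subgroup G) P) P ε) (fix0 : Fix0 ε (S : Subgroup G))
    {i j : Fin (2 ^ m + 1)} (hij : i ≠ j) (hb : ∃ b ∈ (S : Subgroup G), Acts ε b (Equiv.swap i j))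
    (nJ : ¬ jj (S : Subgroup G) ≤ o2 P) (R : Subgroup G) (hR : IsMinPar ((S : Subgroup G) ⊓ NN ε i j) R)
    (hRN : R ≤ NN ε i j) (hRV : ¬ R ≤ normalizer (zl (S : Subgroup G) P : Set G)) :
    ∀ v ∈ zl (S : Subgroup G) P, (∀ t ∈ (S : Subgroup G) ⊓ NN ε i j, t * v = v * t) → ∀ r ∈ R, r * v = v * r := by
  intro v hv hvc r hr
  have h1 := CaseJ.Eight.cent hFF (hyp_of hG hP (by omega) ev fix0 nJ) hm i j hij hb R hR hRN hRV hr
  exact (mem_centralizer_iff.1 h1 v (mem_inf.2 ⟨hv, mem_centralizer_iff.2 fun t ht => hvc t ht⟩)).symm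

end eight

end Cfsg.Agent.Omega.NSix.HT.EightIn

end

-- merged: Cfsg.Agent.Mrg.Omega.NSix.HT.Main
section

section


/-!
# OMEGA N6: (H2) without (ML) and THEOREM SN: #18920 (helper605), the assembly

`Pos S P ε`, `S` induces `(i j)`, `N = C_G(r_ij)`, `T₁ = S ∩ N`, `λ : O₂(N) → F₂` with kernel `Q0 ε i j`.

* `key_of` : (3) = `Four.Key`; `key_five` : (3) for `D = ⟨r_ij⟩`; `bl` : THEOREM BL* (case `J(S) ≤ O₂(P)`);
* `pos_false` : `Pos` is contradictory; `symH2 : SymH2 K` = (H2) of N6; `symBig : S5.Main.SymBig K` (leaf II.c),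
  for every class `K`, no hypotheses. FF theorem: `FFBr.ffthm`; case `J(S) ≰ O₂(P)`: 546's `EightIn.eight`.
-/

set_option autoImplicit false
set_option linter.unusedSectionVars false

namespace Cfsg.Agent.Omega.NSix.HT.Main

open Subgroup Cfsg Cfsg.Agent.Omega.MinPar
open Cfsg.Agent.ZN (o2 zc zl jj)
open Cfsg.Agent.ZN.ChoiceSit (Syl)
open Cfsg.Agent.MinSimple.VModule (o2_le o2_isPGroup le_normalizer_o2 le_o2 mem_zc oddGen)
open Cfsg.Agent.Omega.S5.Def Cfsg.Agent.Omega.S5.Syl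
open Cfsg.Agent.Omega.NSix.Base Cfsg.Agent.Omega.NSix.Basic Cfsg.Agent.Omega.NSix.Engine
open Cfsg.Agent.Omega.NSix.CosetAct (V0 mem_V0)
open Cfsg.Agent.Omega.NSix.HTwo.LemTwo (XX In V0_le V0_le_UU)
open Cfsg.Agent.Omega.NSix.HTwo.Main (Pos)
open Cfsg.Agent.Omega.NSix.HTwo.StepC (sy_of nc_of in_of)
open Cfsg.Agent.Omega.NSix.HT.Five (Q0)
open Cfsg.Agent.Omega.Frame (Ctx Cls)
open Cfsg.Agent.MinSimple.MinParabolic (IsMinPar)
open Cfsg.Agent.Omega.S5.SymBig (H2 Pr SymH2)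
open Cfsg.Agent.Omega

universe u

section

variable {G : Type u} [Group G] [Finite G] {m : ℕ} {S : Sylow 2 G} {V P : Subgroup G}
  {ε : (Fin (2 ^ m + 1) → ZMod 2) → G} {i j : Fin (2 ^ m + 1)}

/-- (3) in the form used in (4) -/
theorem key_of (h : In S V P ε i j) : Four.Key V ε i j := by
  intro D T R hD hr hT hR hRD hmv hcomm
  have hDV : D ≤ V := hD.trans (V0_le h.hyp)
  have hRN : R ≤ NN ε i j := hRD.trans (centralizer_le_NN h hr)
  obtain ⟨⟨t, ht, hto⟩, h2, h3⟩ := Key.key h.hyp h.ij h.evL h.cut hr (hD.trans V0_le_UU)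
    (hT.1.trans inf_le_right) (XX_le_syl h hDV hT) (syl_D h hDV hr hT) hR hRD ((Five.mv_iff hRN).2 hmv)
    fun g hg v hv w hw => by
      have h1 := hcomm g hg 1 (one_mem _) v hv w hw
      simpa using h1
  refine ⟨fun t ht s hs htK hsK => ?_, fun hX => hto (hX ht), h3⟩
  have h4 := h2 t⁻¹ (inv_mem ht) s⁻¹ (inv_mem hs) (fun h5 => htK (inv_mem_iff.1 h5))
    fun h5 => hsK (inv_mem_iff.1 h5)
  rwa [inv_inv] at h4

/-- (3) for `D = ⟨r_ij⟩` -/
theorem key_five (h : In S V P ε i j) {R : Subgroup G} (hR : IsMinPar ((S : Subgroup G) ⊓ NN ε i j) R)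
    (hRN : R ≤ NN ε i j) (hmv : ¬ R ≤ normalizer (Q0 ε i j : Set G))
    (hcomm : ∀ g ∈ R, ∀ g' ∈ R, ∀ v ∈ V, ∀ w ∈ V,
      g * v * g⁻¹ * (g' * w * g'⁻¹) = g' * w * g'⁻¹ * (g * v * g⁻¹)) :
    ∀ v ∈ V, (∀ t ∈ (S : Subgroup G) ⊓ NN ε i j, t * v = v * t) → ∀ r ∈ R, r * v = v * r := by
  have hC : centralizer ((zpowers (rr ε i j) : Subgroup G) : Set G) = NN ε i j := by
    rw [zpowers_eq_closure, centralizer_closure]
    rfl
  have h1 := Key.key h.hyp h.ij h.evL h.cut (D := zpowers (rr ε i j)) (T := (S : Subgroup G) ⊓ NN ε i j)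
    (mem_zpowers _) (zpowers_le.2 (h.hyp.rr_mem_U h.ij)) (inf_le_left.trans h.SL) h.XX_le_T
    (by rw [hC]; exact h.syl) hR (by rw [hC]; exact hRN) ((Five.mv_iff hRN).2 hmv)
    fun g hg v hv w hw => by
      have h1 := hcomm g hg 1 (one_mem _) v hv w hw
      simpa using h1
  exact h1.2.2

/-- THEOREM BL* -/
theorem bl (hFF : FFThm.Stmt.{u}) (hG : IsCharacteristicTwoType G) (hP : IsParS (S : Subgroup G) P)
    (h : In S (zl (S : Subgroup G) P) P ε i j) (hJ : jj (S : Subgroup G) ≤ o2 P) {R : Subgroup G}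
    (hR : IsMinPar ((S : Subgroup G) ⊓ NN ε i j) R) (hRN : R ≤ NN ε i j)
    (hJR : ¬ jj (S : Subgroup G) ≤ o2 R) : R ≤ centralizer ({zz ε 0} : Set G) := by
  set T := (S : Subgroup G) ⊓ NN ε i j with hTdef
  have hTR : T ≤ R := hR.le
  have hT : Syl T R := by
    obtain ⟨h1, h2, h3⟩ := h.syl
    exact ⟨hTR, h2, fun Q hQR hQ hTQ => h3 Q (hQR.trans hRN) hQ hTQ⟩
  have hcN : NN ε i j ⊓ centralizer (o2 (NN ε i j) : Set G) ≤ o2 (NN ε i j) :=
    MinSimple.Basic.char2_centralizer hG (by rw [pow_two]; exact rr_sq h.hyp.ev i j)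
      (rr_ne_one h.hyp.ev h.three h.ij)
  have hO : OmegaOne.Hyp (zl (S : Subgroup G) P) P S ε := by
    refine ⟨h.hyp.ev, hP.le, MinSimple.VModule.zc_le_zl _ _, h.hyp.pair, h.hyp.le, ?_⟩
    obtain ⟨a, b, hab, g, hg, -, hgV⟩ := h.hyp.mov
    exact ⟨a, b, hab, g, hg, hgV⟩
  have hinf := hP.inf_centralizer S hG
  have hQT : o2 P ≤ T := by
    intro q hq
    have h1 : q ∈ (S : Subgroup G) ⊓ centralizer (zl (S : Subgroup G) P : Set G) := by rw [hinf]; exact hq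
    exact ⟨h1.1, mem_NN.2 (mem_centralizer_iff.1 h1.2 _ (rr_mem h.hyp.ev i j)).symm⟩
  have hz : ∀ s ∈ (S : Subgroup G), s * zz ε 0 = zz ε 0 * s := by
    intro t ht
    obtain ⟨σ, hσ⟩ := h.hyp.ev.perm t (h.SP ht)
    have h1 := zz_conj hσ 0
    rw [h.fix0 t ht σ hσ] at h1
    exact mul_inv_eq_iff_eq_mul.1 h1
  have h1 : zc T ≤ centralizer (oddGen R : Set G) :=
    NoBlk.Main.cen_zc hFF (NoBlk.Main.dat_par hG hP h.hyp.ev (OmegaOne.zc_o2_par hG h.hyp.n5 hP hO) hJ)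
      (by have := h.hm; omega) hQT hT hR
      (HTwo.StepFour.char2_of hcN hRN (h.o2_le_T.trans hTR)) (rr_mem h.hyp.ev i j)
      (rr_ne_one h.hyp.ev h.three h.ij) hRN hJR
  have h2 : zz ε 0 ∈ zc T := HTwo.StepFour.zz_mem_zc hG hP h.hyp hz
  have h3 : oddGen R ⊔ T = R := TTn.DiCoreAbs.oddGen_sup hTR fun h4 => h.not_dvd (by
    rw [← relIndex_mul_relIndex _ R (NN ε i j) hTR hRN]
    exact h4.mul_right _)
  rw [← h3]
  refine sup_le (fun x hx => ?_) fun t ht => mem_centralizer_singleton_iff.2 (hz t ht.1)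
  exact mem_centralizer_singleton_iff.2 (mem_centralizer_iff.1 (h1 h2) x hx)

/-- `V ≤ Z(O₂(C_G(z_k)))`: the `C_G(z_k)`-conjugates of `V` commute -/
theorem comm_zz (h : Pos S P ε) (k : Fin (2 ^ m + 1)) {g g' : G} (hg : g ∈ centralizer ({zz ε k} : Set G))
    (hg' : g' ∈ centralizer ({zz ε k} : Set G)) : ∀ v ∈ zl (S : Subgroup G) P, ∀ w ∈ zl (S : Subgroup G) P,
      g * v * g⁻¹ * (g' * w * g'⁻¹) = g' * w * g'⁻¹ * (g * v * g⁻¹) := by
  have hV : zl (S : Subgroup G) P ≤ o2 (centralizer ({zz ε k} : Set G)) ⊓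
      centralizer (o2 (centralizer ({zz ε k} : Set G)) : Set G) := by
    refine le_inf (PtCen.le_o2_cent h.c2 S h.m3 h.hyp.ev h.par.le h.fix0 k) fun v hv => ?_
    refine mem_centralizer_iff.2 fun x hx => ?_
    exact (mem_centralizer_iff.1 (Fix.o2_le_cent S h.m3 h.hyp.ev h.par.le h.fix0 k hx) v hv).symm
  intro v hv w hw
  have h1 := Fix.conj_center (mem_centralizer_singleton_iff.1 hg) (hV hv)
  have h2 := Fix.conj_center (mem_centralizer_singleton_iff.1 hg') (hV hw)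
  exact mem_centralizer_iff.1 h2.2 _ h1.1

end

section

variable {G : Type u} [Group G] [Finite G] {m : ℕ} {S : Sylow 2 G} {P : Subgroup G}
  {ε : (Fin (2 ^ m + 1) → ZMod 2) → G}

/-- **#18920**: `Pos` is contradictory -/
theorem pos_false (h : Pos S P ε) : False := by
  obtain ⟨i, j, hij, hsw⟩ := PairCen.exists_swap_mem (by have := h.m3; omega) h.hyp.ev
    (MinSimple.Basic.not_dvd_relIndex S h.par.le)
  have hI := in_of h hij hsw
  obtain ⟨R, -, h1, h2, h3⟩ := Five.five hI h.c2 h.par (fun R hR hRN hmv hc => key_five hI hR hRN hmv hc)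
    (fun hJ R hR hRN hJR => bl FFBr.ffthm h.c2 h.par hI hJ hR hRN hJR)
    (fun hJ R hR hRN hRL => EightIn.eight FFBr.ffthm h.c2 h.par h.m3 h.hyp.ev h.fix0 hij hsw hJ R hR hRN hRL)
    (Fix.not_le_normalizer h hI)
  exact h3 ((le_inf h1 h2).trans (Four.four hI h.m3 (nc_of h) (key_of hI)
    fun g hg g' hg' => comm_zz h 0 hg hg'))

/-- **(H2)** of N6 -/
theorem symH2 {K : Cls.{u}} : SymH2 K := by
  intro G _ _ hG _ S _ _ _ _ _ P₁ P₂ y m m' ε ε₂ hm hm' hl _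
  by_contra hno
  exact pos_false (HTwo.Main.Pos.of (S5.SymBig.pr_of hG.char2 (by omega) hm' hl) hm hl.pair.star₁ hno)

/-- **the leaf II.c** -/
theorem symBig {K : Cls.{u}} : S5.Main.SymBig K := S5.SymBig.symBig_of symH2

end

end Cfsg.Agent.Omega.NSix.HT.Main

end

section


/-!
# `C_G(r_ij) ≤ N_G(V)` for a free member `S_{2^m+1}`, `m ≥ 3`, which is moved by some `WP ε i j` (partner-free)

(H2) fails: `HT.Main.pos_false` (helper605 and others).  (H2) holds: `Zero.sixL`, `EndL.SixL.nn_le`.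
-/

set_option autoImplicit false

namespace Cfsg.Agent.Omega.IId.SymMany

open Subgroup Cfsg Cfsg.Agent.Omega.MinPar
open Cfsg.Agent.ZN (o2 zc zl)
open Cfsg.Agent.Omega.Frame (Ctx Cls)
open Cfsg.Agent.Omega.S5.Def Cfsg.Agent.Omega.S5.Syl
open Cfsg.Agent.Omega.S5.NatBig (Facts)
open Cfsg.Agent.Omega.NSix.Base Cfsg.Agent.Omega.NSix.Basic
open Cfsg.Agent.Omega.NSix.Zero (WP)
open Cfsg.Agent.Omega.NSix.Engine (D4)

universe u

/-- **`C_G(r_ij) ≤ N_G(V)`** -/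
theorem nn_le {G : Type u} [Group G] [Finite G] (hG : IsCharacteristicTwoType G) (S : Sylow 2 G)
    {P : Subgroup G} (hP : IsParS (S : Subgroup G) P) {m : ℕ} (hm : 3 ≤ m) {ε : (Fin (2 ^ m + 1) → ZMod 2) → G}
    (ev : EvenSet (2 ^ m + 1) (zl (S : Subgroup G) P) P ε) (h0 : Fix0 ε (S : Subgroup G)) (Fa : Facts ε P)
    (mov : ∃ i j, i ≠ j ∧ ∃ g ∈ WP ε i j, g * g ∈ zpowers (rr ε i j) ∧
      ¬ g ∈ centralizer (zl (S : Subgroup G) P : Set G)) :
    ∀ i j, i ≠ j → NN ε i j ≤ normalizer (zl (S : Subgroup G) P : Set G) := by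
  have h5 : 5 ≤ 2 ^ m + 1 := five_le (by omega)
  have h7 : 7 ≤ 2 ^ m + 1 := by
    have : 2 ^ 3 ≤ 2 ^ m := Nat.pow_le_pow_right (by norm_num) hm
    omega
  have hodd : Odd (2 ^ m + 1) := Even.add_one (Nat.even_pow.mpr ⟨even_two, by omega⟩)
  have hZ : zc (S : Subgroup G) ≤ zl (S : Subgroup G) P := MinSimple.VModule.zc_le_zl _ _
  have hpair : ∀ i j k, i ≠ j → k ≠ i → k ≠ j → ∀ q ∈ o2 (NN ε i j), q * zz ε k = zz ε k * q :=
    fun i j k hij hki hkj q hq => Fa.pair i j hij k hki hkj q hq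
  have hH : NSix.Engine.Hyp (zl (S : Subgroup G) P) P ε :=
    NSix.Engine.Hyp.of hG h5 hodd ev S hP.le hZ hpair Fa.le mov
  by_cases hcom : ∃ i j k l, D4 i j k l ∧ ∀ u ∈ UU ε i j, ∀ y ∈ UU ε k l, u * y = y * u
  · obtain ⟨a, b, c, d, hD, hc⟩ := hcom
    have h6 := NSix.Zero.sixL hG hm ev S hP.le h0 hZ hpair Fa.le
      (fun i j k l hij hkl hik hil hjk hjl => hH.hq_of_comm
        (fun {_ _ _ _} hD' => hH.comm_transfer hD hD' hc) ⟨hij, hik, hil, hjk, hjl, hkl⟩)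
      (by obtain ⟨i, j, hij, g, hg, -, hgV⟩ := mov; exact ⟨i, j, hij, g, hg, hgV⟩)
    exact fun i j hij => h6.nn_le hodd h7 hij
  · exfalso
    push Not at hcom
    have hpos : NSix.HTwo.Main.Pos S P ε := ⟨hG, hm, hP, hH, h0, fun i j k l hD hc => by
      obtain ⟨u, hu, y, hy, hne⟩ := hcom i j k l hD
      exact hne (hc u hu y hy)⟩
    exact NSix.HT.Main.pos_false hpos

end Cfsg.Agent.Omega.IId.SymMany

end

section


/-!
# A 2-group of permutations normalised by `Sym(B) × Sym(Bᶜ)`, `|Bᶜ|` odd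

`x : Fin n → ZMod 2` (the characteristic function of `B`, `∑ x = 0`, `n` odd), `H` a group of permutations fixing `x`,
all elements of 2-power order, normalised by the transpositions `(d e)`, `x d = x e`; `H ≠ 1`: then `|B| ≤ 4`.
-/

set_option autoImplicit false

namespace Cfsg.Agent.Omega.IId.SymMany

open Equiv

/-- the number of points of `x` -/
def wt {n : ℕ} (x : Fin n → ZMod 2) : ℕ := ∑ t, (x t).val

theorem z2c (x : ZMod 2) : x = 0 ∨ x = 1 := by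
  revert x
  decide

theorem wt_union {n : ℕ} (x y : Fin n → ZMod 2) :
    wt x + wt y + wt (x + y) = 2 * wt (x + y + x * y) := by
  have key : ∀ a b : ZMod 2, a.val + b.val + (a + b).val = 2 * (a + b + a * b).val := by decide
  unfold wt
  rw [← Finset.sum_add_distrib, ← Finset.sum_add_distrib, Finset.mul_sum]
  exact Finset.sum_congr rfl fun t _ => key _ _

theorem wt_add_one {n : ℕ} (x : Fin n → ZMod 2) : wt x + wt (x + 1) = n := by
  have key : ∀ a : ZMod 2, a.val + (a + 1).val = 1 := by decide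
  unfold wt
  rw [← Finset.sum_add_distrib]
  calc ∑ t, ((x t).val + ((x + 1) t).val) = ∑ _t : Fin n, 1 := Finset.sum_congr rfl fun t _ => key _
    _ = n := by simp

theorem wt_zero {n : ℕ} : wt (0 : Fin n → ZMod 2) = 0 := by
  unfold wt
  exact Finset.sum_eq_zero fun t _ => by simp

theorem wt_single_add {n : ℕ} {i j : Fin n} (hij : i ≠ j) :
    wt (Pi.single i 1 + Pi.single j 1 : Fin n → ZMod 2) = 2 := by
  classical
  have h1 : ∀ t, ((Pi.single i 1 + Pi.single j 1 : Fin n → ZMod 2) t).val =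
      (if t = i then 1 else 0) + if t = j then 1 else 0 := by
    intro t
    rw [Pi.add_apply]
    by_cases h : t = i
    · subst h
      rw [Pi.single_eq_same, Pi.single_eq_of_ne hij, if_pos rfl, if_neg hij]
      decide
    · rw [Pi.single_eq_of_ne h, if_neg h]
      by_cases h' : t = j
      · subst h'
        rw [Pi.single_eq_same, if_pos rfl]
        decide
      · rw [Pi.single_eq_of_ne h', if_neg h']
        decide
  unfold wt
  rw [Finset.sum_congr rfl fun t _ => h1 t, Finset.sum_add_distrib, Finset.sum_ite_eq', Finset.sum_ite_eq']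
  simp

/-- a nonzero even set has at least two points -/
theorem two_le_wt {n : ℕ} {x : Fin n → ZMod 2} (h0 : ∑ t, x t = 0) (hx : x ≠ 0) : 2 ≤ wt x := by
  have h1 : ((wt x : ℕ) : ZMod 2) = 0 := by
    unfold wt
    rw [Nat.cast_sum, ← h0]
    exact Finset.sum_congr rfl fun t _ => ZMod.natCast_zmod_val _
  have h2 : wt x ≠ 0 := by
    intro h
    apply hx
    funext t
    have h3 := (Finset.sum_eq_zero_iff.1 h) t (Finset.mem_univ t)
    exact (ZMod.val_eq_zero _).1 h3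
  have h3 : 2 ∣ wt x := (ZMod.natCast_eq_zero_iff _ _).1 h1
  omega

section lemC

variable {n : ℕ} {x : Fin n → ZMod 2} {H : Subgroup (Perm (Fin n))}

/-- the hypotheses -/
structure Hc (x : Fin n → ZMod 2) (H : Subgroup (Perm (Fin n))) : Prop where
  two : ∀ σ ∈ H, ∃ s : ℕ, σ ^ (2 ^ s) = 1
  fix : ∀ σ ∈ H, ∀ t, x (σ t) = x t
  norm : ∀ d e, x d = x e → ∀ σ ∈ H, swap d e * σ * swap d e ∈ H

variable (h : Hc x H)
include h

theorem Hc.mem {σ : Perm (Fin n)} (hσ : σ ∈ H) {d e : Fin n} (he : x d = x e) :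
    swap (σ d) (σ e) * swap d e ∈ H := by
  have h1 := H.mul_mem hσ (h.norm d e he σ⁻¹ (H.inv_mem hσ))
  have h2 : σ * (swap d e * σ⁻¹ * swap d e) = swap (σ d) (σ e) * swap d e := by
    rw [← mul_assoc, ← mul_assoc, ← Equiv.swap_apply_apply]
  rwa [h2] at h1

omit h in
/-- `(a b)(b c)` is no 2-element -/
theorem three_cycle {a b c : Fin n} (hab : a ≠ b) (hbc : b ≠ c) (hac : a ≠ c) (s : ℕ)
    (h1 : (swap a b * swap b c) ^ (2 ^ s) = 1) : False := by
  set ρ := swap a b * swap b c with hρ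
  have e1 : ρ a = b := by
    rw [hρ, Perm.mul_apply, swap_apply_of_ne_of_ne hab hac, swap_apply_left]
  have e2 : ρ b = c := by
    rw [hρ, Perm.mul_apply, swap_apply_left, swap_apply_of_ne_of_ne hac.symm hbc.symm]
  have e3 : ρ c = a := by
    rw [hρ, Perm.mul_apply, swap_apply_right, swap_apply_right]
  have h3 : ρ ^ 3 = 1 := by
    ext t
    rw [pow_succ, pow_two, Perm.mul_apply, Perm.mul_apply]
    by_cases ha : t = a
    · subst ha; rw [e1, e2, e3]; rfl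
    by_cases hb : t = b
    · subst hb; rw [e2, e3, e1]; rfl
    by_cases hc : t = c
    · subst hc; rw [e3, e1, e2]; rfl
    have e4 : ρ t = t := by
      rw [hρ, Perm.mul_apply, swap_apply_of_ne_of_ne hb hc, swap_apply_of_ne_of_ne ha hb]
    rw [e4, e4, e4]
    rfl
  have h4 : orderOf ρ ∣ 3 := orderOf_dvd_of_pow_eq_one h3
  have h5 : orderOf ρ ∣ 2 ^ s := orderOf_dvd_of_pow_eq_one h1
  have h6 : Nat.Coprime 3 (2 ^ s) := Nat.Coprime.pow_right s (by norm_num)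
  have h7 : orderOf ρ = 1 := Nat.eq_one_of_dvd_coprimes h6 h4 h5
  rw [orderOf_eq_one_iff] at h7
  rw [h7] at e1
  exact hab e1

/-- `σ² = 1` -/
theorem Hc.inv {σ : Perm (Fin n)} (hσ : σ ∈ H) {d : Fin n} (hd : σ d ≠ d) : σ (σ d) = d := by
  by_contra hne
  set e := σ d with he
  have h1 := h.mem hσ (d := d) (e := e) (h.fix σ hσ d).symm
  rw [← he, swap_comm e (σ e), swap_comm d e] at h1
  obtain ⟨s, hs⟩ := h.two _ h1
  exact three_cycle (fun h2 => hd (σ.injective (h2.trans he))) hd (fun h2 => hne h2) s hs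

/-- a moved point moves its class -/
theorem Hc.move {σ : Perm (Fin n)} (hσ : σ ∈ H) {d e : Fin n} (hd : σ d ≠ d) (hde : x d = x e) : σ e ≠ e := by
  intro hee
  have hne : d ≠ e := fun h1 => hd (by rw [h1]; exact hee)
  have hne2 : σ d ≠ e := fun h1 => hne (σ.injective (h1.trans hee.symm))
  have h1 := h.mem hσ hde
  rw [hee, swap_comm d e] at h1
  obtain ⟨s, hs⟩ := h.two _ h1
  exact three_cycle hne2 hne.symm hd s hs

/-- the points off `B` are fixed -/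
theorem Hc.fix0 (hn : Odd n) (h0 : ∑ t, x t = 0) {σ : Perm (Fin n)} (hσ : σ ∈ H) {d : Fin n} (hd : x d = 0) :
    σ d = d := by
  by_contra hne
  have h1 : ∀ e, x e = 0 → σ e ≠ e := fun e he => h.move hσ hne (hd.trans he.symm)
  -- the number of the points off `B` is odd
  have h2 : ∑ t ∈ Finset.univ.filter (fun t => x t = 0), (1 : ZMod 2) = 0 := by
    refine Finset.sum_involution (fun t _ => σ t) (fun t _ => by decide) (fun t ht _ => ?_) (fun t ht => ?_)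
      (fun t ht => ?_)
    · exact h1 t (Finset.mem_filter.1 ht).2
    · exact Finset.mem_filter.2 ⟨Finset.mem_univ _, (h.fix σ hσ t).trans (Finset.mem_filter.1 ht).2⟩
    · exact h.inv hσ (h1 t (Finset.mem_filter.1 ht).2)
  have h3 : ∑ t : Fin n, (x t + 1) = ∑ t ∈ Finset.univ.filter (fun t => x t = 0), (1 : ZMod 2) := by
    rw [Finset.sum_filter]
    refine Finset.sum_congr rfl fun t _ => ?_
    rcases z2c (x t) with h4 | h4
    · rw [h4, if_pos rfl]; decide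
    · rw [h4, if_neg (by decide)]; decide
  rw [h2, Finset.sum_add_distrib, h0, zero_add, Finset.sum_const, Finset.card_univ, Fintype.card_fin,
    nsmul_eq_mul, mul_one] at h3
  have h4 := (ZMod.natCast_eq_zero_iff _ _).1 h3
  obtain ⟨k, hk⟩ := hn
  omega

/-- **`|B| ≤ 4`** -/
theorem Hc.wt_le (hn : Odd n) (h0 : ∑ t, x t = 0) (hne : ∃ σ ∈ H, σ ≠ 1) : wt x ≤ 4 := by
  classical
  obtain ⟨σ, hσ, hσ1⟩ := hne
  obtain ⟨d, hd⟩ : ∃ d, σ d ≠ d := by
    by_contra hcon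
    push Not at hcon
    exact hσ1 (Equiv.ext hcon)
  have hd1 : x d = 1 := (z2c (x d)).resolve_left fun h1 => hd (h.fix0 hn h0 hσ h1)
  by_contra hw
  push Not at hw
  set B := Finset.univ.filter (fun t => x t = 1) with hB
  have hcard : B.card = wt x := by
    rw [hB, Finset.card_filter, wt]
    refine Finset.sum_congr rfl fun t _ => ?_
    rcases z2c (x t) with h4 | h4
    · rw [h4, if_neg (by decide)]; decide
    · rw [h4, if_pos rfl]; decide
  have hex : ∀ s : Finset (Fin n), s.card ≤ 4 → ∃ e ∈ B, e ∉ s := by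
    intro s hs
    by_contra hcon
    push Not at hcon
    have h1 := Finset.card_le_card (show B ⊆ s from fun t ht => hcon t ht)
    omega
  obtain ⟨e, heB, he⟩ := hex {d, σ d} (Finset.card_le_two.trans (by norm_num))
  rw [Finset.mem_insert, Finset.mem_singleton, not_or] at he
  obtain ⟨hed, heσ⟩ := he
  have he1 : x e = 1 := (Finset.mem_filter.1 heB).2
  have hmv : ∀ t, x t = 1 → σ t ≠ t := fun t ht => h.move hσ hd (hd1.trans ht.symm)
  have hρ := h.mem hσ (hd1.trans he1.symm)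
  set ρ := swap (σ d) (σ e) * swap d e with hρd
  have h1 : ρ d = e := by
    rw [hρd, Perm.mul_apply, swap_apply_left, swap_apply_of_ne_of_ne heσ (Ne.symm (hmv e he1))]
  obtain ⟨f, hfB, hf⟩ := hex {d, e, σ d, σ e} (Finset.card_le_four)
  simp only [Finset.mem_insert, Finset.mem_singleton, not_or] at hf
  obtain ⟨f1, f2, f3, f4⟩ := hf
  have h2 : ρ f = f := by
    rw [hρd, Perm.mul_apply, swap_apply_of_ne_of_ne f1 f2, swap_apply_of_ne_of_ne f3 f4]
  exact h.move hρ (d := d) (e := f) (by rw [h1]; exact hed) (hd1.trans (Finset.mem_filter.1 hfB).2.symm) h2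

end lemC

end Cfsg.Agent.Omega.IId.SymMany

end

section


/-!
# OMEGA N6, (H2) by #18920 (helper605): the input `bl` of (5)  (helper840)

`bl` : `J(S) ≤ O₂(P)`: the minimal parabolics `R` over `T₁ = C_S(r_ij)` in `C_G(r_ij)` with `J(S) ≰ O₂(R)` centralise
`Ω₁Z(T₁) ∋ z_0` (THEOREM BL*, helper107).
-/

set_option autoImplicit false
set_option linter.unusedSectionVars false

namespace Cfsg.Agent.Omega.NSix.HT.Bl

open Subgroup Cfsg Cfsg.Agent.Omega.MinPar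
open Cfsg.Agent.ZN (o2 zc zl jj)
open Cfsg.Agent.ZN.ChoiceSit (Syl)
open Cfsg.Agent.MinSimple.VModule (o2_le o2_isPGroup le_normalizer_o2 le_o2 mem_zc oddGen)
open Cfsg.Agent.Omega.S5.Def Cfsg.Agent.Omega.S5.Syl
open Cfsg.Agent.Omega.NSix.Base Cfsg.Agent.Omega.NSix.Basic Cfsg.Agent.Omega.NSix.Engine
open Cfsg.Agent.Omega.NSix.HTwo.LemTwo (XX In)
open Cfsg.Agent.Omega.NSix.HTwo.Main (Pos)
open Cfsg.Agent.MinSimple.MinParabolic (IsMinPar)

universe u

variable {G : Type u} [Group G] [Finite G] {S : Sylow 2 G} {P : Subgroup G} {m : ℕ}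
  {ε : (Fin (2 ^ m + 1) → ZMod 2) → G} {i j : Fin (2 ^ m + 1)}

/-- `z_0 ∈ Ω₁Z(T)` for `O₂(P) ≤ T ≤ S`, `T` over `V` -/
theorem zz_zero_mem (h : Pos S P ε) {T : Subgroup G} (hT : T ≤ (S : Subgroup G))
    (hV : zl (S : Subgroup G) P ≤ T) : zz ε 0 ∈ zc T := by
  refine mem_zc.2 ⟨hV (zz_mem h.hyp.ev 0), fun t ht => ?_, by rw [pow_two]; exact zz_sq h.hyp.ev 0⟩
  obtain ⟨σ, hσ⟩ := h.hyp.ev.perm t (h.par.le (hT ht))
  have h1 := zz_conj hσ 0
  rw [h.fix0 t (hT ht) σ hσ] at h1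
  exact mul_inv_eq_iff_eq_mul.1 h1

/-- **`bl`** of `Five.five` -/
theorem bl (h : Pos S P ε) (hI : In S (zl (S : Subgroup G) P) P ε i j) :
    jj (S : Subgroup G) ≤ o2 P → ∀ R : Subgroup G, IsMinPar ((S : Subgroup G) ⊓ NN ε i j) R →
      R ≤ NN ε i j → ¬ jj (S : Subgroup G) ≤ o2 R → R ≤ centralizer ({zz ε 0} : Set G) := by
  intro hJ R hR hRN hJR
  set T := (S : Subgroup G) ⊓ NN ε i j with hTdef
  have hO : OmegaOne.Hyp (zl (S : Subgroup G) P) P S ε := by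
    refine ⟨h.hyp.ev, h.par.le, MinSimple.VModule.zc_le_zl _ _, h.hyp.pair, h.hyp.le, ?_⟩
    obtain ⟨a, b, hab, g, hg, -, hgV⟩ := h.hyp.mov
    exact ⟨a, b, hab, g, hg, hgV⟩
  have D := NoBlk.Main.dat_par h.c2 h.par h.hyp.ev (OmegaOne.zc_o2_par h.c2 h.hyp.n5 h.par hO) hJ
  have hV : zl (S : Subgroup G) P ≤ zc (o2 P) := h.par.isLoc.zl_le S h.c2
  have hinf := h.par.inf_centralizer S h.c2
  have hQT : o2 P ≤ T := by
    intro q hq
    have h1 : q ∈ (S : Subgroup G) ⊓ centralizer (zl (S : Subgroup G) P : Set G) := by rw [hinf]; exact hq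
    exact ⟨h1.1, mem_NN.2 (mem_centralizer_iff.1 h1.2 _ (rr_mem h.hyp.ev i j)).symm⟩
  have hVT : zl (S : Subgroup G) P ≤ T := (hV.trans (MinSimple.VModule.zc_le _)).trans hQT
  have hT : Syl T R := by
    obtain ⟨h1, h2, h3⟩ := hI.syl
    exact ⟨hR.le, h2, fun Q hQR hQ hTQ => h3 Q (hQR.trans hRN) hQ hTQ⟩
  have hcN : NN ε i j ⊓ centralizer (o2 (NN ε i j) : Set G) ≤ o2 (NN ε i j) :=
    MinSimple.Basic.char2_centralizer h.c2 (by rw [pow_two]; exact rr_sq hI.hyp.ev i j)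
      (rr_ne_one hI.hyp.ev hI.three hI.ij)
  have hc : R ⊓ centralizer (o2 R : Set G) ≤ o2 R := HTwo.StepFour.char2_of hcN hRN (hI.o2_le_T.trans hR.le)
  have h1 := NoBlk.Main.cen_zc FFBr.ffthm D (by have := h.m3; omega) hQT hT hR hc (rr_mem h.hyp.ev i j)
    (rr_ne_one hI.hyp.ev hI.three hI.ij) hRN hJR
  have h0 := zz_zero_mem h (T := T) inf_le_left hVT
  have h2 : oddGen R ≤ centralizer ({zz ε 0} : Set G) := fun x hx =>
    mem_centralizer_singleton_iff.2 (mem_centralizer_iff.1 (h1 h0) x hx)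
  have h3 : T ≤ centralizer ({zz ε 0} : Set G) := fun x hx =>
    mem_centralizer_singleton_iff.2 ((mem_zc.1 h0).2.1 x hx)
  rw [← TTn.DiCoreAbs.oddGen_sup hR.le (ZN.ChoiceSit.syl_not_dvd hT)]
  exact sup_le h2 h3

end Cfsg.Agent.Omega.NSix.HT.Bl

end

section


/-!
# OMEGA N6, #18920 (helper605): (3) plugged into (4) and (5)  (helper537)

* `key4 : Four.Key V ε i j` : (3) in the form of 605's (4);
* `ki` : the setting of (3) for `D = ⟨r_ij⟩`, `T = T₁`;
* `five` : (5) with (3) and 628's `Eight.cent` plugged; `bl` (107's THEOREM BL*) and `off` are left.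
-/

set_option autoImplicit false
set_option linter.unusedSectionVars false

namespace Cfsg.Agent.Omega.NSix.HT.FivePlug

open Subgroup Cfsg Cfsg.Agent.Omega.MinPar
open Cfsg.Agent.ZN (o2 zc zl jj zj)
open Cfsg.Agent.ZN.ChoiceSit (Syl)
open Cfsg.Agent.MinSimple.VModule (o2_le o2_isPGroup le_normalizer_o2 le_o2 mem_zc)
open Cfsg.Agent.Omega.S5.Def Cfsg.Agent.Omega.S5.Syl Cfsg.Agent.Omega.S5.Pair
open Cfsg.Agent.Omega.FFThm (Off)
open Cfsg.Agent.Omega.NSix.Base Cfsg.Agent.Omega.NSix.Basic Cfsg.Agent.Omega.NSix.Engine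
open Cfsg.Agent.Omega.NSix.CosetAct (V0 mem_V0)
open Cfsg.Agent.Omega.NSix.HTwo.LemTwo (In XX mem_XX KK_le_NN KK_eq V0_le_UU)
open Cfsg.Agent.Omega.NSix.HT.Five (Q0 fix_of_acts mv_iff)
open Cfsg.Agent.Omega.NSix.HT.Key (Ki)
open Cfsg.Agent.MinSimple.MinParabolic (IsMinPar)

universe u

section

variable {G : Type u} [Group G] [Finite G] {m : ℕ} {S : Sylow 2 G} {V P : Subgroup G}
  {ε : (Fin (2 ^ m + 1) → ZMod 2) → G} {i j : Fin (2 ^ m + 1)}

/-- **(3) for (4)** -/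
theorem key4 (h : In S V P ε i j) : Four.Key V ε i j := by
  intro D T R hD0 hr hT hR hRD hmv hcomm
  have hDV : D ≤ V := hD0.trans (HTwo.LemTwo.V0_le h.hyp)
  have hXT : XX ε i j ≤ T := XX_le_syl h hDV hT
  have hTs : Syl T (centralizer (D : Set G)) := syl_D h hDV hr hT
  have hRN : R ≤ NN ε i j := hRD.trans (centralizer_le_NN h hr)
  have hcomm' : ∀ g ∈ R, ∀ v ∈ V, ∀ w ∈ V, g * v * g⁻¹ * w = w * (g * v * g⁻¹) := by
    intro g hg v hv w hw
    have := hcomm g hg 1 (one_mem _) v hv w hw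
    rwa [one_mul, inv_one, mul_one] at this
  obtain ⟨⟨t, ht, htK⟩, h2, h3⟩ := Key.key h.hyp h.ij h.evL h.cut hr (hD0.trans V0_le_UU)
    (hT.1.trans inf_le_right) hXT hTs hR hRD ((mv_iff hRN).2 hmv) hcomm'
  refine ⟨fun t ht s hs htK hsK => ?_, fun h1 => htK (h1 ht), h3⟩
  have htR : t ∈ R := hR.le ht
  have h4 := h2 s hs t ht hsK htK
  have h5 : t⁻¹ * s = t⁻¹ * (s * t⁻¹) * t⁻¹⁻¹ := by group
  rw [h5]
  exact (mem_normalizer_iff.1 (le_normalizer_o2 _ (inv_mem htR)) _).1 h4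

/-- the setting of (3) for `D = ⟨r_ij⟩`, `T = T₁` -/
theorem ki (h : In S V P ε i j) {R : Subgroup G} (hR : IsMinPar ((S : Subgroup G) ⊓ NN ε i j) R)
    (hRN : R ≤ NN ε i j) (hmv : ¬ R ≤ normalizer (Q0 ε i j : Set G))
    (hcomm : ∀ g ∈ R, ∀ v ∈ V, ∀ w ∈ V, g * v * g⁻¹ * w = w * (g * v * g⁻¹)) :
    Ki V P ε i j ((S : Subgroup G) ⊓ NN ε i j) R where
  hyp := h.hyp
  ij := h.ij
  two := h.T_two
  min := hR
  syl := fun h1 => h.not_dvd (by
    rw [← relIndex_mul_relIndex _ R (NN ε i j) hR.le hRN]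
    exact h1.mul_right _)
  RN := hRN
  QT := h.o2_le_T
  Tfix := fun g hg => L_fix h hg.2 (h.SL hg.1)
  XT := h.XX_le_T
  XK := h.not_le_o2 hR.le hRN fun h1 => hmv fun g hg => L_fix h (hRN hg) (h1 hg)
  comm := hcomm
  mv := hmv

end

section

variable {G : Type u} [Group G] [Finite G] {m : ℕ} {S : Sylow 2 G} {P : Subgroup G}
  {ε : (Fin (2 ^ m + 1) → ZMod 2) → G} {i j : Fin (2 ^ m + 1)}

/-- **#18920 (5)** with (3) and `Eight.cent` -/
theorem five (hFF : FFThm.Stmt.{u}) (h : In S (zl (S : Subgroup G) P) P ε i j) (h3 : 3 ≤ m)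
    (hG : IsCharacteristicTwoType G) (hP : IsParS (S : Subgroup G) P)
    (off : ∀ A : Subgroup G, A ≤ (S : Subgroup G) → Off (zl (S : Subgroup G) P) A → Side A ε)
    (bl : jj (S : Subgroup G) ≤ o2 P → ∀ R : Subgroup G, IsMinPar ((S : Subgroup G) ⊓ NN ε i j) R →
      R ≤ NN ε i j → ¬ jj (S : Subgroup G) ≤ o2 R → R ≤ centralizer ({zz ε 0} : Set G))
    (hmv : ¬ NN ε i j ≤ normalizer (Q0 ε i j : Set G)) :
    ¬ NN ε i j ⊓ centralizer ({zz ε 0} : Set G) ≤ normalizer (Q0 ε i j : Set G) := by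
  have e1 : ∀ R : Subgroup G, IsMinPar ((S : Subgroup G) ⊓ NN ε i j) R → R ≤ NN ε i j →
      ¬ R ≤ normalizer (Q0 ε i j : Set G) →
      (∀ g ∈ R, ∀ g' ∈ R, ∀ v ∈ zl (S : Subgroup G) P, ∀ w ∈ zl (S : Subgroup G) P,
        g * v * g⁻¹ * (g' * w * g'⁻¹) = g' * w * g'⁻¹ * (g * v * g⁻¹)) →
      ∀ v ∈ zl (S : Subgroup G) P, (∀ t ∈ (S : Subgroup G) ⊓ NN ε i j, t * v = v * t) →
        ∀ r ∈ R, r * v = v * r := by
    intro R hR hRN hRmv hcomm v hv hT r hr
    refine (ki h hR hRN hRmv fun g hg v hv w hw => ?_).cent hv hT hr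
    have := hcomm g hg 1 (one_mem _) v hv w hw
    rwa [one_mul, inv_one, mul_one] at this
  have e2 : ¬ jj (S : Subgroup G) ≤ o2 P → ∀ R : Subgroup G, IsMinPar ((S : Subgroup G) ⊓ NN ε i j) R →
      R ≤ NN ε i j → ¬ R ≤ normalizer (zl (S : Subgroup G) P : Set G) →
      ∀ v ∈ zl (S : Subgroup G) P, (∀ t ∈ (S : Subgroup G) ⊓ NN ε i j, t * v = v * t) →
        ∀ r ∈ R, r * v = v * r := by
    intro hJ R hR hRN hRL v hv hT r hr
    have hH : CaseJ.Base.Hyp S P ε := ⟨hG, hP, h.hm, h.hyp.ev, h.fix0, off, hJ⟩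
    have h5 := CaseJ.Eight.cent hFF hH h3 i j h.ij h.swap R hR hRN hRL hr
    exact (mem_centralizer_iff.1 h5 v (mem_inf.2 ⟨hv, mem_centralizer_iff.2 hT⟩)).symm
  obtain ⟨R, -, h1, h2, h4⟩ := Five.five h hG hP e1 bl e2 hmv
  exact Five.moves ⟨R, h1, h2, h4⟩

end

end Cfsg.Agent.Omega.NSix.HT.FivePlug

end

section


/-!
# OMEGA N6, (H2) by #18920 (helper605): the end, K-free  (helper840)

* `comm_zz` : the conjugates of `V` under `C_G(z_k)` commute;
* `false_of` : (4), (5), (6) of #18920;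
* `symH2 : SymH2 K`, `symBig : S5.Main.SymBig K` for every class `K`.
-/

set_option autoImplicit false
set_option linter.unusedSectionVars false

namespace Cfsg.Agent.Omega.NSix.HT.EndMain

open Subgroup Cfsg Cfsg.Agent.Omega.MinPar
open Cfsg.Agent.ZN (o2 zc zl jj)
open Cfsg.Agent.MinSimple.VModule (o2_le o2_isPGroup le_normalizer_o2 le_o2 mem_zc)
open Cfsg.Agent.Omega.Frame (Ctx Cls)
open Cfsg.Agent.Omega.S5.Def Cfsg.Agent.Omega.S5.Syl
open Cfsg.Agent.Omega.NSix.Base Cfsg.Agent.Omega.NSix.Basic Cfsg.Agent.Omega.NSix.Engine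
open Cfsg.Agent.Omega.NSix.HTwo.LemTwo (XX In)
open Cfsg.Agent.Omega.NSix.HTwo.Main (Pos)
open Cfsg.Agent.Omega.S5.SymBig (H2 Pr SymH2)
open Cfsg.Agent.MinSimple.MinParabolic (IsMinPar)

universe u

variable {G : Type u} [Group G] [Finite G] {S : Sylow 2 G} {P : Subgroup G} {m : ℕ}
  {ε : (Fin (2 ^ m + 1) → ZMod 2) → G} {i j : Fin (2 ^ m + 1)}

/-- The conjugates of `V` under `C_G(z_k)` commute. -/
theorem comm_zz (h : Pos S P ε) (k : Fin (2 ^ m + 1)) :
    ∀ g ∈ centralizer ({zz ε k} : Set G), ∀ g' ∈ centralizer ({zz ε k} : Set G),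
      ∀ v ∈ zl (S : Subgroup G) P, ∀ w ∈ zl (S : Subgroup G) P,
        g * v * g⁻¹ * (g' * w * g'⁻¹) = g' * w * g'⁻¹ * (g * v * g⁻¹) := by
  intro g hg g' hg' v hv w hw
  have h1 := PtCen.le_o2_cent h.c2 S h.m3 h.hyp.ev h.par.le h.fix0 k hv
  have h2 := (mem_normalizer_iff.1 (le_normalizer_o2 _ (mul_mem (inv_mem hg') hg)) v).1 h1
  have h3 := mem_centralizer_iff.1 (Fix.o2_le_cent S h.m3 h.hyp.ev h.par.le h.fix0 k h2) w hw
  calc g * v * g⁻¹ * (g' * w * g'⁻¹) = g' * (g'⁻¹ * g * v * (g'⁻¹ * g)⁻¹ * w) * g'⁻¹ := by group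
    _ = g' * (w * (g'⁻¹ * g * v * (g'⁻¹ * g)⁻¹)) * g'⁻¹ := by rw [h3]
    _ = _ := by group

/-- **#18920, (1)-(6)** : a counterexample to (H2) does not exist. -/
theorem false_of (h : Pos S P ε) : False := by
  obtain ⟨i, j, hij, hsw⟩ := PairCen.exists_swap_mem (by have := h.m3; omega) h.hyp.ev
    (MinSimple.Basic.not_dvd_relIndex S h.par.le)
  have hI := HTwo.StepC.in_of h hij hsw
  refine FivePlug.five FFBr.ffthm hI h.m3 h.c2 h.par (fun A hA hoff => ?_) (Bl.bl h hI)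
    (Fix.not_le_normalizer h hI) ?_
  · exact EightIn.side_of_off h.hyp.ev hI.three (hA.trans h.par.le)
      (fun a ha σ hσ => h.fix0 a (hA ha) σ hσ) hoff
  · exact Four.four hI h.m3 (HTwo.StepC.nc_of h) (FivePlug.key4 hI) (comm_zz h 0)

/-- **(H2)** of N6 (`NSix`), for every class. -/
theorem symH2 (K : Cls.{u}) : SymH2 K := by
  intro G _ _ hG hK S _ _ _ _ _ P₁ P₂ y m m' ε ε₂ hm hm' hl _
  by_contra hno
  exact false_of (HTwo.Main.Pos.of (S5.SymBig.pr_of hG.char2 (by omega) hm' hl) hm hl.pair.star₁ hno)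

/-- **The leaf II.c**, for every class. -/
theorem symBig (K : Cls.{u}) : S5.Main.SymBig K := S5.SymBig.symBig_of (symH2 K)

end Cfsg.Agent.Omega.NSix.HT.EndMain

end

section


/-!
# OMEGA II.c: `S5.Main.NatBig` does not occur; the leaf II.c is closed  (helper629)

`V` the even-subset module of degree `2^m + 1 ≥ 9`, `V'` a natural four-group, `b ∈ V'` acts on `V` as `(i j)`.

* `rr_conj` : `r_ij = y z_0 y⁻¹`, so `y S y⁻¹ ≤ C_G(r_ij)`;
* `mov` : `[O₂(C_G(r_ij)), b] ≤ ⟨r_ij⟩`, so `V` satisfies `NSix.Engine.Hyp`;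
* `h2` : (H2) holds (`NSix.HT.EndMain.false_of`), so `C_G(r_ij) ≤ N_G(V)` (`NSix.EndL`), but `r_ij` is centralised by
  no Sylow 2-subgroup of `N_G(V)`: `natBig_false`;
* `natBig K`, `leafC K : FrameMulti.LeafC K` for every class `K`: no node N2, no (ML), no THEOREM SN.
-/

set_option autoImplicit false

namespace Cfsg.Agent.Omega.S5.NatZero

open Subgroup Pointwise Cfsg Cfsg.Agent.Omega.MinPar
open Cfsg.Agent.ZN (o2 zc zl)
open Cfsg.Agent.ZN.ChoiceBase (cj mem_cj cj_mono isPGroup_cj)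
open Cfsg.Agent.ZN.ChoiceSit (syl_conj)
open Cfsg.Agent.ZN.CaseTwo (syl_of_sylow)
open Cfsg.Agent.MinSimple.VModule (le_normalizer_zl zc_le_zl o2_isPGroup o2_le o2_le_of_sylow mem_zc)
open Cfsg.Agent.Omega.Frame
open Cfsg.Agent.Omega.S5.Def Cfsg.Agent.Omega.S5.Syl Cfsg.Agent.Omega.S5.Pair Cfsg.Agent.Omega.S5.Main
open Cfsg.Agent.Omega.NSix.Base Cfsg.Agent.Omega.NSix.Basic
open Cfsg.Agent.Omega.NSix.Zero (WP mem_WP)
open Cfsg.Agent.Omega.NSix.Engine (Hyp D4)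
open Cfsg.Agent.Omega.S5.SymBig (H2)

universe u

variable {G : Type u} [Group G]

/-- The point `z_0` is not a pair. -/
theorem rr_ne_zz {n : ℕ} {V P : Subgroup G} {ε : (Fin n → ZMod 2) → G} (h : EvenSet n V P ε) (hn : 5 ≤ n)
    (i j k : Fin n) : rr ε i j ≠ zz ε k := by
  classical
  intro h0
  have h1 : ε (Pi.single i 1 + Pi.single j 1 + Pi.single k 1) = 1 := by
    rw [h.add, h.add]
    change rr ε i j * zz ε k = 1
    rw [h0, zz_sq h]
  obtain ⟨l, hl⟩ : ∃ l : Fin n, l ∉ ({i, j, k} : Finset (Fin n)) := by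
    by_contra hcon
    push Not at hcon
    have h8 : (Finset.univ : Finset (Fin n)) ⊆ {i, j, k} := fun l _ => hcon l
    have h9 := Finset.card_le_card h8
    have h10 : ({i, j, k} : Finset (Fin n)).card ≤ 3 := Finset.card_le_three
    rw [Finset.card_univ, Fintype.card_fin] at h9
    omega
  simp only [Finset.mem_insert, Finset.mem_singleton, not_or] at hl
  have h2 : (Pi.single i 1 + Pi.single j 1 + Pi.single k 1 : Fin n → ZMod 2) l = 0 := by
    simp only [Pi.add_apply]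
    rw [Pi.single_eq_of_ne hl.1, Pi.single_eq_of_ne hl.2.1, Pi.single_eq_of_ne hl.2.2]
    rfl
  rcases (h.ker _).1 h1 with h3 | h3
  · have h4 := congrArg (fun x : Fin n → ZMod 2 => ∑ l, x l) h3
    simp only [Pi.add_apply, Finset.sum_add_distrib, Finset.sum_pi_single', Finset.mem_univ,
      if_true, Pi.zero_apply, Finset.sum_const_zero] at h4
    revert h4; decide
  · have h4 := congrFun h3 l
    rw [h2, Pi.one_apply] at h4
    exact zero_ne_one h4

variable [Finite G] {S : Sylow 2 G} {P₁ P₂ : Subgroup G} {y : G} {m : ℕ} {ε : (Fin (2 ^ m + 1) → ZMod 2) → G}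

/-- `Ω₁(Z(S)) = ⟨z_0⟩` -/
theorem zc_cases (hm : 2 ≤ m) (hl : Lab S P₁ P₂ y m ε) {x : G} (hx : x ∈ zc (S : Subgroup G)) :
    x = 1 ∨ x = zz ε 0 :=
  S5.Syl.fixed (by omega) hl.even hl.pair.star₁.le (MinSimple.Basic.not_dvd_relIndex S hl.pair.star₁.le) hl.fix0
    (zc_le_zl _ _ hx) fun s hs => (mem_zc.mp hx).2.1 s hs

theorem zz_comm_S (hm : 2 ≤ m) (hl : Lab S P₁ P₂ y m ε) : ∀ s ∈ (S : Subgroup G), s * zz ε 0 = zz ε 0 * s := by
  have hn3 : 3 ≤ 2 ^ m + 1 := three_le (by omega)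
  intro s hs
  obtain ⟨σ, hσ⟩ := hl.even.perm s (hl.pair.star₁.le hs)
  exact (hl.even.fixes_iff hn3 hσ 0).2 (hl.fix0 s hs σ hσ)

theorem zc_ne (hG : IsCharacteristicTwoType G) (hm : 2 ≤ m) (hl : Lab S P₁ P₂ y m ε) : zc (S : Subgroup G) ≠ ⊥ := by
  have hn3 : 3 ≤ 2 ^ m + 1 := three_le (by omega)
  have hVS : zl (S : Subgroup G) P₁ ≤ (S : Subgroup G) :=
    (hl.pair.star₁.isLoc.zl_le S hG).trans ((MinSimple.VModule.zc_le _).trans (hl.pair.star₁.isLoc.o2_le S))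
  have hzz : zz ε 0 ∈ zc (S : Subgroup G) :=
    mem_zc.mpr ⟨hVS (zz_mem hl.even 0), zz_comm_S hm hl, by rw [pow_two]; exact zz_sq hl.even 0⟩
  intro h0
  rw [h0, mem_bot] at hzz
  exact hl.even.single_ne_one hn3 0 hzz

/-- some `b ∈ V'` acts as `(i j)`, `r_ij = y z_0 y⁻¹` -/
theorem exists_b (hG : IsCharacteristicTwoType G) (hm : 2 ≤ m) (hl : Lab S P₁ P₂ y m ε)
    (h4 : Nat.card (zl (S : Subgroup G) P₂) = 4) :
    ∃ b ∈ cj y (zl (S : Subgroup G) P₂), ∃ i j, i ≠ j ∧ Acts ε b (Equiv.swap i j) ∧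
      rr ε i j = y * zz ε 0 * y⁻¹ := by
  have h := hl.even
  have hn3 : 3 ≤ 2 ^ m + 1 := three_le (by omega)
  obtain ⟨b, hb, i, j, hij, hbs⟩ := S5.Nat.exists_swap h hl.side hl.off₁.ne
  have hb' := mem_cj.mp hb
  refine ⟨b, hb, i, j, hij, hbs, ?_⟩
  have h1 : b * zz ε i * b⁻¹ = zz ε j := by
    have := hbs.single i
    rwa [Equiv.swap_apply_left] at this
  have h2 : rr ε i j = zz ε i * b * (zz ε i)⁻¹ * b⁻¹ := by
    unfold NSix.Base.rr
    rw [← h1, zz_inv h]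
    group
  have h3 : y⁻¹ * zz ε i * y ∈ (S : Subgroup G) := mem_cj.mp (hl.ge (zz_mem h i))
  have h5 := S5.NatBig.comm_mem_zc h4 (zc_ne hG hm hl) (zc_le_zl _ _)
    (hl.pair.star₂.le.trans (le_normalizer_zl _ _)) h3 hb'
  have h6 : y⁻¹ * rr ε i j * y =
      y⁻¹ * zz ε i * y * (y⁻¹ * b * y) * (y⁻¹ * zz ε i * y)⁻¹ * (y⁻¹ * b * y)⁻¹ := by
    rw [h2]; group
  rw [← h6] at h5
  have h7 : y⁻¹ * rr ε i j * y = zz ε 0 := by
    refine (zc_cases hm hl h5).resolve_left fun h0 => ?_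
    apply NSix.Basic.rr_ne_one h hn3 hij
    calc rr ε i j = y * (y⁻¹ * rr ε i j * y) * y⁻¹ := by group
      _ = 1 := by rw [h0, mul_one, mul_inv_cancel]
  rw [← h7]
  group

/-- `y S y⁻¹ ≤ C_G(r_ij)` -/
theorem cj_le_NN (hm : 2 ≤ m) (hl : Lab S P₁ P₂ y m ε) {i j : Fin (2 ^ m + 1)}
    (hr : rr ε i j = y * zz ε 0 * y⁻¹) : cj y (S : Subgroup G) ≤ NN ε i j := by
  intro s hs
  rw [mem_NN, hr]
  have h1 := zz_comm_S hm hl _ (mem_cj.mp hs)
  calc s * (y * zz ε 0 * y⁻¹) = y * (y⁻¹ * s * y * zz ε 0) * y⁻¹ := by group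
    _ = y * (zz ε 0 * (y⁻¹ * s * y)) * y⁻¹ := by rw [h1]
    _ = y * zz ε 0 * y⁻¹ * s := by group

/-- `[O₂(C_G(r_ij)), b] ≤ ⟨r_ij⟩` for `b ∈ V'` -/
theorem mem_WP_of (hG : IsCharacteristicTwoType G) (hm : 2 ≤ m) (hl : Lab S P₁ P₂ y m ε)
    (h4 : Nat.card (zl (S : Subgroup G) P₂) = 4) {i j : Fin (2 ^ m + 1)} (hr : rr ε i j = y * zz ε 0 * y⁻¹)
    {b : G} (hb : b ∈ cj y (zl (S : Subgroup G) P₂)) : b ∈ WP ε i j := by
  have hV'S : zl (S : Subgroup G) P₂ ≤ (S : Subgroup G) :=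
    (hl.pair.star₂.isLoc.zl_le S hG).trans ((MinSimple.VModule.zc_le _).trans (hl.pair.star₂.isLoc.o2_le S))
  rw [mem_WP]
  refine ⟨cj_le_NN hm hl hr (cj_mono y hV'S hb), fun q hq => ?_⟩
  have hq' : q ∈ cj y (S : Subgroup G) := by
    have h1 : cj y (S : Subgroup G) = ((y • S : Sylow 2 G) : Subgroup G) := (NSix.NoTk.coe_smul S y).symm
    have h2 : ¬ 2 ∣ (cj y (S : Subgroup G)).relIndex (NN ε i j) := by
      rw [h1]
      exact MinSimple.Basic.not_dvd_relIndex _ (by rw [← h1]; exact cj_le_NN hm hl hr)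
    refine o2_le_of_sylow ?_ h2 hq
    rw [h1]
    exact (y • S : Sylow 2 G).isPGroup'
  have h3 := mem_cj.mp hq'
  have h5 := S5.NatBig.comm_mem_zc h4 (zc_ne hG hm hl) (zc_le_zl _ _)
    (hl.pair.star₂.le.trans (le_normalizer_zl _ _)) h3 (mem_cj.mp hb)
  have h6 : b * q * b⁻¹ * q⁻¹ = y * (y⁻¹ * q * y * (y⁻¹ * b * y) * (y⁻¹ * q * y)⁻¹ * (y⁻¹ * b * y)⁻¹)⁻¹ * y⁻¹ := by
    group
  rw [h6]
  rcases zc_cases hm hl h5 with h7 | h7
  · rw [h7, inv_one, mul_one, mul_inv_cancel]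
    exact one_mem _
  · rw [h7, zz_inv hl.even, ← hr]
    exact mem_zpowers _

/-- `Engine.Hyp` -/
theorem hyp (hG : IsCharacteristicTwoType G) (hm : 3 ≤ m) (hl : Lab S P₁ P₂ y m ε)
    (h4 : Nat.card (zl (S : Subgroup G) P₂) = 4) : Hyp (zl (S : Subgroup G) P₁) P₁ ε := by
  have hs : NSix.AllFacts.Sit S (zl (S : Subgroup G) P₁) P₁ ε :=
    ⟨hG, hm, hl.even, hl.pair.star₁.le, hl.fix0, zc_le_zl _ _⟩
  obtain ⟨b, hb, i, j, hij, hbs, hr⟩ := exists_b hG (by omega) hl h4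
  refine Hyp.of hG (five_le (by omega)) (Even.add_one (Nat.even_pow.mpr ⟨even_two, by omega⟩)) hl.even S
    hl.pair.star₁.le (zc_le_zl _ _) (fun i j k hij hki hkj q hq => hs.pair hij hki hkj hq)
    (fun i j hij => hs.o2_le_P hij) ⟨i, j, hij, b, mem_WP_of hG (by omega) hl h4 hr hb, ?_, ?_⟩
  · have h5 : b * b = 1 := by
      have h6 := MinSimple.VModule.mem_zc.mp (hl.pair.star₂.isLoc.zl_le S hG (mem_cj.mp hb))
      calc b * b = y * ((y⁻¹ * b * y) ^ 2) * y⁻¹ := by rw [pow_two]; group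
        _ = 1 := by rw [h6.2.2, mul_one, mul_inv_cancel]
    rw [h5]
    exact one_mem _
  · intro h0
    have h1 := hl.even.acts_unique (three_le (by omega)) (hl.even.acts_one_iff.mpr h0) hbs
    exact hij (Equiv.swap_eq_one_iff.mp h1.symm)

/-- **`NatBig` does not occur.** -/
theorem natBig_false (hG : IsCharacteristicTwoType G) (hm : 3 ≤ m) (hl : Lab S P₁ P₂ y m ε)
    (h4 : Nat.card (zl (S : Subgroup G) P₂) = 4) : False := by
  have hn5 : 5 ≤ 2 ^ m + 1 := five_le (by omega)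
  have hn3 : 3 ≤ 2 ^ m + 1 := by omega
  have hh := hyp hG hm hl h4
  by_cases h2 : H2 ε
  · obtain ⟨b, hb, i, j, hij, hbs, hr⟩ := exists_b hG (by omega) hl h4
    have h7 : 7 ≤ 2 ^ m + 1 := by
      have : 2 ^ 3 ≤ 2 ^ m := Nat.pow_le_pow_right (by norm_num) hm
      omega
    have hs : NSix.AllFacts.Sit S (zl (S : Subgroup G) P₁) P₁ ε :=
      ⟨hG, hm, hl.even, hl.pair.star₁.le, hl.fix0, zc_le_zl _ _⟩
    have h1 := NSix.Zero.sixL hG hm hl.even S hl.pair.star₁.le hl.fix0 (zc_le_zl _ _)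
      (fun i j k hij hki hkj q hq => hs.pair hij hki hkj hq) (fun i j hij => hs.o2_le_P hij) h2 (by
        obtain ⟨i, j, hij, g, hg, -, hgV⟩ := hh.mov
        exact ⟨i, j, hij, g, hg, hgV⟩)
    have h3 := NSix.EndL.SixL.nn_le h1 (Even.add_one (Nat.even_pow.mpr ⟨even_two, by omega⟩)) h7 hij
    -- `y S y⁻¹` is Sylow in `N_G(V)`
    have h5 : cj y (S : Subgroup G) ≤ normalizer (zl (S : Subgroup G) P₁ : Set G) :=
      (cj_le_NN (by omega) hl hr).trans h3
    have h6 : (S : Subgroup G) ≤ normalizer (zl (S : Subgroup G) P₁ : Set G) :=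
      hl.pair.star₁.le.trans (le_normalizer_zl _ _)
    have hev := NSix.Norm.evenSet' (by omega) S hl.even hl.pair.star₁.le hl.fix0
    -- a conjugate of `r_ij` under `N_G(V)` is fixed by `S`
    have hyS : cj y (S : Subgroup G) = ((y • S : Sylow 2 G) : Subgroup G) := (NSix.NoTk.coe_smul S y).symm
    obtain ⟨g, hg, hgS⟩ := syl_conj (syl_of_sylow S h6)
      (T := cj y (S : Subgroup G)) (by rw [hyS]; exact syl_of_sylow _ (by rw [← hyS]; exact h5))
    obtain ⟨σ, hσ⟩ := hev.perm g⁻¹ (inv_mem hg)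
    have h8 := rr_conj hσ i j
    have hne : σ i ≠ σ j := fun e => hij (σ.injective e)
    have hfix : ∀ s ∈ (S : Subgroup G), s * rr ε (σ i) (σ j) = rr ε (σ i) (σ j) * s := by
      intro s hs
      have h9 : g * s * g⁻¹ ∈ cj y (S : Subgroup G) := by
        rw [← hgS, mem_cj]
        have : g⁻¹ * (g * s * g⁻¹) * g = s := by group
        rw [this]
        exact hs
      have h10 := mem_NN.mp (cj_le_NN (by omega) hl hr h9)
      rw [← h8]
      calc s * (g⁻¹ * rr ε i j * g⁻¹⁻¹) = g⁻¹ * (g * s * g⁻¹ * rr ε i j) * g := by group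
        _ = g⁻¹ * (rr ε i j * (g * s * g⁻¹)) * g := by rw [h10]
        _ = _ := by group
    rcases S5.Syl.fixed (by omega) hl.even hl.pair.star₁.le
      (MinSimple.Basic.not_dvd_relIndex S hl.pair.star₁.le) hl.fix0 (rr_mem hl.even _ _) hfix with h9 | h9
    · exact rr_ne_one hl.even hn3 hne h9
    · exact rr_ne_zz hl.even hn5 _ _ 0 h9
  · refine NSix.HT.EndMain.false_of (S := S) (P := P₁) (ε := ε) ⟨hG, hm, hl.pair.star₁, hh, hl.fix0, ?_⟩
    exact fun i j k l hD hc => h2 fun a b c d hab hcd hac had hbc hbd =>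
      hh.hq_of_comm (fun {_ _ _ _} hD' => hh.comm_transfer hD hD' hc) ⟨hab, hac, had, hbc, hbd, hcd⟩

/-! ### The leaf II.c -/

theorem natBig (K : Cls.{u}) : NatBig K := fun _ _ _ hG _ _ _ _ _ _ _ _ _ _ _ _ hm hl _ _ h4 =>
  (natBig_false hG.char2 hm hl h4).elim

/-- **II.c is closed**: no open input, for every class. -/
theorem leafC (K : Cls.{u}) : FrameMulti.LeafC K :=
  NTwo.Zero.leafC_of TTn.ttNon_main (natBig K) (NSix.HT.EndMain.symBig K)

end Cfsg.Agent.Omega.S5.NatZero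

end

end

-- merged: Cfsg.Agent.Mrg.Omega.IId.SymMany.End
section

/-!
# The END: `V_l ≤ V'` for `l ≠ i` and `C_G(n) ≤ N_G(V')`, `n = z_i = r_ab ∈ V'`, are contradictory (`n ≥ 9` labels)

`V' = ` the even-subset module of an odd number of labels.
* `even_unique`, `exists_even` : the even representative;
* `Hq` : the group of permutations induced by `Q_v`, `1 ≠ v ∈ V_l`; `wt_le_four` : `v` is an even set of at most 4 points;
* `end_false`.
-/

set_option autoImplicit false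
set_option linter.unusedSectionVars false

namespace Cfsg.Agent.Omega.IId.SymMany

open scoped Pointwise
open Subgroup Cfsg
open Cfsg.Agent.ZN (o2 zc)
open Cfsg.Agent.MinSimple.VModule (le_o2 le_normalizer_o2 mem_zc o2_isPGroup o2_le)
open Triangle (KK KK_conj KK_le_o2 mem_cent mem_KK mem_zpowers_iff_of_sq cent_conj o2_cent_conj)
open Cfsg.Agent.Omega.ThmC
open Cfsg.Agent.Omega.IId.Big
open Cfsg.Agent.Omega.S5.Def
open Cfsg.Agent.Omega.NSix.Base (zz rr)

universe u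

variable {G : Type u} [Group G]

section even

variable {n : ℕ} {V' L : Subgroup G} {ε : (Fin n → ZMod 2) → G} (ev : EvenSet n V' L ε)
include ev

theorem even_unique (hn : Odd n) {x y : Fin n → ZMod 2} (hx : ∑ t, x t = 0) (hy : ∑ t, y t = 0)
    (h : ε x = ε y) : x = y := by
  rcases ev.eq_iff.1 h with h1 | h1
  · exact h1
  · exfalso
    have h2 : ∑ t, x t = ∑ t, (y t + 1) := by rw [h1]; rfl
    rw [hx, Finset.sum_add_distrib, hy, zero_add, Finset.sum_const, Finset.card_univ, Fintype.card_fin,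
      nsmul_eq_mul, mul_one] at h2
    have h3 := (ZMod.natCast_eq_zero_iff _ _).1 h2.symm
    obtain ⟨k, hk⟩ := hn
    omega

theorem exists_even (hn : Odd n) {v : G} (hv : v ∈ V') : ∃ x, ε x = v ∧ ∑ t, x t = 0 := by
  obtain ⟨x, rfl⟩ := ev.surj v hv
  rcases z2c (∑ t, x t) with h1 | h1
  · exact ⟨x, rfl, h1⟩
  · refine ⟨x + 1, by rw [ev.add, ev.one, mul_one], ?_⟩
    have h2 : ∑ t, (x + 1) t = ∑ t, x t + ∑ _t : Fin n, (1 : ZMod 2) := Finset.sum_add_distrib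
    rw [h2, h1, Finset.sum_const, Finset.card_univ, Fintype.card_fin, nsmul_eq_mul, mul_one]
    obtain ⟨k, rfl⟩ := hn
    push_cast
    have h3 : (2 : ZMod 2) = 0 := by decide
    rw [h3, zero_mul, zero_add]
    decide

omit ev in
theorem sum_comp {x : Fin n → ZMod 2} (σ : Equiv.Perm (Fin n)) (hx : ∑ t, x t = 0) :
    ∑ t, (x ∘ σ.symm) t = 0 := by
  rw [← hx]
  exact Equiv.sum_comp σ.symm x

theorem acts_pow {g : G} {σ : Equiv.Perm (Fin n)} (hg : Acts ε g σ) : ∀ k : ℕ, Acts ε (g ^ k) (σ ^ k)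
  | 0 => by rw [pow_zero, pow_zero]; exact Acts.one
  | k + 1 => by rw [pow_succ, pow_succ]; exact (acts_pow hg k).mul hg

end even

section main

variable [Finite G] {ι : Type} {S : Subgroup G} {V : ι → Subgroup G} (h : Fr S V)
  {n : ℕ} {V' L : Subgroup G} {ε : (Fin n → ZMod 2) → G} (ev : EvenSet n V' L ε)

/-- the permutations induced by a subgroup `A` -/
def Hq (ε : (Fin n → ZMod 2) → G) (A : Subgroup G) : Subgroup (Equiv.Perm (Fin n)) where
  carrier := {σ | ∃ g ∈ A, Acts ε g σ}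
  one_mem' := ⟨1, one_mem _, Acts.one⟩
  mul_mem' := by
    rintro σ τ ⟨g, hg, h1⟩ ⟨k, hk, h2⟩
    exact ⟨g * k, mul_mem hg hk, h1.mul h2⟩
  inv_mem' := by
    rintro σ ⟨g, hg, h1⟩
    exact ⟨g⁻¹, inv_mem hg, h1.inv⟩

include h ev

/-- **`v ∈ V_l` is an even set of at most 4 points** -/
theorem wt_le_four (hn : Odd n) (hn3 : 3 ≤ n) {l : ι} (hV : V l ≤ V') {v : G} (hv : v ∈ V l) (hv1 : v ≠ 1)
    (hL : o2 (centralizer ({v} : Set G)) ≤ L) {x : Fin n → ZMod 2} (hx : ε x = v) (h0 : ∑ t, x t = 0) :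
    wt x ≤ 4 := by
  set Q := o2 (centralizer ({v} : Set G)) with hQ
  have hcx : ∀ {g : G} {σ : Equiv.Perm (Fin n)}, Acts ε g σ → g * v = v * g → x ∘ σ.symm = x := by
    intro g σ hg hgv
    refine even_unique ev hn (sum_comp σ h0) h0 ?_
    rw [← hg x, hx, hgv, mul_inv_cancel_right]
  have hH : Hc x (Hq ε Q) := by
    refine ⟨?_, ?_, ?_⟩
    · rintro σ ⟨g, hg, hσ⟩
      obtain ⟨s, hs⟩ := o2_isPGroup (centralizer ({v} : Set G)) ⟨g, hg⟩
      have hs' : g ^ 2 ^ s = 1 := by simpa using congrArg Subtype.val hs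
      refine ⟨s, ev.acts_unique hn3 (g := g ^ 2 ^ s) (acts_pow ev hσ _) ?_⟩
      rw [hs']
      exact Acts.one
    · rintro σ ⟨g, hg, hσ⟩ t
      have h1 := congrFun (hcx hσ (mem_cent.1 (o2_le _ hg))) (σ t)
      rw [Function.comp_apply, Equiv.symm_apply_apply] at h1
      exact h1.symm
    · rintro d e hde σ ⟨g, hg, hσ⟩
      obtain ⟨p, hp, hpa⟩ := ev.full (Equiv.swap d e)
      have h1 : p * v = v * p := by
        have h2 := hpa x
        have h3 : x ∘ (Equiv.swap d e).symm = x := by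
          funext t
          rw [Function.comp_apply, Equiv.symm_swap]
          by_cases ht : t = d
          · rw [ht, Equiv.swap_apply_left, hde]
          by_cases ht' : t = e
          · rw [ht', Equiv.swap_apply_right, hde]
          rw [Equiv.swap_apply_of_ne_of_ne ht ht']
        rw [h3, hx] at h2
        exact mul_inv_eq_iff_eq_mul.1 h2
      have h2 : p * g * p⁻¹ ∈ Q := (mem_normalizer_iff.1 (le_normalizer_o2 _ (mem_cent.2 h1)) g).1 hg
      have h3 := hpa.conj hσ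
      rw [Equiv.swap_inv] at h3
      exact ⟨_, h2, h3⟩
  refine hH.wt_le hn h0 ?_
  obtain ⟨g, hg, y, hy, hgy⟩ := h.WV l v hv hv1
  have hgQ := h.KK_le_q hv hv1 hg
  obtain ⟨σ, hσ⟩ := ev.perm g (hL hgQ)
  refine ⟨σ, ⟨g, hgQ, hσ⟩, ?_⟩
  rintro rfl
  exact hgy (mem_centralizer_iff.1 (ev.acts_one_iff.1 hσ) y (hV hy)).symm

/-- a permutation of the three points of `V_l` fixes their union -/
theorem union_fix (hn : Odd n) {l : ι} {v v' : G} (hv : v ∈ V l) (hv' : v' ∈ V l) (hv1 : v ≠ 1)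
    (hv1' : v' ≠ 1) (hvv : v ≠ v') {x x' : Fin n → ZMod 2} (hx : ε x = v) (hx0 : ∑ t, x t = 0)
    (hx' : ε x' = v') (hx0' : ∑ t, x' t = 0) {g : G} {σ : Equiv.Perm (Fin n)} (hσ : Acts ε g σ)
    (hg : ∀ y ∈ V l, g * y * g⁻¹ ∈ V l) : g * ε (x + x' + x * x') * g⁻¹ = ε (x + x' + x * x') := by
  have hs : ∑ t, (x + x') t = 0 := by
    have : ∑ t, (x + x') t = ∑ t, x t + ∑ t, x' t := Finset.sum_add_distrib
    rw [this, hx0, hx0', add_zero]
  have key : ∀ {y : Fin n → ZMod 2}, ∑ t, y t = 0 → ε y ∈ V l → ε y ≠ 1 →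
      y ∘ σ.symm = x ∨ y ∘ σ.symm = x' ∨ y ∘ σ.symm = x + x' := by
    intro y hy hyV hy1
    have h1 := hσ y
    have h2 := hg _ hyV
    have h3 : g * ε y * g⁻¹ ≠ 1 := fun h0 => hy1 (by
      calc ε y = g⁻¹ * (g * ε y * g⁻¹) * g := by group
        _ = 1 := by rw [h0]; group)
    rcases h.cases4 hv hv' hv1 hv1' hvv h2 with h4 | h4 | h4 | h4
    · exact absurd h4 h3
    · left
      exact even_unique ev hn (sum_comp σ hy) hx0 (by rw [← h1, h4, hx])
    · right; left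
      exact even_unique ev hn (sum_comp σ hy) hx0' (by rw [← h1, h4, hx'])
    · right; right
      exact even_unique ev hn (sum_comp σ hy) hs (by rw [← h1, h4, ev.add, hx, hx'])
  have k1 := key hx0 (by rw [hx]; exact hv) (by rw [hx]; exact hv1)
  have k2 := key hx0' (by rw [hx']; exact hv') (by rw [hx']; exact hv1')
  have hne : x ∘ σ.symm ≠ x' ∘ σ.symm := by
    intro h0
    apply hvv
    have h1 : x = x' := by
      funext t
      have := congrFun h0 (σ t)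
      rwa [Function.comp_apply, Function.comp_apply, Equiv.symm_apply_apply] at this
    rw [← hx, ← hx', h1]
  rw [hσ]
  congr 1
  have e : (x + x' + x * x') ∘ σ.symm = x ∘ σ.symm + x' ∘ σ.symm + (x ∘ σ.symm) * (x' ∘ σ.symm) := rfl
  rw [e]
  have z1 : ∀ a b : ZMod 2, b + a + b * a = a + b + a * b := by decide
  have z2 : ∀ a b : ZMod 2, a + (a + b) + a * (a + b) = a + b + a * b := by decide
  have z3 : ∀ a b : ZMod 2, b + (a + b) + b * (a + b) = a + b + a * b := by decide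
  have z4 : ∀ a b : ZMod 2, (a + b) + a + (a + b) * a = a + b + a * b := by decide
  have z5 : ∀ a b : ZMod 2, (a + b) + b + (a + b) * b = a + b + a * b := by decide
  rcases k1 with h1 | h1 | h1 <;> rcases k2 with h2 | h2 | h2
  · exact absurd (h1.trans h2.symm) hne
  · rw [h1, h2]
  · rw [h1, h2]; exact funext fun t => z2 _ _
  · rw [h1, h2]; exact funext fun t => z1 _ _
  · exact absurd (h1.trans h2.symm) hne
  · rw [h1, h2]; exact funext fun t => z3 _ _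
  · rw [h1, h2]; exact funext fun t => z4 _ _
  · rw [h1, h2]; exact funext fun t => z5 _ _
  · exact absurd (h1.trans h2.symm) hne

end main

section fin

variable [Finite G] {S : Sylow 2 G} {Q : Subgroup G} {ι : Type} {Z : ι → Subgroup G} {x z : ι → G}
variable [Finite ι] {D : Dat S Q Z x z} {V : ι → Subgroup G} (R : Rd D V)
  {n : ℕ} {V' L : Subgroup G} {ε : (Fin n → ZMod 2) → G} (ev : EvenSet n V' L ε)
include R ev

/-- **The END.** -/
theorem end_false (hn : Odd n) (hn9 : 9 ≤ n) {i l : ι} (hl : l ≠ i) (hι : ∀ i : ι, ∃ j, j ≠ i)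
    {a b : Fin n} (hab : a ≠ b) (hz : z i = rr ε a b) (hL : centralizer ({z i} : Set G) ≤ L)
    (hV : V l ≤ V') : False := by
  have hn3 : 3 ≤ n := by omega
  have hfr := R.fr
  obtain ⟨v, hv, v', hv', hv1, hv1', hvv⟩ := hfr.exists_two l
  obtain ⟨x, hx, hx0⟩ := exists_even ev hn (hV hv)
  obtain ⟨x', hx', hx0'⟩ := exists_even ev hn (hV hv')
  have hs : ∑ t, (x + x') t = 0 := by
    have : ∑ t, (x + x') t = ∑ t, x t + ∑ t, x' t := Finset.sum_add_distrib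
    rw [this, hx0, hx0', add_zero]
  have hvv1 : v * v' ≠ 1 := fun h0 => hvv (by
    have h1 := hfr.sq l v' hv'
    exact mul_right_cancel (h0.trans h1.symm))
  have hQL : ∀ {l' : ι}, l' ≠ i → ∀ {w : G}, w ∈ V l' → w ≠ 1 → o2 (centralizer ({w} : Set G)) ≤ L :=
    fun {l'} hl' {w} hw hw1 => (hfr.q_le (Ne.symm hl') hw hw1 (R.zV i)).trans hL
  have hwt : ∀ {w : G} {y : Fin n → ZMod 2}, w ∈ V l → w ≠ 1 → ε y = w → ∑ t, y t = 0 → 2 ≤ wt y ∧ wt y ≤ 4 := by
    intro w y hw hw1 hy hy0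
    refine ⟨two_le_wt hy0 ?_, wt_le_four hfr ev hn hn3 hV hw hw1 (hQL hl hw hw1) hy hy0⟩
    rintro rfl
    exact hw1 (by rw [← hy, ev.zero])
  have w1 := hwt hv hv1 hx hx0
  have w2 := hwt hv' hv1' hx' hx0'
  have w3 := hwt (mul_mem hv hv') hvv1 (by rw [ev.add, hx, hx']) hs
  have w4 := wt_union x x'
  set u := x + x' + x * x' with hu
  set e := ε u with he
  -- `e ≠ 1`, `e ≠ z i`
  have he1 : e ≠ 1 := by
    intro h0
    rcases (ev.ker u).1 h0 with h1 | h1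
    · rw [h1, wt_zero] at w4; omega
    · have h2 := wt_add_one (0 : Fin n → ZMod 2)
      rw [zero_add, wt_zero] at h2
      rw [h1] at w4; omega
  have hei : e ≠ z i := by
    intro h0
    have h1 : ε u = ε (Pi.single a 1 + Pi.single b 1) := (h0.trans hz).trans (ev.add _ _).symm
    have h2 : wt (Pi.single a 1 + Pi.single b 1 : Fin n → ZMod 2) = 2 := wt_single_add hab
    have h3 := wt_add_one (Pi.single a 1 + Pi.single b 1 : Fin n → ZMod 2)
    rcases ev.eq_iff.1 h1 with h4 | h4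
    · rw [h4] at w4; omega
    · rw [h4] at w4; omega
  -- invariance
  have hinv : ∀ g ∈ L, (∀ y ∈ V l, g * y * g⁻¹ ∈ V l) → g * e * g⁻¹ = e := by
    intro g hg hgV
    obtain ⟨σ, hσ⟩ := ev.perm g hg
    exact union_fix hfr ev hn hv hv' hv1 hv1' hvv hx hx0 hx' hx0' hσ hgV
  have heE : e ∈ zc (S0 (S : Subgroup G) Z) := by
    refine R.mem_E_of le_rfl (ev.sq u) fun t ht => ?_
    have h1 : t ∈ centralizer ({z i} : Set G) := mem_cent.2 ((mem_zc.1 (D.z_mem_E i)).2.1 t ht)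
    have h2 := hinv t (hL h1) fun y hy => (mem_normalizer_iff.1 (R.S0_norm l ht) y).1 hy
    exact (mul_inv_eq_iff_eq_mul.1 h2).symm
  obtain ⟨l', hl', e', he', hee⟩ := R.exists_comp hι heE he1 hei
  obtain ⟨w, hw, hw1, hzw⟩ := hfr.exists_other (i := l') (z l')
  obtain ⟨g, hg, hgz⟩ := hfr.move hw (R.zV l') hw1 (D.z1 l') (Ne.symm hzw)
  have hgQ := hfr.KK_le_q hw hw1 hg
  have hge' : g * e' * g⁻¹ = e' := Big.conj_of_comm (hfr.Vo_cent hw hw1 he' hgQ)
  have hgV : ∀ y ∈ V l, g * y * g⁻¹ ∈ V l := by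
    intro y hy
    by_cases hll : l = l'
    · subst hll
      rcases hfr.KK_act hw hg (hfr.VQ l l w hw hw1 hy) with h1 | h1
      · rw [h1]; exact hy
      · rw [h1]; exact mul_mem hw hy
    · rw [Big.conj_of_comm (hfr.Qc l' l hll w hw hw1 g hgQ y hy)]
      exact hy
  have h1 := hinv g (hQL hl' hw hw1 hgQ) hgV
  apply hw1
  have h2 : g * e * g⁻¹ = w * e := by
    rw [hee]
    calc g * (z l' * e') * g⁻¹ = (g * z l' * g⁻¹) * (g * e' * g⁻¹) := by group
      _ = w * (z l' * e') := by rw [hgz, hge']; group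
  rw [h1] at h2
  exact (mul_eq_right.1 h2.symm)

end fin

end Cfsg.Agent.Omega.IId.SymMany

end
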